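import Cfsg.Agent.SolvStruct.Zassenhaus.Pairs
import Cfsg.Agent.Frobenius.ProductComplement

/-!
A Frobenius complement, and a group of fixed-point-free automorphisms, have fixed-point-free rational representations.
-/

set_option autoImplicit false

universe u v

namespace Cfsg.Lib.SolvStruct.Zassenhaus

open Cfsg.Lib.Frobenius.ProductComplement
open scoped Pointwise

/-- the representation attached to the numerical criterion -/
theorem exists_fpf_rep {G : Type u} [Group G] [Finite G] (h : Crit G) :
    ∃ (V : Submodule ℚ (G → ℚ)) (φ : G →* Module.End ℚ V), Nontrivial V ∧ IsFpf (R := Module.End ℚ V) φ := by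
  classical
  obtain ⟨ψ, hψ1, hψ⟩ := h
  haveI := Fintype.ofFinite G
  let V : Submodule ℚ (G → ℚ) :=
    { carrier := {f | SumZero G f}
      add_mem' := fun {f g} hf hg c hc z => by
        simp only [Pi.add_apply, Finset.sum_add_distrib]; rw [hf c hc z, hg c hc z, add_zero]
      zero_mem' := fun c _ z => by simp
      smul_mem' := fun a f hf c hc z => by
        simp only [Pi.smul_apply, smul_eq_mul, ← Finset.mul_sum]; rw [hf c hc z, mul_zero] }
  have hsh : ∀ (g : G), ∀ f ∈ V, (fun z => f (z * g)) ∈ V := fun g f hf c hc z => by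
    have := hf c hc (z * g)
    simpa [mul_assoc] using this
  let σ : G →* Module.End ℚ V :=
    { toFun := fun g =>
        { toFun := fun f => ⟨fun z => (f : G → ℚ) (z * g), hsh g f f.2⟩
          map_add' := fun f f' => Subtype.ext (funext fun z => rfl)
          map_smul' := fun a f => Subtype.ext (funext fun z => rfl) }
      map_one' := LinearMap.ext fun f => Subtype.ext (funext fun z => by
        show (f : G → ℚ) (z * 1) = _
        rw [mul_one]; rfl)
      map_mul' := fun a b => LinearMap.ext fun f => Subtype.ext (funext fun z => by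
        show (f : G → ℚ) (z * (a * b)) = (f : G → ℚ) (z * a * b)
        rw [mul_assoc]) }
  have hfpf : ∀ g : G, g ≠ 1 → ∀ f : V, σ g f = f → f = 0 := by
    intro g hg f hf
    have hinv : ∀ (i : ℕ) (z : G), (f : G → ℚ) (z * g ^ i) = (f : G → ℚ) z := by
      intro i
      induction i with
      | zero => simp
      | succ i ih =>
        intro z
        rw [pow_succ, ← mul_assoc]
        exact (congrFun (congrArg Subtype.val hf) (z * g ^ i)).trans (ih z)
    obtain ⟨q, hq, hqd⟩ := Nat.exists_prime_and_dvd (show orderOf g ≠ 1 by simpa using hg)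
    set c := g ^ (orderOf g / q) with hc
    have hoc : orderOf c = q := orderOf_pow_orderOf_div (orderOf_pos g).ne' hqd
    ext z
    have := f.2 (z * c * z⁻¹) (by rw [← MulAut.conj_apply, MulEquiv.orderOf_eq, hoc]; exact hq) z
    rw [← MulAut.conj_apply, MulEquiv.orderOf_eq, hoc] at this
    simp only [MulAut.conj_apply, conj_pow, inv_mul_cancel_right, hc, ← pow_mul, hinv, Finset.sum_const, Finset.card_range,
      nsmul_eq_mul, mul_eq_zero] at this
    rcases this with h | h
    · exact absurd (Nat.cast_eq_zero.mp h) hq.ne_zero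
    · simpa using h
  haveI hnt : Nontrivial V :=
    ⟨⟨⟨ψ, hψ⟩, 0, fun e => hψ1 (congrFun (congrArg Subtype.val e) 1)⟩⟩
  refine ⟨V, σ, hnt, fun g hg => ?_⟩
  rw [Module.End.isUnit_iff]
  have hinj : Function.Injective ⇑(σ g - (1 : Module.End ℚ V)) := (injective_iff_map_eq_zero _).2 fun f hf => by
    refine hfpf g hg f ?_
    simpa [sub_eq_zero] using hf
  exact ⟨hinj, LinearMap.injective_iff_surjective.1 hinj⟩

/-- a group acting without fixed points on a finite group satisfies the criterion -/
theorem crit_of_fpf_action {G : Type u} [Group G] [Finite G] [Nontrivial G] {K : Type v} [Group K] [Finite K]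
    (θ : G →* MulAut K) (hθ : ∀ g : G, g ≠ 1 → ∀ k : K, θ g k = k → k = 1) [Nontrivial K] : Crit G := by
  haveI : Finite (K ⋊[θ] G) := Finite.of_equiv _ SemidirectProduct.equivProd.symm
  have hinj : Function.Injective (SemidirectProduct.inr : G →* K ⋊[θ] G) :=
    SemidirectProduct.inr_injective
  have hFC : Cfsg.IsFrobeniusComplement (SemidirectProduct.inr : G →* K ⋊[θ] G).range := by
    refine ⟨?_, ?_, fun g hg => ?_⟩
    · obtain ⟨a, ha⟩ := exists_ne (1 : G)
      exact fun e => ha (hinj (by
        have : SemidirectProduct.inr a ∈ (SemidirectProduct.inr : G →* K ⋊[θ] G).range := ⟨a, rfl⟩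
        rw [e, Subgroup.mem_bot] at this
        rw [this, map_one]))
    · obtain ⟨k, hk⟩ := exists_ne (1 : K)
      intro e
      obtain ⟨a, ha⟩ : SemidirectProduct.inl k ∈ (SemidirectProduct.inr : G →* K ⋊[θ] G).range := by
        rw [e]; exact Subgroup.mem_top _
      exact hk (by simpa using (congrArg SemidirectProduct.left ha).symm)
    · rw [eq_bot_iff]
      rintro x ⟨⟨a, rfl⟩, hx⟩
      replace hx : SemidirectProduct.inr a ∈ MulAut.conj g • (SemidirectProduct.inr : G →* K ⋊[θ] G).range := hx
      rw [Subgroup.mem_pointwise_smul_iff_inv_smul_mem] at hx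
      obtain ⟨b, hb⟩ := hx
      rw [MulAut.smul_def, MulAut.conj_inv_apply] at hb
      rw [Subgroup.mem_bot]
      by_contra hne
      have ha1 : a ≠ 1 := fun e => hne (by rw [e, map_one])
      have hb' : g * SemidirectProduct.inr b = SemidirectProduct.inr a * g := by rw [hb]; group
      have hl := congrArg SemidirectProduct.left hb'
      simp only [SemidirectProduct.mul_left, SemidirectProduct.left_inr, map_one, mul_one,
        SemidirectProduct.right_inr, one_mul] at hl
      refine hg ⟨g.right, SemidirectProduct.ext ?_ (by simp)⟩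
      rw [SemidirectProduct.left_inr]
      exact (hθ a ha1 _ hl.symm).symm
  exact (crit_of_complement hFC).comap
    (MonoidHom.ofInjective hinj).toMonoidHom (MonoidHom.ofInjective hinj).injective

end Cfsg.Lib.SolvStruct.Zassenhaus
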