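import Cfsg.Agent.SolvStruct.Zassenhaus.Solvable

/-!
The structure of a non-solvable fixed-point-free group.
-/

set_option autoImplicit false
set_option linter.unusedSectionVars false
set_option linter.style.haveILetI false

namespace Cfsg.Lib.SolvStruct.Zassenhaus

open Subgroup
open scoped Pointwise

theorem quat_products : ∀ a ∈ quatList, a = 1 ∨ a = negOne ∨
    ∃ i j k l : Fin 5, a = axis i j * axis k l := by decide +kernel

theorem exists_sq_negOne : ∃ a : I25, a ^ 2 = negOne := by
  exact ⟨quatList.getD 2 1, by decide +kernel⟩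

theorem axis_opp_five : ((axis 0 1 * axis 2 3) ^ 2) ^ 5 = 1 ∧ (axis 0 1 * axis 2 3) ^ 2 ≠ 1 := by
  decide +kernel

/-- the elements of order three generate -/
theorem gen (x : I25) : x ∈ Subgroup.closure {a : I25 | a ^ 3 = 1} := by
  set C := Subgroup.closure {a : I25 | a ^ 3 = 1}
  have ha : ∀ i j, axis i j ∈ C := fun i j => Subgroup.subset_closure (show axis i j ∈ {a : I25 | a ^ 3 = 1} from axis_cube i j)
  have hn : negOne ∈ C := by rw [← exists_order_four]; exact pow_mem (mul_mem (ha _ _) (ha _ _)) 3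
  have hq : quat ≤ C := by
    intro a h
    rcases quat_products a h with rfl | rfl | ⟨i, j, k, l, rfl⟩
    · exact one_mem C
    · exact hn
    · exact mul_mem (ha _ _) (ha _ _)
  have h8 : 8 ∣ Nat.card C := quat_card ▸ card_dvd_of_le hq
  have h3 : 3 ∣ Nat.card C := by
    haveI : Fact (Nat.Prime 3) := ⟨Nat.prime_three⟩
    have := orderOf_dvd_natCard C (ha 0 1)
    rwa [orderOf_eq_prime (axis_cube 0 1) (axis_ne_one 0 1 (by decide))] at this
  have h5 : 5 ∣ Nat.card C := by
    haveI : Fact (Nat.Prime 5) := ⟨by norm_num⟩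
    have := orderOf_dvd_natCard C (pow_mem (mul_mem (ha 0 1) (ha 2 3)) 2)
    rwa [orderOf_eq_prime axis_opp_five.1 axis_opp_five.2] at this
  have h : 120 ∣ Nat.card C :=
    Nat.Coprime.mul_dvd_of_dvd_of_dvd (show Nat.Coprime 24 5 by norm_num)
      (Nat.Coprime.mul_dvd_of_dvd_of_dvd (show Nat.Coprime 8 3 by norm_num) h8 h3) h5
  have htop : C = ⊤ := eq_top_of_le_card C (by rw [card_eq]; exact Nat.le_of_dvd Nat.card_pos h)
  rw [htop]
  exact mem_top x

/-- a normal subgroup without elements of order three is central -/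
theorem small_normal (N : Subgroup I25) [N.Normal] (h : ∀ a ∈ N, a ^ 3 = 1 → a = 1) {x : I25}
    (hx : x ∈ N) : x = 1 ∨ x = negOne := by
  have h2 : IsPGroup 2 N := by
    rw [IsPGroup.iff_card]
    refine ⟨_, Nat.eq_prime_pow_of_unique_prime_dvd Nat.card_pos.ne' fun {d} hd hdd => ?_⟩
    haveI := Fact.mk hd
    obtain ⟨⟨a, ha⟩, hao⟩ := exists_prime_orderOf_dvd_card' (G := N) d hdd
    rw [orderOf_mk] at hao
    have ha1 : a ≠ 1 := fun e => hd.one_lt.ne (by rw [← hao, e, orderOf_one])
    have hap : a ^ d = 1 := hao ▸ pow_orderOf_eq_one a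
    have hd120 : d ∣ 2 ^ 3 * 3 * 5 := by
      have := orderOf_dvd_natCard a
      rwa [hao, card_eq] at this
    rcases hd.dvd_mul.1 hd120 with e | e
    · rcases hd.dvd_mul.1 e with e | e
      · exact (Nat.prime_dvd_prime_iff_eq hd Nat.prime_two).1 (hd.dvd_of_dvd_pow e)
      · obtain rfl := (Nat.prime_dvd_prime_iff_eq hd Nat.prime_three).1 e
        exact absurd (h a ha hap) ha1
    · obtain rfl := (Nat.prime_dvd_prime_iff_eq hd (by norm_num : Nat.Prime 5)).1 e
      obtain ⟨i, j, hij, e2⟩ := (order_five a hap).resolve_left ha1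
      -- modulo `N` the axis would have order dividing both three and four
      have h4 : ((axis i j : I25) : I25 ⧸ N) ^ 4 = 1 := by
        have e4 := congrArg (fun t : I25 => ((t : I25 ⧸ N)) ^ 2) e2
        simp only [QuotientGroup.mk_pow, QuotientGroup.mk_mul,
          (QuotientGroup.eq_one_iff a).2 ha, one_mul, ← pow_mul] at e4
        rw [show (2 * 2 = 4) from rfl] at e4
        rw [e4, ← QuotientGroup.mk_pow, negOne_ne_one.2, QuotientGroup.mk_one]
      have h3 : ((axis i j : I25) : I25 ⧸ N) ^ 3 = 1 := by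
        rw [← QuotientGroup.mk_pow, axis_cube, QuotientGroup.mk_one]
      rw [pow_succ, h3, one_mul, QuotientGroup.eq_one_iff] at h4
      exact absurd (h _ h4 (axis_cube i j)) (axis_ne_one i j hij)
  have hle : N ≤ quat := by
    have hQ : IsPGroup 2 quat := IsPGroup.of_card (n := 3) (by rw [quat_card]; norm_num)
    have := quatSylow.is_maximal' (hQ.to_sup_of_normal_right h2) le_sup_left
    exact sup_eq_left.1 this
  exact quatList_facts.2.2.2.2.2.1 x (hle hx) (hle (Subgroup.Normal.conj_mem inferInstance x hx _))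

theorem ker_toPerm_trivial (α : MulAut I25)
    (hα : MulAction.toPermHom (MulAut I25) (Sylow 2 I25) α = 1) : α = 1 := by
  set τ := MulAction.toPermHom (MulAut I25) (Sylow 2 I25) with hτ
  set N : Subgroup I25 := (τ.comp MulAut.conj).ker with hN
  have hNmem : ∀ a, a ∈ N ↔ τ (MulAut.conj a) = 1 := fun a => Iff.rfl
  have hno : ∀ a ∈ N, a ^ 3 = 1 → a = 1 := by
    intro a ha h3
    by_contra ha1
    obtain ⟨i, j, hij, rfl⟩ := (axis_all a h3).resolve_left ha1
    have htop := eq_top_of_axis N hij ha gen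
    have hfix := Equiv.congr_fun ((hNmem (axis 1 2)).1 (htop ▸ mem_top _)) quatSylow
    obtain ⟨b, hb, hb1, hb2⟩ := quatList_facts.2.2.2.2.2.2
    have hmem : axis 1 2 * b * (axis 1 2)⁻¹ ∈
        ((MulAut.conj (axis 1 2) • quatSylow : Sylow 2 I25) : Subgroup I25) :=
      ⟨b, hb, rfl⟩
    rw [show MulAut.conj (axis 1 2) • quatSylow = quatSylow from hfix] at hmem
    exact (quatList_facts.2.2.2.2.2.1 b hb hmem).elim hb1 hb2
  have hpm : ∀ a, α a * a⁻¹ = 1 ∨ α a * a⁻¹ = negOne := by
    intro a
    refine small_normal N hno ((hNmem _).2 ?_)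
    have e : MulAut.conj (α a * a⁻¹) = α * MulAut.conj a * α⁻¹ * (MulAut.conj a)⁻¹ := by
      ext b
      simp [MulAut.conj_apply, mul_assoc]
    rw [e, map_mul, map_mul, map_mul, map_inv, map_inv, hα]
    simp
  have hfix : ∀ a : I25, a ^ 3 = 1 → α a = a := by
    intro a h3
    rcases hpm a with e | e
    · exact mul_inv_eq_one.1 e
    · exfalso
      have e' : α a = negOne * a := by rw [← e, inv_mul_cancel_right]
      have := congrArg (· ^ 3) e'
      simp only [← map_pow, h3, map_one] at this
      rw [(show Commute negOne a from (negOne_central a).symm).mul_pow, h3, mul_one, pow_succ,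
        negOne_ne_one.2, one_mul] at this
      exact negOne_ne_one.1 this.symm
  have : (MonoidHom.eqLocus α.toMonoidHom (MonoidHom.id I25)) = ⊤ :=
    eq_top_iff.2 fun x _ => (Subgroup.closure_le _).2 (fun a ha => hfix a ha) (gen x)
  refine MulEquiv.ext fun x => ?_
  exact (SetLike.ext_iff.1 this x).2 (mem_top x)

namespace IsFpf

variable {G : Type*} [Group G] [Finite G] {R : Type*} [Ring R] [Algebra ℚ R] [Nontrivial R]
  [FiniteDimensional ℚ R] {φ : G →* R} {f : I25 →* G}

theorem range_normal (hφ : IsFpf φ) (hf : Function.Injective f) : f.range.Normal := by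
  refine ⟨?_⟩
  rintro _ ⟨a, rfl⟩ g
  have h : Subgroup.closure {b : I25 | b ^ 3 = 1} ≤ f.range.comap ((MulAut.conj g).toMonoidHom.comp f) := by
    refine (Subgroup.closure_le _).2 fun b hb => hφ.mem_range_of_cube hf ?_
    rw [← map_pow, show b ^ 3 = 1 from hb, map_one]
  exact h (gen a)

theorem mem_centralizer_of_cubes (g : G) (h : ∀ a : I25, a ^ 3 = 1 → g * f a = f a * g) :
    g ∈ centralizer (f.range : Set G) := by
  rw [mem_centralizer_iff]
  rintro _ ⟨a, rfl⟩
  have hle : Subgroup.closure {b : I25 | b ^ 3 = 1} ≤ (centralizer {g}).comap f := by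
    refine (Subgroup.closure_le _).2 fun b hb => ?_
    show f b ∈ centralizer {g}
    rw [mem_centralizer_singleton_iff]
    exact (h b hb).symm
  exact mem_centralizer_singleton_iff.1 (hle (gen a))

theorem mem_centralizer_range (hf : Function.Injective f) {x : G} (hx : x ∈ f.range)
    (hc : x ∈ centralizer (f.range : Set G)) : x = 1 ∨ x = f negOne := by
  obtain ⟨a, rfl⟩ := hx
  rw [mem_centralizer_iff] at hc
  have h : ∀ b, a * b = b * a := fun b => hf (by rw [map_mul, map_mul]; exact (hc _ ⟨b, rfl⟩).symm)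
  exact (centre_eq a (h _) (h _)).imp (fun e => by rw [e, map_one]) (fun e => by rw [e])

theorem negOne_mem_centralizer : f negOne ∈ centralizer (f.range : Set G) := by
  rw [mem_centralizer_iff]
  rintro _ ⟨a, rfl⟩
  rw [← map_mul, ← map_mul, negOne_central]

theorem negOne_facts (hf : Function.Injective f) : f negOne ≠ 1 ∧ f negOne ^ 2 = 1 :=
  ⟨fun e => negOne_ne_one.1 (hf (e.trans (map_one f).symm)),
    by rw [← map_pow, negOne_ne_one.2, map_one]⟩

theorem two_elements (hφ : IsFpf φ) (hf : Function.Injective f) :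
    ∀ (k : ℕ) (v : G), v ∈ centralizer (f.range : Set G) → v ^ 2 ^ k = 1 → v = 1 ∨ v = f negOne := by
  obtain ⟨hz1, hz2⟩ := negOne_facts hf
  have hinv : ∀ v : G, v ^ 2 = 1 → v = 1 ∨ v = f negOne := fun v hv => by
    by_cases h : v = 1
    · exact Or.inl h
    · exact Or.inr (hφ.involution_unique h hv hz1 hz2)
  intro k
  induction k with
  | zero => intro v _ hv; exact Or.inl (by simpa using hv)
  | succ k ih =>
    intro v hv hvk
    rw [pow_succ', pow_mul] at hvk
    rcases ih _ (pow_mem hv 2) hvk with e | e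
    · exact hinv v e
    · exfalso
      obtain ⟨a, ha⟩ := exists_sq_negOne
      have hc : Commute v (f a) := ((mem_centralizer_iff.1 hv) _ ⟨a, rfl⟩).symm
      have hz : f a ^ 2 = f negOne := by rw [← map_pow, ha]
      have hsq : (v * f a) ^ 2 = 1 := by rw [hc.mul_pow, e, hz, ← pow_two, hz2]
      have hmem : v * f a ∈ f.range := by
        rcases hinv _ hsq with e' | e' <;> rw [e']
        · exact one_mem _
        · exact ⟨_, rfl⟩
      have hvI : v ∈ f.range := by
        have := mul_mem hmem (inv_mem (⟨a, rfl⟩ : f a ∈ f.range))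
        rwa [mul_inv_cancel_right] at this
      rcases mem_centralizer_range hf hvI hv with e' | e'
      · rw [e', one_pow] at e; exact hz1 e.symm
      · rw [e', hz2] at e; exact hz1 e.symm

theorem zgroup_centralizer (hφ : IsFpf φ) (hf : Function.Injective f) :
    IsZGroup (centralizer (f.range : Set G)) := by
  refine ⟨fun p hp P => ?_⟩
  haveI := Fact.mk hp
  by_cases hp2 : p = 2
  · subst hp2
    have key : ∀ x : (P : Subgroup (centralizer (f.range : Set G))),
        ((x : centralizer (f.range : Set G)) : G) = 1 ∨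
          ((x : centralizer (f.range : Set G)) : G) = f negOne := by
      intro x
      obtain ⟨k, hk⟩ := P.isPGroup' x
      exact hφ.two_elements hf k _ (x : centralizer (f.range : Set G)).2
        (congrArg (fun y : (P : Subgroup (centralizer (f.range : Set G))) =>
          ((y : centralizer (f.range : Set G)) : G)) hk)
    by_cases h : ∃ x : (P : Subgroup (centralizer (f.range : Set G))), x ≠ 1
    · obtain ⟨x, hx⟩ := h
      refine isCyclic_iff_exists_zpowers_eq_top.2 ⟨x, eq_top_iff.2 fun y _ => ?_⟩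
      rcases key y with e | e
      · rw [show y = 1 from Subtype.ext (Subtype.ext e)]; exact one_mem _
      · rcases key x with e' | e'
        · exact absurd (Subtype.ext (Subtype.ext e')) hx
        · rw [show y = x from Subtype.ext (Subtype.ext (e.trans e'.symm))]; exact mem_zpowers x
    · push_neg at h
      haveI : Subsingleton (P : Subgroup (centralizer (f.range : Set G))) :=
        ⟨fun a b => (h a).trans (h b).symm⟩
      infer_instance
  · exact (hφ.restrict _).cyclic_of_odd hp2 P.isPGroup'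

/-- **the action on the five Sylow `2`-subgroups of the icosahedral subgroup** -/
theorem exists_five (hφ : IsFpf φ) (hf : Function.Injective f) :
    Nat.card (Sylow 2 I25) = 5 ∧ ∃ ρ : G →* Equiv.Perm (Sylow 2 I25),
      ρ.ker = centralizer (f.range : Set G) ∧ Nat.card (f.range.map ρ) = 60 := by
  haveI := hφ.range_normal hf
  let e : I25 ≃* f.range := MonoidHom.ofInjective hf
  have he : ∀ (g : G) (a : I25),
      f ((e.trans ((MulAut.conjNormal g).trans e.symm)) a) = g * f a * g⁻¹ := fun g a => by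
    show f (e.symm (MulAut.conjNormal g (e a))) = _
    rw [show f (e.symm (MulAut.conjNormal g (e a))) = ((MulAut.conjNormal g (e a) : f.range) : G) from
      MonoidHom.apply_ofInjective_symm hf _]
    rfl
  let σ : G →* MulAut I25 :=
    { toFun := fun g => e.trans ((MulAut.conjNormal g).trans e.symm)
      map_one' := MulEquiv.ext fun a => hf (by rw [he]; simp)
      map_mul' := fun g h => MulEquiv.ext fun a => hf (by
        rw [MulAut.mul_apply, he, he, he, mul_inv_rev]
        simp only [mul_assoc]) }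
  have hσ : ∀ (g : G) (a : I25), f (σ g a) = g * f a * g⁻¹ := he
  set ρ := (MulAction.toPermHom (MulAut I25) (Sylow 2 I25)).comp σ with hρ
  have hker : ρ.ker = centralizer (f.range : Set G) := by
    ext g
    rw [MonoidHom.mem_ker, mem_centralizer_iff]
    constructor
    · intro h
      have h1 := ker_toPerm_trivial (σ g) h
      rintro _ ⟨a, rfl⟩
      have := hσ g a
      rw [h1, MulAut.one_apply] at this
      exact (mul_inv_eq_iff_eq_mul.1 this.symm).symm
    · intro h
      have h1 : σ g = 1 := MulEquiv.ext fun a => hf (by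
        rw [hσ, MulAut.one_apply, ← h _ ⟨a, rfl⟩, mul_inv_cancel_right])
      rw [hρ, MonoidHom.comp_apply, h1, map_one]
  have hkc : Nat.card (ρ.comp f).ker = 2 := by
    have : (ρ.comp f).ker = zpowers negOne := by
      ext a
      rw [MonoidHom.mem_ker, MonoidHom.comp_apply, ← MonoidHom.mem_ker, hker]
      constructor
      · intro h
        rcases mem_centralizer_range hf ⟨a, rfl⟩ h with h' | h'
        · rw [hf (h'.trans (map_one f).symm)]; exact one_mem _
        · rw [hf h']; exact mem_zpowers _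
      · intro h
        obtain ⟨n, rfl⟩ := mem_zpowers_iff.1 h
        rw [map_zpow]
        exact zpow_mem negOne_mem_centralizer n
    rw [this, Nat.card_zpowers]
    haveI : Fact (Nat.Prime 2) := ⟨Nat.prime_two⟩
    exact orderOf_eq_prime negOne_ne_one.2 negOne_ne_one.1
  have hc60 : Nat.card (f.range.map ρ) = 60 := by
    rw [MonoidHom.map_range]
    have h := (ρ.comp f).ker.card_mul_index
    rw [Subgroup.index_ker, hkc, card_eq] at h
    omega
  refine ⟨?_, ρ, hker, hc60⟩
  haveI : Fintype (Sylow 2 I25) := Fintype.ofFinite _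
  by_contra hne
  have h4 : Nat.card (Sylow 2 I25) ≤ 4 := by have := card_sylow_le; omega
  have hle : Nat.card (f.range.map ρ) ≤ Nat.card (Equiv.Perm (Sylow 2 I25)) :=
    Nat.card_le_card_of_injective _ Subtype.val_injective
  rw [hc60, Nat.card_perm] at hle
  have := Nat.factorial_le h4
  have h24 : Nat.factorial 4 = 24 := rfl
  omega

/-- the odd part of the centraliser of an icosahedral subgroup -/
theorem structure_of_icosa (hφ : IsFpf φ) (hf : Function.Injective f) :
    ∃ M : Subgroup G, M.Normal ∧ (f.range ⊔ M).index ∣ 2 ∧ f.range ⊓ M = ⊥ ∧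
      (∀ s ∈ f.range, ∀ x ∈ M, s * x = x * s) ∧ IsZGroup M ∧ (Nat.card M).Coprime 30 := by
  classical
  haveI := hφ.range_normal hf
  obtain ⟨hz1, hz2⟩ := negOne_facts hf
  obtain ⟨h5, ρ, hker, h60⟩ := hφ.exists_five hf
  set C := centralizer (f.range : Set G) with hC
  haveI : Fact (Nat.Prime 2) := ⟨Nat.prime_two⟩
  haveI hCn : C.Normal := hker ▸ ρ.normal_ker
  -- the normal `2`-complement of the centraliser
  have hsmall : ∀ Q : Subgroup C, IsPGroup 2 Q → ∀ v ∈ Q, (v : G) = 1 ∨ (v : G) = f negOne := by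
    intro Q hQ v hv
    obtain ⟨k, hk⟩ := hQ ⟨v, hv⟩
    exact hφ.two_elements hf k v v.2 (congrArg (fun u : Q => ((u : C) : G)) hk)
  obtain ⟨M, hM, hMc, k, hk⟩ := Cfsg.Lib.Transfer.hasNormalPComplement_iff.1
    (Cfsg.Lib.Transfer.hasNormalPComplement_of_frobenius (p := 2) (G := C) fun Q hQ g _ _ => by
      rw [mem_centralizer_iff]
      intro v hv
      apply Subtype.ext
      rcases hsmall Q hQ v hv with e | e
      · rw [coe_mul, coe_mul, e, one_mul, mul_one]
      · rw [coe_mul, coe_mul, e]
        exact mem_centralizer_iff.1 g.2 _ ⟨negOne, rfl⟩)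
  haveI := hM
  have hquot : IsPGroup 2 (C ⧸ M) := IsPGroup.of_card (n := k) (by rw [← index_eq_card]; exact hk)
  have hodd : ∀ c : C, c ∈ M ↔ (orderOf c).Coprime 2 := fun c =>
    ⟨fun h => hMc.coprime_dvd_left (Subgroup.orderOf_dvd_natCard _ h),
      Cfsg.Lib.Transfer.mem_of_isPGroup_quotient_of_coprime M hquot⟩
  set M' := M.map C.subtype with hM'
  haveI hM'n : M'.Normal := by
    refine ⟨?_⟩
    rintro _ ⟨c, hc, rfl⟩ g
    refine ⟨MulAut.conjNormal g c, (hodd _).2 ?_, MulAut.conjNormal_apply g c⟩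
    rw [MulEquiv.orderOf_eq]
    exact (hodd c).1 hc
  have hsup : f.range ⊔ M' = f.range ⊔ C := by
    refine le_antisymm (sup_le_sup_left (map_subtype_le M) _) (sup_le le_sup_left fun c hc => ?_)
    obtain ⟨a, b, -, -, hab, ⟨i, hi⟩, hb⟩ := Cfsg.Lib.Transfer.exists_pPart 2 (⟨c, hc⟩ : C)
    have hcab : c = (a : G) * b := (congrArg Subtype.val hab).symm
    have hai : (a : G) ^ 2 ^ i = 1 := by
      have := pow_orderOf_eq_one a
      rw [hi] at this
      exact congrArg Subtype.val this
    rw [hcab]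
    refine mul_mem (mem_sup_left ?_) (mem_sup_right ⟨b, (hodd b).2 hb, rfl⟩)
    rcases hφ.two_elements hf i a a.2 hai with e | e <;> rw [e]
    · exact one_mem _
    · exact ⟨_, rfl⟩
  have hindex : (f.range ⊔ M').index ∣ 2 := by
    rw [hsup, ← hker]
    have h := Subgroup.index_map f.range ρ
    have h2 : (f.range.map ρ).index = 2 := by
      have := (f.range.map ρ).card_mul_index
      rw [h60, Nat.card_perm, h5, show Nat.factorial 5 = 120 from rfl] at this
      omega
    exact Dvd.intro _ (h2 ▸ h.symm)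
  have hMG : ∀ v ∈ M', v ∈ C ∧ (orderOf v).Coprime 2 := by
    rintro _ ⟨c, hc, rfl⟩
    exact ⟨c.2, by rw [orderOf_injective _ C.subtype_injective]; exact (hodd c).1 hc⟩
  refine ⟨M', hM'n, hindex, ?_, ?_, ?_, ?_⟩
  · rw [eq_bot_iff]
    rintro v ⟨hv, hv'⟩
    obtain ⟨hvC, hvo⟩ := hMG v hv'
    rw [mem_bot]
    rcases mem_centralizer_range hf hv hvC with e | e
    · exact e
    · rw [e, orderOf_eq_prime hz2 hz1] at hvo
      norm_num at hvo
  · exact fun s hs v hv => (mem_centralizer_iff.1 (hMG v hv).1) s hs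
  · have hMo : Odd (Nat.card M') := by
      rw [hM', card_map_of_injective C.subtype_injective]
      exact Nat.coprime_two_right.1 hMc
    exact (hφ.restrict M').isZGroup_of_odd hMo
  · have key : ∀ p : ℕ, p.Prime → p ∣ Nat.card M' → p ≠ 2 ∧ p ≠ 3 ∧ p ≠ 5 := by
      intro p hp hpd
      haveI := Fact.mk hp
      obtain ⟨⟨v, hv⟩, hvp⟩ := exists_prime_orderOf_dvd_card' (G := M') p hpd
      rw [orderOf_mk] at hvp
      obtain ⟨hvC, hvo⟩ := hMG v hv
      rw [hvp] at hvo
      have hv1 : v ≠ 1 := fun e => hp.one_lt.ne (by rw [← hvp, e, orderOf_one])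
      have hp2 : p ≠ 2 := fun e => by rw [e] at hvo; norm_num at hvo
      have hout : v ∉ f.range := fun h => by
        rcases mem_centralizer_range hf h hvC with e | e
        · exact hv1 e
        · rw [e, orderOf_eq_prime hz2 hz1] at hvp
          exact hp2 hvp.symm
      refine ⟨hp2, fun e => hout (hφ.mem_range_of_cube hf ?_), fun e => ?_⟩
      · rw [← e, ← hvp, pow_orderOf_eq_one]
      · subst e
        set g := f ((axis 0 1 * axis 2 3) ^ 2) with hg
        have hg5 : orderOf g = 5 := by
          rw [hg, orderOf_injective f hf, orderOf_eq_prime axis_opp_five.1 axis_opp_five.2]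
        have hc : Commute g v := mem_centralizer_iff.1 hvC _ ⟨_, rfl⟩
        have := hφ.mem_zpowers_of_commute hp hg5 (hvp ▸ pow_orderOf_eq_one v) hc
        exact hout (zpowers_le.2 (show g ∈ f.range from ⟨_, rfl⟩) this)
    by_contra hcop
    obtain ⟨p, hp, hp1, hp2⟩ := Nat.Prime.not_coprime_iff_dvd.1 hcop
    obtain ⟨h2, h3, h5'⟩ := key p hp hp1
    have : p ∣ 2 * 3 * 5 := hp2
    rcases hp.dvd_mul.1 this with h | h
    · rcases hp.dvd_mul.1 h with h | h
      · exact h2 ((Nat.prime_dvd_prime_iff_eq hp Nat.prime_two).1 h)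
      · exact h3 ((Nat.prime_dvd_prime_iff_eq hp Nat.prime_three).1 h)
    · exact h5' ((Nat.prime_dvd_prime_iff_eq hp (by norm_num)).1 h)

/-- **Zassenhaus: a non-solvable fixed-point-free group** -/
theorem structure_of_nonsolvable (hφ : IsFpf φ) (hns : ¬ Group.IsSolvable G) :
    ∃ (S M : Subgroup G), S.Normal ∧ M.Normal ∧ (S ⊔ M).index ∣ 2 ∧ S ⊓ M = ⊥ ∧
      (∀ s ∈ S, ∀ x ∈ M, s * x = x * s) ∧
      Nonempty (S ≃* Matrix.SpecialLinearGroup (Fin 2) (ZMod 5)) ∧
      IsZGroup M ∧ (Nat.card M).Coprime 30 := by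
  obtain ⟨x, y, hx, hx1, hy, hy1, hxy⟩ := hφ.exists_ten hns
  obtain ⟨f, hf, -, -⟩ := hφ.exists_icosa hx hx1 hy hy1 hxy
  obtain ⟨M, hM, h1, h2, h3, h4, h5⟩ := hφ.structure_of_icosa hf
  exact ⟨f.range, M, hφ.range_normal hf, hM, h1, h2, h3, ⟨(MonoidHom.ofInjective hf).symm⟩, h4, h5⟩

end IsFpf

end Cfsg.Lib.SolvStruct.Zassenhaus
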