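import Cfsg.Agent.SolvStruct.Zassenhaus.Structure
import Cfsg.Agent.SolvStruct.Zassenhaus.Rep
import Cfsg.Agent.PermGroups.LinearRegular
import Cfsg.Agent.Components.Misc.Zsigmondy

/-!
Non-solvable linear groups which are regular on non-zero vectors.
-/

set_option autoImplicit false
set_option linter.unusedSectionVars false
set_option linter.style.haveILetI false

namespace Cfsg.Lib.SolvStruct.Zassenhaus

open Subgroup Cfsg.Lib.PermGroups.LinearRegular

variable {p : ℕ} [Fact p.Prime] {V : Type*} [AddCommGroup V] [Module (ZMod p) V] [Finite V]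
  {H : Subgroup (V ≃ₗ[ZMod p] V)}

theorem axis_noncomm : axis 0 1 * axis 2 3 ≠ axis 2 3 * axis 0 1 := by decide +kernel

theorem card_prod_range {G : Type*} [Group G] [Finite G] {f : I25 →* G} (hf : Function.Injective f)
    {M : Subgroup G} (hinf : f.range ⊓ M = ⊥) (hcomm : ∀ s ∈ f.range, ∀ x ∈ M, s * x = x * s) :
    ∃ Φ : I25 × M →* G, Function.Injective Φ ∧ Φ.range = f.range ⊔ M ∧ ∀ m : M, Φ (1, m) ∈ M := by
  let Φ := MonoidHom.noncommCoprod f M.subtype fun a m => hcomm _ ⟨a, rfl⟩ _ m.2
  refine ⟨Φ, (injective_iff_map_eq_one Φ).2 ?_, ?_, fun m => ?_⟩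
  · rintro ⟨a, m⟩ h
    have h' : f a * (m : G) = 1 := h
    have hm : (m : G) ∈ f.range ⊓ M :=
      mem_inf.2 ⟨by rw [eq_inv_of_mul_eq_one_right h']; exact inv_mem (⟨a, rfl⟩ : f a ∈ f.range), m.2⟩
    rw [hinf, mem_bot] at hm
    rw [hm, mul_one] at h'
    exact Prod.ext (hf (h'.trans (map_one f).symm)) (Subtype.ext hm)
  · show (MonoidHom.noncommCoprod f M.subtype _).range = _
    exact (MonoidHom.noncommCoprod_range f M.subtype _).trans (by rw [range_subtype])
  · show f 1 * (m : G) ∈ M
    rw [map_one, one_mul]; exact m.2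

/-- operators commuting with one having a cyclic vector commute -/
theorem comm_of_cyclic {K W : Type*} [Field K] [AddCommGroup W] [Module K W] (T : Module.End K W)
    (v : W) (hv : Submodule.span K (Set.range fun i : ℕ => (T ^ i) v) = ⊤) {a b : Module.End K W}
    (ha : Commute a T) (hb : Commute b T) : Commute a b := by
  have key : ∀ x : W, ∃ P : Module.End K W,
      (∀ c : Module.End K W, Commute c T → Commute c P) ∧ P v = x := by
    intro x
    have hx : x ∈ Submodule.span K (Set.range fun i : ℕ => (T ^ i) v) := by rw [hv]; exact Submodule.mem_top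
    induction hx using Submodule.span_induction with
    | mem x hx =>
      obtain ⟨i, rfl⟩ := hx
      exact ⟨T ^ i, fun c hc => hc.pow_right i, rfl⟩
    | zero => exact ⟨0, fun c _ => Commute.zero_right c, rfl⟩
    | add x y _ _ hx hy =>
      obtain ⟨P, hP, rfl⟩ := hx
      obtain ⟨Q, hQ, rfl⟩ := hy
      exact ⟨P + Q, fun c hc => (hP c hc).add_right (hQ c hc), rfl⟩
    | smul k x _ hx =>
      obtain ⟨P, hP, rfl⟩ := hx
      exact ⟨k • P, fun c hc => (hP c hc).smul_right k, rfl⟩
  obtain ⟨P, hP, hPv⟩ := key (b v)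
  have hbP : b = P := by
    refine LinearMap.ext_on hv ?_
    rintro _ ⟨i, rfl⟩
    have h1 : Commute P (T ^ i) := ((hP T (Commute.refl T)).symm).pow_right i
    have h2 : Commute b (T ^ i) := hb.pow_right i
    calc b ((T ^ i) v) = (T ^ i) (b v) := LinearMap.congr_fun h2 v
      _ = (T ^ i) (P v) := by rw [hPv]
      _ = P ((T ^ i) v) := (LinearMap.congr_fun h1 v).symm
  rw [hbP]
  exact hP a ha

theorem dvd_pow_pred_iff {p : ℕ} (hp : 0 < p) (r i : ℕ) :
    r ∣ p ^ i - 1 ↔ ((p : ZMod r)) ^ i = 1 := by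
  rw [← ZMod.natCast_eq_zero_iff, Nat.cast_sub (Nat.one_le_pow _ _ hp), Nat.cast_pow, Nat.cast_one,
    sub_eq_zero]

theorem zmod_three_sq : ∀ a : ZMod 3, a ^ 2 ≠ -1 := by decide

/-- a `2 × 2` matrix of order five is not conjugate to its square outside characteristic five -/
theorem not_conj_sq {K : Type*} [Field K] (A B B' : Matrix (Fin 2) (Fin 2) K) (h5 : A ^ 5 = 1)
    (hne : A ≠ 1) (hB : B * A * B' = A ^ 2) (hB' : B' * B = 1) (hK : (5 : K) ≠ 0) : False := by
  have hAA : A * A = A.trace • A - A.det • (1 : Matrix (Fin 2) (Fin 2) K) := by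
    rw [Matrix.trace_fin_two, Matrix.det_fin_two]
    ext i j
    fin_cases i <;> fin_cases j <;>
      simp [Matrix.mul_apply, Fin.sum_univ_two] <;> ring
  set t := A.trace with ht
  set d := A.det with hd
  have hd1 : d = 1 := by
    have h := congrArg Matrix.det hB
    rw [Matrix.det_mul, Matrix.det_mul, Matrix.det_pow, ← hd] at h
    have hb : B.det * B'.det = 1 := by rw [mul_comm, ← Matrix.det_mul, hB', Matrix.det_one]
    have hd0 : d ≠ 0 := fun e => by
      have := congrArg Matrix.det h5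
      rw [Matrix.det_pow, ← hd, e, Matrix.det_one] at this
      simp at this
    exact mul_left_cancel₀ hd0 (by rw [mul_one]; linear_combination (-1 : K) * h + d * hb)
  rw [hd1, one_smul] at hAA
  have htr : t * t - 2 = t := by
    have h := congrArg Matrix.trace hB
    rw [Matrix.trace_mul_cycle, hB', one_mul, pow_two, hAA, Matrix.trace_sub, Matrix.trace_smul,
      Matrix.trace_one, ← ht, Fintype.card_fin, smul_eq_mul] at h
    push_cast at h
    linear_combination (-1 : K) * h
  have : (t - 2) * (t + 1) = 0 := by linear_combination htr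
  rcases mul_eq_zero.1 this with e | e
  · rw [sub_eq_zero.1 e] at hAA
    have hN : (A - 1) * (A - 1) = 0 := by
      simp only [mul_sub, sub_mul, mul_one, one_mul, hAA]
      module
    have hlin : ∀ i : ℕ, A ^ i = 1 + (i : K) • (A - 1) := by
      intro i
      induction i with
      | zero => simp
      | succ i ih =>
        rw [pow_succ, ih, add_mul, one_mul, smul_mul_assoc,
          show (A - 1) * A = (A - 1) * (A - 1) + (A - 1) by
            rw [mul_sub (A - 1), mul_one, sub_add_cancel], hN, zero_add]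
        push_cast
        module
    rw [hlin, Nat.cast_ofNat, add_eq_left] at h5
    exact hne (sub_eq_zero.1 ((smul_eq_zero.1 h5).resolve_left hK))
  · rw [eq_neg_of_add_eq_zero_left e] at hAA
    have h3 : A ^ 3 = 1 := by
      rw [pow_succ, pow_two, hAA, sub_mul, smul_mul_assoc, hAA, one_mul]
      module
    have h2 : A ^ 2 = 1 := by rwa [show 5 = 3 + 2 from rfl, pow_add, h3, one_mul] at h5
    exact hne (by rwa [pow_succ, h2, one_mul] at h3)

theorem exists_conj_sq {α : Type*} [Fintype α] [DecidableEq α] (hα : Fintype.card α = 5)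
    {σ : Equiv.Perm α} (hσ : orderOf σ = 5) : ∃ τ : Equiv.Perm α, τ * σ * τ⁻¹ = σ ^ 2 := by
  have h2 : orderOf (σ ^ 2) = 5 := by rw [orderOf_pow, hσ]; rfl
  haveI : Fact (Nat.Prime 5) := ⟨by norm_num⟩
  have key : ∀ π : Equiv.Perm α, orderOf π = 5 → π.cycleType = {5} := by
    intro π hπ
    obtain ⟨n, hn⟩ := Equiv.Perm.cycleType_prime_order (hπ ▸ (Fact.out : Nat.Prime 5))
    rw [hπ] at hn
    have := π.sum_cycleType_le
    rw [hn, Multiset.sum_replicate, smul_eq_mul, hα] at this
    rw [hn, show n + 1 = 1 by omega, Multiset.replicate_one]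
  exact isConj_iff.1 (Equiv.Perm.isConj_iff_cycleType_eq.2 ((key σ hσ).trans (key _ h2).symm))

/-- the fixed-point-free representation of a regular linear group -/
theorem crit_of_regular [Nontrivial H]
    (hreg : ∀ v w : V, v ≠ 0 → w ≠ 0 → ∃! h : H, (h : V ≃ₗ[ZMod p] V) v = w) :
    Cfsg.Lib.Frobenius.ProductComplement.Crit H := by
  haveI := finite_lin (p := p) (V := V)
  haveI : Nontrivial V := by
    by_contra h
    haveI := not_nontrivial_iff_subsingleton.1 h
    obtain ⟨a, ha⟩ := exists_ne (1 : H)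
    exact ha (Subtype.ext (LinearEquiv.ext fun v => Subsingleton.elim _ _))
  let θ : H →* MulAut (Multiplicative V) :=
    { toFun := fun h => AddEquiv.toMultiplicative (h : V ≃ₗ[ZMod p] V).toAddEquiv
      map_one' := rfl
      map_mul' := fun a b => rfl }
  refine crit_of_fpf_action θ fun h hh v hv => ?_
  by_contra hne
  exact hh (eq_one_of_fixed H hreg (v := Multiplicative.toAdd v) hne hv)

theorem comm_of_line (hreg : ∀ v w : V, v ≠ 0 → w ≠ 0 → ∃! h : H, (h : V ≃ₗ[ZMod p] V) v = w)
    {v : V} (hv : v ≠ 0) (S : Subgroup H)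
    (hS : ∀ s ∈ S, (s : V ≃ₗ[ZMod p] V) v ∈ Submodule.span (ZMod p) {v}) :
    ∀ a ∈ S, ∀ b ∈ S, a * b = b * a := by
  intro a ha b hb
  obtain ⟨c, hc⟩ := Submodule.mem_span_singleton.1 (hS a ha)
  obtain ⟨d, hd⟩ := Submodule.mem_span_singleton.1 (hS b hb)
  have h1 : ((a * b : H) : V ≃ₗ[ZMod p] V) v = ((b * a : H) : V ≃ₗ[ZMod p] V) v := by
    show (a : V ≃ₗ[ZMod p] V) ((b : V ≃ₗ[ZMod p] V) v) = (b : V ≃ₗ[ZMod p] V) ((a : V ≃ₗ[ZMod p] V) v)
    rw [← hd, ← hc, map_smul, map_smul, ← hd, ← hc, smul_comm]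
  exact (hreg v _ hv (by simpa using hv)).unique h1 rfl

theorem commute_toEnd {a b : H} (h : a * b = b * a) :
    Commute ((a : V ≃ₗ[ZMod p] V).toLinearMap : Module.End (ZMod p) V)
      ((b : V ≃ₗ[ZMod p] V).toLinearMap) :=
  congrArg (fun x : H => ((x : V ≃ₗ[ZMod p] V).toLinearMap : Module.End (ZMod p) V)) h

theorem eq_of_toEnd {a b : H}
    (h : Commute ((a : V ≃ₗ[ZMod p] V).toLinearMap : Module.End (ZMod p) V)
      ((b : V ≃ₗ[ZMod p] V).toLinearMap)) : a * b = b * a :=
  Subtype.ext (LinearEquiv.ext fun v => LinearMap.congr_fun h v)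

theorem coe_toEnd_pow (c : H) (i : ℕ) :
    ((c ^ i : H) : V ≃ₗ[ZMod p] V).toLinearMap
      = ((c : V ≃ₗ[ZMod p] V).toLinearMap : Module.End (ZMod p) V) ^ i := by
  induction i with
  | zero => rfl
  | succ i ih => rw [pow_succ, pow_succ, ← ih]; rfl

/-- nothing with a cyclic vector centralises an icosahedral subgroup -/
theorem no_cyclic {f : I25 →* H} (hf : Function.Injective f) {c : H}
    (hc : ∀ s ∈ f.range, s * c = c * s) (v : V) :
    Submodule.span (ZMod p) (Set.range fun i : ℕ =>
      (((c : V ≃ₗ[ZMod p] V).toLinearMap : Module.End (ZMod p) V) ^ i) v) ≠ ⊤ := fun h =>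
  axis_noncomm (hf (by
    rw [map_mul, map_mul]
    exact eq_of_toEnd (comm_of_cyclic _ v h (commute_toEnd (hc _ ⟨_, rfl⟩))
      (commute_toEnd (hc _ ⟨_, rfl⟩)))))

/-- **the non-solvable regular linear groups** -/
theorem regular_nonsolvable
    (hreg : ∀ v w : V, v ≠ 0 → w ≠ 0 → ∃! h : H, (h : V ≃ₗ[ZMod p] V) v = w)
    (hns : ¬ Group.IsSolvable H) :
    ∃ m : ℕ, (Nat.card V = 121 ∧ m = 1 ∨ Nat.card V = 841 ∧ m = 7 ∨ Nat.card V = 3481 ∧ m = 29) ∧
      ∃ M : Subgroup H, Nat.card M = m ∧ Nonempty (I25 × M ≃* H) := by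
  classical
  have hpp : p.Prime := Fact.out
  haveI := finite_lin (p := p) (V := V)
  haveI : Nontrivial H := by
    by_contra h
    haveI := not_nontrivial_iff_subsingleton.1 h
    exact hns inferInstance
  obtain ⟨W0, φ, hW0, hφ⟩ := exists_fpf_rep (crit_of_regular hreg)
  obtain ⟨x, y, hx, hx1, hy, hy1, hxy⟩ := hφ.exists_ten hns
  obtain ⟨f, hf, -, -⟩ := hφ.exists_icosa hx hx1 hy hy1 hxy
  haveI := hφ.range_normal hf
  obtain ⟨M, hM, hidx, hinf, hcomm, hMZ, hMcop⟩ := hφ.structure_of_icosa hf
  haveI := hM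
  haveI : (f.range ⊔ M).Normal := sup_normal f.range M
  obtain ⟨h5, ρ, hker, h60⟩ := hφ.exists_five hf
  obtain ⟨Φ, hΦ, hΦr, hΦM⟩ := card_prod_range hf hinf hcomm
  set k := (f.range ⊔ M).index with hk
  have hcard : Nat.card H = 120 * Nat.card M * k := by
    rw [hk, ← (f.range ⊔ M).card_mul_index, ← hΦr,
      ← Nat.card_congr (MonoidHom.ofInjective hΦ).toEquiv, Nat.card_prod, card_eq]
  obtain ⟨v, hv⟩ : ∃ v : V, v ≠ 0 := by
    by_contra h
    push_neg at h
    haveI : Subsingleton H :=
      ⟨fun a b => Subtype.ext (LinearEquiv.ext fun v => by rw [h v, map_zero, map_zero])⟩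
    exact false_of_nontrivial_of_subsingleton H
  set n := Module.finrank (ZMod p) V with hn
  have hH : Nat.card H = p ^ n - 1 := Cfsg.Lib.PermGroups.LinearRegular.card_eq hreg hv
  haveI : Nontrivial V := ⟨⟨v, 0, hv⟩⟩
  have hn0 : 0 < n := by
    haveI : Nontrivial V := ⟨⟨v, 0, hv⟩⟩
    exact Module.finrank_pos
  -- not one-dimensional
  have hn1 : n ≠ 1 := by
    intro e
    have hline : ∀ w : V, w ∈ Submodule.span (ZMod p) {v} := fun w => by
      obtain ⟨c, hc⟩ := exists_smul_eq_of_finrank_eq_one e hv w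
      exact Submodule.mem_span_singleton.2 ⟨c, hc⟩
    exact hns (isSolvable_of_comm fun a b =>
      comm_of_line hreg hv ⊤ (fun s _ => hline _) a (mem_top a) b (mem_top b))
  have hk0 : k = 1 ∨ k = 2 := (Nat.dvd_prime Nat.prime_two).1 hidx
  have hMpos : 0 < Nat.card M := Nat.card_pos
  -- primitive primes divide thirty
  have hprim : ∀ r : ℕ, r.Prime → r ∣ p ^ n - 1 → (∀ i, 0 < i → i < n → ¬ r ∣ p ^ i - 1) →
      r ∣ 30 := by
    intro r hr hrd hrp
    by_contra h30
    haveI := Fact.mk hr
    obtain ⟨c, hc⟩ := exists_prime_orderOf_dvd_card' (G := H) r (hH ▸ hrd)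
    have hrc : c ^ r = 1 := hc ▸ pow_orderOf_eq_one c
    have hr2 : r ≠ 2 := fun e => h30 (e ▸ by norm_num)
    have hcmem : c ∈ f.range ⊔ M := by
      have h2 : c ^ 2 ∈ f.range ⊔ M := by
        have := (f.range ⊔ M).pow_index_mem c
        rw [← hk] at this
        rcases hk0 with e | e
        · rw [e, pow_one] at this; exact pow_mem this 2
        · rwa [e] at this
      obtain ⟨j, hj⟩ := hr.odd_of_ne_two hr2
      have : c = (c ^ 2) ^ (j + 1) := by
        rw [← pow_mul, show 2 * (j + 1) = r + 1 by omega, pow_succ, hrc, one_mul]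
      rw [this]; exact pow_mem h2 _
    rw [← hΦr] at hcmem
    obtain ⟨⟨a, b⟩, rfl⟩ := hcmem
    rw [← map_pow, ← map_one Φ] at hrc
    have ha : a ^ r = 1 := congrArg Prod.fst (hΦ hrc)
    have hcop : (120 : ℕ).Coprime r := by
      refine ((Nat.Prime.coprime_iff_not_dvd hr).2 fun hd => h30 ?_).symm
      have : r ∣ 30 * 4 := hd
      exact (hr.dvd_mul.1 this).resolve_right fun h4 => hr2
        ((Nat.prime_dvd_prime_iff_eq hr Nat.prime_two).1 (hr.dvd_of_dvd_pow (n := 2) h4))
    have ha1 : a = 1 := by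
      rw [← orderOf_eq_one_iff, ← Nat.dvd_one, ← hcop.gcd_eq_one]
      exact Nat.dvd_gcd (card_eq ▸ orderOf_dvd_natCard a) (orderOf_dvd_of_pow_eq_one ha)
    subst ha1
    have hcb : Φ (1, b) ∈ M ∧ ∀ s ∈ f.range, s * Φ (1, b) = Φ (1, b) * s :=
      ⟨hΦM b, fun s hs => hcomm s hs _ (hΦM b)⟩
    set c := Φ (1, b) with hcdef
    -- the vector generates
    obtain ⟨W, hW0', hW, hmin⟩ := exists_minimal (H := H) (A := zpowers c)
    obtain ⟨-, hdvd⟩ := free_on_minimal hreg inferInstance hW0' hW hmin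
    rw [Nat.card_zpowers, hc] at hdvd
    have hWtop : W = ⊤ := by
      refine Submodule.eq_top_of_finrank_eq (le_antisymm W.finrank_le ?_)
      by_contra hlt
      exact hrp _ (Submodule.one_le_finrank_iff.2 hW0') (not_le.1 hlt) hdvd
    subst hWtop
    refine no_cyclic hf hcb.2 v ?_
    set U := Submodule.span (ZMod p) (Set.range fun i : ℕ =>
      (((c : V ≃ₗ[ZMod p] V).toLinearMap : Module.End (ZMod p) V) ^ i) v) with hU
    refine (hmin U le_top ?_).resolve_left fun h => hv ?_
    · intro a ha u hu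
      obtain ⟨i, rfl⟩ := (Submonoid.mem_powers_iff _ _).1 (mem_powers_iff_mem_zpowers.2 ha)
      rw [show ((c ^ i : H) : V ≃ₗ[ZMod p] V) u =
        (((c : V ≃ₗ[ZMod p] V).toLinearMap : Module.End (ZMod p) V) ^ i) u by
          rw [← coe_toEnd_pow]; rfl]
      induction hu using Submodule.span_induction with
      | mem u hu =>
        obtain ⟨j, rfl⟩ := hu
        exact Submodule.subset_span ⟨i + j, by simp [pow_add]⟩
      | zero => rw [map_zero]; exact zero_mem U
      | add u w _ _ h1 h2 => rw [map_add]; exact add_mem h1 h2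
      | smul a u _ h1 => rw [map_smul]; exact U.smul_mem a h1
    · have : v ∈ U := Submodule.subset_span ⟨0, by simp⟩
      rw [h, Submodule.mem_bot] at this
      exact this
  have h2V : Odd p := by
    refine hpp.odd_of_ne_two fun e => ?_
    have : 2 ∣ p ^ n - 1 := hH ▸ hcard ▸ Dvd.dvd.mul_right (Dvd.dvd.mul_right (by norm_num) _) _
    rw [e] at this
    have h1 : 1 ≤ 2 ^ n := Nat.one_le_two_pow
    have h2 : 2 ∣ 2 ^ n := dvd_pow_self 2 hn0.ne'
    omega
  have hp3 : 3 ≤ p := by have := hpp.two_le; rcases h2V with ⟨j, hj⟩; omega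
  -- two-dimensional
  have hn2 : n = 2 := by
    by_contra hne
    have hn3 : 3 ≤ n := by omega
    obtain ⟨r, hr, hrd, hrp⟩ := Cfsg.Lib.Zsigmondy.zsigmondy p n (by omega) (by omega)
      (fun h => by omega) (fun h => by omega)
    haveI := Fact.mk hr
    have hrp' : r ≠ p := fun e => by
      rw [e] at hrd
      have h1 : p ∣ p ^ n := dvd_pow_self p hn0.ne'
      have h2 : 1 ≤ p ^ n := Nat.one_le_pow _ _ hpp.pos
      have h3 := Nat.dvd_sub h1 hrd
      rw [show p ^ n - (p ^ n - 1) = 1 by omega] at h3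
      exact hpp.one_lt.ne' (Nat.dvd_one.1 h3)
    have key : ∀ i, r ∣ p ^ i - 1 ↔ ((p : ZMod r)) ^ i = 1 := fun i => dvd_pow_pred_iff hpp.pos r i
    have hr0 : (p : ZMod r) ≠ 0 := fun e => hrp'
      ((Nat.prime_dvd_prime_iff_eq hr hpp).1 ((ZMod.natCast_eq_zero_iff _ _).1 e))
    have hnr : n ≤ r - 1 := by
      by_contra h
      exact hrp (r - 1) (by have := hr.two_le; omega) (by omega) ((key _).2 (ZMod.pow_card_sub_one_eq_one hr0))
    have hr5 : r = 5 := by
      have h30 : r ∣ 2 * 3 * 5 := hprim r hr hrd hrp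
      rcases hr.dvd_mul.1 h30 with h | h
      · rcases hr.dvd_mul.1 h with h | h
        · have := (Nat.prime_dvd_prime_iff_eq hr Nat.prime_two).1 h; omega
        · have := (Nat.prime_dvd_prime_iff_eq hr Nat.prime_three).1 h; omega
      · exact (Nat.prime_dvd_prime_iff_eq hr (by norm_num)).1 h
    subst hr5
    have hn4 : n = 4 := by
      by_contra h
      have e : n = 3 := by omega
      have h3 : (p : ZMod 5) ^ 3 = 1 := by rw [← e]; exact (key n).1 hrd
      have h4 : (p : ZMod 5) ^ 4 = 1 := ZMod.pow_card_sub_one_eq_one hr0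
      rw [pow_succ, h3, one_mul] at h4
      exact hrp 1 one_pos (by omega) ((key 1).2 (by rw [pow_one]; exact h4))
    -- all odd prime divisors of `p ^ 2 + 1` are primitive
    have hq : ∀ q : ℕ, q.Prime → q ∣ p ^ 2 + 1 → q = 2 ∨ q = 5 := by
      intro q hq hqd
      by_cases hq2 : q = 2
      · exact Or.inl hq2
      refine Or.inr ?_
      haveI := Fact.mk hq
      have e2 : (p : ZMod q) ^ 2 = -1 := by
        have := (ZMod.natCast_eq_zero_iff (p ^ 2 + 1) q).2 hqd
        push_cast at this
        exact eq_neg_of_add_eq_zero_left this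
      have h11 : (1 : ZMod q) ≠ -1 := by
        intro e
        have : ((2 : ℕ) : ZMod q) = 0 := by push_cast; linear_combination e
        exact hq2 ((Nat.prime_dvd_prime_iff_eq hq Nat.prime_two).1 ((ZMod.natCast_eq_zero_iff _ _).1 this))
      have keyq : ∀ i, q ∣ p ^ i - 1 ↔ ((p : ZMod q)) ^ i = 1 := fun i => dvd_pow_pred_iff hpp.pos q i
      have h30 : q ∣ 30 := by
        refine hprim q hq ((keyq n).2 ?_) fun i hi hin hd => ?_
        · rw [hn4, show 4 = 2 * 2 from rfl, pow_mul, e2]; ring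
        · have hi' := (keyq i).1 hd
          rw [hn4] at hin
          interval_cases i
          · rw [pow_one] at hi'
            rw [hi', one_pow] at e2
            exact h11 e2
          · exact h11 (hi'.symm.trans e2)
          · have h1 : (p : ZMod q) = -1 := by
              rw [pow_succ, e2] at hi'
              linear_combination -hi'
            rw [h1] at e2
            exact h11 (by linear_combination e2)
      have hne3 : q ≠ 3 := fun e => by
        subst e
        exact zmod_three_sq _ e2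
      rcases hq.dvd_mul.1 (show q ∣ 2 * 3 * 5 from h30) with h | h
      · rcases hq.dvd_mul.1 h with h | h
        · exact absurd ((Nat.prime_dvd_prime_iff_eq hq Nat.prime_two).1 h) hq2
        · exact absurd ((Nat.prime_dvd_prime_iff_eq hq Nat.prime_three).1 h) hne3
      · exact (Nat.prime_dvd_prime_iff_eq hq (by norm_num)).1 h
    have hprod : p ^ 4 - 1 = (p ^ 2 - 1) * (p ^ 2 + 1) := by
      rw [mul_comm, ← Nat.sq_sub_sq]; ring_nf
    rw [hn4, hcard, hprod] at hH
    have h4 : ¬ 4 ∣ p ^ 2 + 1 := by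
      intro h
      obtain ⟨j, hj⟩ := h2V
      rw [hj, show (2 * j + 1) ^ 2 + 1 = 4 * (j * j + j) + 2 by ring] at h
      omega
    have h25 : ¬ 25 ∣ p ^ 2 + 1 := by
      intro h
      have h' : 25 ∣ 120 * Nat.card M * k := hH ▸ Dvd.dvd.mul_left h _
      have hcop : Nat.Coprime 25 (Nat.card M) := by
        have := hMcop.coprime_dvd_right (show 5 ∣ 30 by norm_num)
        exact (this.symm.pow_left 2)
      rcases hk0 with e | e <;> rw [e] at h'
      · rw [mul_one, mul_comm] at h'
        have := hcop.dvd_of_dvd_mul_left h'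
        norm_num at this
      · rw [mul_assoc, mul_comm (Nat.card M), ← mul_assoc, mul_comm] at h'
        have := hcop.dvd_of_dvd_mul_left h'
        norm_num at this
    have h10 : p ^ 2 + 1 ∣ 10 := by
      rw [← Nat.factorization_le_iff_dvd (by positivity) (by norm_num)]
      intro q
      by_cases hqp : q.Prime
      swap
      · rw [Nat.factorization_eq_zero_of_not_prime _ hqp]; exact Nat.zero_le _
      by_cases hqd : q ∣ p ^ 2 + 1
      · have hlt : ¬ q ^ 2 ∣ p ^ 2 + 1 := by
          rcases hq q hqp hqd with e | e <;> subst e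
          · exact h4
          · exact h25
        rw [Nat.Prime.pow_dvd_iff_le_factorization hqp (by positivity), not_le] at hlt
        have : q ∣ 10 := by rcases hq q hqp hqd with e | e <;> subst e <;> norm_num
        have := Nat.Prime.factorization_pos_of_dvd hqp (by norm_num : (10 : ℕ) ≠ 0) this
        omega
      · rw [Nat.factorization_eq_zero_of_not_dvd hqd]; exact Nat.zero_le _
    have hle := Nat.le_of_dvd (by norm_num) h10
    have hp' : p = 3 := by nlinarith
    subst hp'
    norm_num at hH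
    rcases hk0 with e | e <;> rw [e] at hH <;> omega
  -- no outer element
  have hns' : ¬ Function.Surjective ρ := by
    intro hsurj
    letI : Fintype (Sylow 2 I25) := Fintype.ofFinite _
    set h := f ((axis 0 1 * axis 2 3) ^ 2) with hh
    have ho : orderOf h = 5 := by
      haveI : Fact (Nat.Prime 5) := ⟨by norm_num⟩
      rw [hh, orderOf_injective f hf, orderOf_eq_prime axis_opp_five.1 axis_opp_five.2]
    have hmem : h ∈ f.range := ⟨_, hh.symm⟩
    clear_value h
    obtain ⟨hz1, hz2⟩ := IsFpf.negOne_facts hf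
    have hρ : orderOf (ρ h) = 5 := by
      have hd := orderOf_map_dvd ρ h
      rw [ho] at hd
      rcases (Nat.dvd_prime (by norm_num : Nat.Prime 5)).1 hd with e | e
      · exfalso
        rw [orderOf_eq_one_iff, ← MonoidHom.mem_ker, hker] at e
        rcases IsFpf.mem_centralizer_range hf hmem e with e' | e' <;> rw [e'] at ho
        · simp at ho
        · rw [orderOf_eq_prime (p := 2) hz2 hz1] at ho; omega
      · exact e
    obtain ⟨τ, hτ⟩ := exists_conj_sq (by rw [← Nat.card_eq_fintype_card, h5]) hρ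
    obtain ⟨g, rfl⟩ := hsurj τ
    have hI : g * h * g⁻¹ * (h ^ 2)⁻¹ ∈ f.range :=
      mul_mem (Subgroup.Normal.conj_mem inferInstance h hmem g) (inv_mem (pow_mem hmem 2))
    have hC : g * h * g⁻¹ * (h ^ 2)⁻¹ ∈ centralizer (f.range : Set H) := by
      rw [← hker, MonoidHom.mem_ker, map_mul, map_mul, map_mul, map_inv, map_inv, map_pow, hτ,
        mul_inv_cancel]
    have hgh : g * h * g⁻¹ = h ^ 2 := by
      rcases IsFpf.mem_centralizer_range hf hI hC with e | e
      · exact mul_inv_eq_one.1 e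
      · exfalso
        rw [mul_inv_eq_iff_eq_mul] at e
        have h5' : h ^ 5 = 1 := ho ▸ pow_orderOf_eq_one h
        have hzc : Commute (f negOne) (h ^ 2) :=
          ((mem_centralizer_iff.1 IsFpf.negOne_mem_centralizer) (h ^ 2) (pow_mem hmem 2)).symm
        have h' := congrArg (· ^ 5) e
        simp only [conj_pow, hzc.mul_pow] at h'
        rw [h5', mul_one, mul_inv_cancel, ← pow_mul h 2 5, pow_mul' h 2 5, h5', one_pow, mul_one,
          show f negOne ^ 5 = f negOne by
            rw [pow_succ, show f negOne ^ 4 = (f negOne ^ 2) ^ 2 from pow_mul (f negOne) 2 2, hz2,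
              one_pow, one_mul]] at h'
        exact hz1 h'.symm
    let b := Module.finBasisOfFinrankEq (ZMod p) V (hn ▸ hn2)
    let T : H →* Matrix (Fin 2) (Fin 2) (ZMod p) :=
      { toFun := fun a => LinearMap.toMatrixAlgEquiv b (a : V ≃ₗ[ZMod p] V).toLinearMap
        map_one' := map_one (LinearMap.toMatrixAlgEquiv b)
        map_mul' := fun a c => map_mul (LinearMap.toMatrixAlgEquiv b) _ _ }
    have hT : Function.Injective T := fun a c e =>
      Subtype.ext (LinearEquiv.toLinearMap_injective ((LinearMap.toMatrixAlgEquiv b).injective e))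
    refine not_conj_sq (T h) (T g) (T g⁻¹) (by rw [← map_pow, ← ho, pow_orderOf_eq_one, map_one])
      (fun e => ?_) (by rw [← map_mul, ← map_mul, hgh, map_pow]) (by rw [← map_mul, inv_mul_cancel, map_one]) ?_
    · rw [← map_one T] at e
      rw [hT e, orderOf_one] at ho
      omega
    · intro e5
      have : p ∣ 5 := (ZMod.natCast_eq_zero_iff 5 p).1 (by exact_mod_cast e5)
      have hp5 := (Nat.prime_dvd_prime_iff_eq hpp (by norm_num)).1 this
      subst hp5
      rw [hn2] at hH
      norm_num at hH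
      rw [hH] at hcard
      rcases hk0 with e | e <;> rw [e] at hcard <;> omega
  -- counting
  have hrange : Nat.card ρ.range = 60 := by
    have h1 := (f.range.map ρ).card_mul_index
    rw [h60, Nat.card_perm, h5, show Nat.factorial 5 = 120 from rfl] at h1
    have hle : f.range.map ρ ≤ ρ.range := map_le_range _ _
    have h2 := ρ.range.card_mul_index
    rw [Nat.card_perm, h5, show Nat.factorial 5 = 120 from rfl] at h2
    have h3 : ρ.range.index ≠ 1 := fun e => hns' (MonoidHom.range_eq_top.1 (index_eq_one.1 e))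
    have h4 : ρ.range.index ∣ (f.range.map ρ).index := index_dvd_of_le hle
    rw [show (f.range.map ρ).index = 2 by omega] at h4
    rw [((Nat.dvd_prime Nat.prime_two).1 h4).resolve_left h3] at h2
    omega
  set C := centralizer (f.range : Set H) with hC
  have hH60 : Nat.card H = 60 * Nat.card C := by
    have := ρ.ker.card_mul_index
    rw [Subgroup.index_ker, hrange, hker] at this
    omega
  have hsc : ∀ c ∈ C, ∃ a : ZMod p, a • v = (c : V ≃ₗ[ZMod p] V) v := by
    intro c hc
    refine Submodule.mem_span_singleton.1 ?_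
    by_contra hnot
    refine no_cyclic hf (c := c) (fun s hs => mem_centralizer_iff.1 hc s hs) v ?_
    refine Submodule.eq_top_of_finrank_eq (le_antisymm (Submodule.finrank_le _) ?_)
    have hli : LinearIndependent (ZMod p) ![v, (c : V ≃ₗ[ZMod p] V) v] := by
      rw [LinearIndependent.pair_iff' hv]
      exact fun a ha => hnot (Submodule.mem_span_singleton.2 ⟨a, ha⟩)
    have h2 := finrank_span_eq_card hli
    rw [Fintype.card_fin] at h2
    rw [← hn, hn2]
    refine h2.symm.le.trans (Submodule.finrank_mono (Submodule.span_mono ?_))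
    rintro _ ⟨i, rfl⟩
    fin_cases i
    · exact ⟨0, by simp⟩
    · exact ⟨1, by simp⟩
  choose a ha using fun c : C => hsc c c.2
  have hCdvd : Nat.card C ∣ p - 1 := by
    let χ : C →* ZMod p :=
      { toFun := a
        map_one' := smul_left_injective (ZMod p) hv (by
          show a 1 • v = (1 : ZMod p) • v
          rw [ha, one_smul]; rfl)
        map_mul' := fun c d => smul_left_injective (ZMod p) hv (show a (c * d) • v = (a c * a d) • v from
          calc a (c * d) • v = ((c : H) : V ≃ₗ[ZMod p] V) (((d : H) : V ≃ₗ[ZMod p] V) v) := ha (c * d)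
            _ = a d • ((c : H) : V ≃ₗ[ZMod p] V) v := by rw [← ha d, map_smul]
            _ = (a c * a d) • v := by rw [← ha c, ← mul_smul, mul_comm]) }
    have hχ : Function.Injective χ := fun c d e => by
      apply Subtype.ext
      refine (hreg v _ hv (by simpa using hv)).unique ?_ rfl
      rw [← ha c, ← ha d]
      exact congrArg (· • v) e
    rw [Nat.card_congr (MonoidHom.ofInjective (f := χ.toHomUnits) fun c d e =>
      hχ (congrArg Units.val e)).toEquiv, ← ZMod.card_units p, ← Nat.card_eq_fintype_card]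
    exact Subgroup.card_subgroup_dvd_card _
  have hC3 : ¬ 3 ∣ Nat.card C := by
    intro h
    haveI : Fact (Nat.Prime 3) := ⟨Nat.prime_three⟩
    obtain ⟨⟨c, hc⟩, hco⟩ := exists_prime_orderOf_dvd_card' (G := C) 3 h
    rw [orderOf_mk] at hco
    obtain ⟨hz1, hz2⟩ := IsFpf.negOne_facts hf
    rcases IsFpf.mem_centralizer_range hf (hφ.mem_range_of_cube hf (hco ▸ pow_orderOf_eq_one c)) hc with e | e <;>
      rw [e] at hco
    · simp at hco
    · rw [orderOf_eq_prime (p := 2) hz2 hz1] at hco; omega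
  rw [hn2] at hH
  obtain ⟨d, hd⟩ := hCdvd
  obtain ⟨q, rfl⟩ : ∃ q, p = q + 1 := ⟨p - 1, by omega⟩
  rw [Nat.add_sub_cancel] at hd
  have hq2 : (q + 1) ^ 2 - 1 = q * (q + 2) := by
    rw [show (q + 1) ^ 2 = q * (q + 2) + 1 by ring, Nat.add_sub_cancel]
  rw [hH, hq2] at hcard hH60
  have hdvd60 : q + 2 ∣ 60 := by
    refine ⟨d, ?_⟩
    have hCpos : 0 < Nat.card C := Nat.card_pos
    refine Nat.eq_of_mul_eq_mul_left hCpos ?_
    calc Nat.card C * 60 = 60 * Nat.card C := mul_comm _ _
      _ = q * (q + 2) := hH60.symm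
      _ = Nat.card C * d * (q + 2) := congrArg (· * (q + 2)) hd
      _ = Nat.card C * ((q + 2) * d) := by ring
  have hqle : q ≤ 58 := by have := Nat.le_of_dvd (by norm_num) hdvd60; omega
  have hcases : (q = 10 ∧ Nat.card C = 2) ∨ (q = 28 ∧ Nat.card C = 14) ∨ (q = 58 ∧ Nat.card C = 58) := by
    have hl : ∀ q ≤ 58, q + 2 ∣ 60 → Nat.Prime (q + 1) →
        q = 10 ∨ q = 18 ∨ q = 28 ∨ q = 58 ∨ q = 1 ∨ q = 2 ∨ q = 4 := by
      intro q hq
      interval_cases q <;> norm_num
    rcases hl q hqle hdvd60 hpp with e | e | e | e | e | e | e <;> subst e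
    · exact Or.inl ⟨rfl, by omega⟩
    · exact absurd (show 3 ∣ Nat.card C by omega) hC3
    · exact Or.inr (Or.inl ⟨rfl, by omega⟩)
    · exact Or.inr (Or.inr ⟨rfl, by omega⟩)
    · omega
    · omega
    · omega
  have hV : Nat.card V = (q + 1) ^ 2 := by
    rw [Module.natCard_eq_pow_finrank (K := ZMod (q + 1)), Nat.card_zmod, ← hn, hn2]
  have hModd : ¬ 2 ∣ Nat.card M := fun h => by
    have := Nat.eq_one_of_dvd_coprimes hMcop h (by norm_num)
    omega
  refine ⟨Nat.card M, ?_, M, rfl, ?_⟩
  · rcases hcases with ⟨rfl, hc⟩ | ⟨rfl, hc⟩ | ⟨rfl, hc⟩ <;> rw [hc] at hH60 <;>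
      norm_num at hV hcard hH60 <;> rw [hV] <;> rcases hk0 with e | e <;> rw [e] at hcard <;> omega
  · have hk1 : k = 1 := by
      rcases hcases with ⟨rfl, hc⟩ | ⟨rfl, hc⟩ | ⟨rfl, hc⟩ <;>
        norm_num at hcard <;> rcases hk0 with e | e <;> rw [e] at hcard <;> omega
    have htop : Φ.range = ⊤ := by rw [hΦr, ← index_eq_one, ← hk, hk1]
    exact ⟨MulEquiv.ofBijective Φ ⟨hΦ, MonoidHom.range_eq_top.1 htop⟩⟩

end Cfsg.Lib.SolvStruct.Zassenhaus
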