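import Cfsg.Agent.SolvStruct.Zassenhaus.Structure
import Cfsg.Agent.Coprime.Fitting
import Cfsg.Agent.Coprime.SolvableBasics
import Cfsg.Prelude.Def_Transfer

/-!
The six types of core quotients of a fixed-point-free group.
-/

set_option autoImplicit false
set_option linter.unusedSectionVars false
set_option linter.style.haveILetI false

namespace Cfsg.Lib.SolvStruct.Zassenhaus

open Subgroup

theorem alt_or_perm {G : Type*} [Group G] {m : ℕ} (ρ : G →* Equiv.Perm (Fin m))
    (h : ρ.range.index ∣ 2) :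
    (∃ f : G →* alternatingGroup (Fin m), Function.Surjective f ∧ f.ker = ρ.ker) ∨
      (∃ f : G →* Equiv.Perm (Fin m), Function.Surjective f ∧ f.ker = ρ.ker) := by
  rcases (Nat.dvd_prime Nat.prime_two).1 h with e | e
  · exact Or.inr ⟨ρ, MonoidHom.range_eq_top.1 (index_eq_one.1 e), rfl⟩
  · have hr : ρ.range = alternatingGroup (Fin m) := Equiv.Perm.eq_alternatingGroup_of_index_eq_two e
    refine Or.inl ⟨ρ.codRestrict _ fun g => (by rw [← hr]; exact ⟨g, rfl⟩), fun a => ?_, ?_⟩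
    · obtain ⟨g, hg⟩ : (a : Equiv.Perm (Fin m)) ∈ ρ.range := by rw [hr]; exact a.2
      exact ⟨g, Subtype.ext hg⟩
    · exact MonoidHom.ker_codRestrict _ _ _

/-- two commuting involutions generate a `2`-group -/
theorem two_group_of_commuting {K : Type*} [Group K] [Finite K] {a b : K} (ha : a ^ 2 = 1)
    (hb : b ^ 2 = 1) (hab : Commute a b) (h1 : a ≠ 1) (h2 : b ≠ 1) :
    IsPGroup 2 (zpowers a ⊔ zpowers b : Subgroup K) := by
  haveI : Fact (Nat.Prime 2) := ⟨Nat.prime_two⟩
  have hcard : ∀ c : K, c ^ 2 = 1 → c ≠ 1 → IsPGroup 2 (zpowers c) := fun c hc hc1 =>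
    IsPGroup.of_card (n := 1) (by rw [Nat.card_zpowers, orderOf_eq_prime hc hc1, pow_one])
  have hle : zpowers b ≤ normalizer (zpowers a : Set K) := by
    rw [zpowers_le, mem_normalizer_iff]
    intro x
    constructor
    · rintro hx
      obtain ⟨i, rfl⟩ := mem_zpowers_iff.1 hx
      rw [((hab.zpow_left i).symm).eq, mul_inv_cancel_right]
      exact zpow_mem (mem_zpowers a) i
    · intro hx
      obtain ⟨i, hi⟩ := mem_zpowers_iff.1 hx
      refine mem_zpowers_iff.2 ⟨i, ?_⟩
      have hc : b⁻¹ * (a ^ i) * b = a ^ i := by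
        rw [((hab.zpow_left i).symm.inv_left).eq, inv_mul_cancel_right]
      rw [← hc, hi]
      group
  exact (hcard a ha h1).to_sup_of_normal_left' (hcard b hb h2) hle

/-- a Klein four subgroup prevents cyclic Sylow subgroups -/
theorem not_zgroup_of_klein {K : Type*} [Group K] [Finite K] {a b : K} (ha : a ^ 2 = 1)
    (hb : b ^ 2 = 1) (hab : Commute a b) (h1 : a ≠ 1) (h2 : b ≠ 1) (hne : a ≠ b) : ¬ IsZGroup K := by
  intro hZ
  classical
  haveI := hZ
  haveI : Fact (Nat.Prime 2) := ⟨Nat.prime_two⟩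
  set A := zpowers a ⊔ zpowers b
  have hA : IsPGroup 2 A := two_group_of_commuting ha hb hab h1 h2
  haveI := Fintype.ofFinite A
  haveI : IsCyclic A := hA.isCyclic_of_isZGroup
  have hcount := IsCyclic.card_pow_eq_one_le (α := A) (n := 2) (by norm_num)
  let a' : A := ⟨a, mem_sup_left (mem_zpowers a)⟩
  let b' : A := ⟨b, mem_sup_right (mem_zpowers b)⟩
  have hsub : ({1, a', b'} : Finset A) ⊆ Finset.univ.filter (fun x : A => x ^ 2 = 1) := by
    intro x hx
    simp only [Finset.mem_insert, Finset.mem_singleton] at hx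
    rcases hx with rfl | rfl | rfl
    · simp
    · simp [a', Subtype.ext_iff, ha]
    · simp [b', Subtype.ext_iff, hb]
  have h3 : ({1, a', b'} : Finset A).card = 3 := by
    rw [Finset.card_insert_of_notMem, Finset.card_insert_of_notMem, Finset.card_singleton]
    · simp [a', b', Subtype.ext_iff, hne]
    · simp [a', b', Subtype.ext_iff, Ne.symm h1, Ne.symm h2]
  have := Finset.card_le_card hsub
  omega

theorem klein_d2 : ∃ a b : DihedralGroup 2, a ^ 2 = 1 ∧ b ^ 2 = 1 ∧ a * b = b * a ∧ a ≠ 1 ∧ b ≠ 1 ∧ a ≠ b :=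
  ⟨DihedralGroup.r 1, DihedralGroup.sr 0, by decide⟩

theorem klein_perm {m : ℕ} (hm : 4 ≤ m) : ∃ a b : Equiv.Perm (Fin m),
    a ∈ alternatingGroup (Fin m) ∧ b ∈ alternatingGroup (Fin m) ∧
      a ^ 2 = 1 ∧ b ^ 2 = 1 ∧ a * b = b * a ∧ a ≠ 1 ∧ b ≠ 1 ∧ a ≠ b := by
  have base : ∃ a b : Equiv.Perm (Fin 4), a ∈ alternatingGroup (Fin 4) ∧ b ∈ alternatingGroup (Fin 4) ∧
      a ^ 2 = 1 ∧ b ^ 2 = 1 ∧ a * b = b * a ∧ a ≠ 1 ∧ b ≠ 1 ∧ a ≠ b :=
    ⟨Equiv.swap 0 1 * Equiv.swap 2 3, Equiv.swap 0 2 * Equiv.swap 1 3, by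
      simp only [Equiv.Perm.mem_alternatingGroup]; decide +kernel⟩
  obtain ⟨a, b, ha, hb, ha2, hb2, hab, ha1, hb1, hne⟩ := base
  let f : Equiv.Perm (Fin 4) →* Equiv.Perm (Fin m) :=
    Equiv.Perm.viaEmbeddingHom (Fin.castLEEmb hm)
  have hf : Function.Injective f := Equiv.Perm.viaEmbeddingHom_injective _
  have hsq : ∀ c : Equiv.Perm (Fin 4), c ∈ alternatingGroup (Fin 4) → f c ∈ alternatingGroup (Fin m) := by
    intro c hc
    rw [Equiv.Perm.mem_alternatingGroup] at hc ⊢
    show Equiv.Perm.sign (Equiv.Perm.viaEmbedding c (Fin.castLEEmb hm)) = 1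
    rw [Equiv.Perm.viaEmbedding, Equiv.Perm.sign_extendDomain, hc]
  exact ⟨f a, f b, hsq a ha, hsq b hb, by rw [← map_pow, ha2, map_one], by rw [← map_pow, hb2, map_one],
    by rw [← map_mul, ← map_mul, hab], fun e => ha1 (hf (e.trans (map_one f).symm)),
    fun e => hb1 (hf (e.trans (map_one f).symm)), fun e => hne (hf e)⟩

theorem quat_noncomm : ∃ a ∈ quatList, ∃ b ∈ quatList, a * b ≠ b * a :=
  ⟨quatList.getD 2 1, by decide +kernel, quatList.getD 4 1, by decide +kernel, by decide +kernel⟩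

theorem i25_not_zgroup : ¬ IsZGroup I25 := fun h => by
  haveI := h
  have hQ : IsPGroup 2 quat := IsPGroup.of_card (n := 3) (by rw [quat_card]; norm_num)
  haveI : IsCyclic quat := hQ.isCyclic_of_isZGroup
  obtain ⟨a, ha, b, hb, hne⟩ := quat_noncomm
  letI := IsCyclic.commGroup (α := quat)
  exact hne (congrArg Subtype.val (mul_comm (⟨a, ha⟩ : quat) ⟨b, hb⟩))

theorem centralizer_three_cycles : ∀ σ : Equiv.Perm (Fin 5),
    σ * (Equiv.swap 0 1 * Equiv.swap 1 2) = Equiv.swap 0 1 * Equiv.swap 1 2 * σ →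
      σ * (Equiv.swap 2 3 * Equiv.swap 3 4) = Equiv.swap 2 3 * Equiv.swap 3 4 * σ → σ = 1 := by
  decide +kernel

theorem three_cycles_cube : (Equiv.swap (0 : Fin 5) 1 * Equiv.swap 1 2) ^ 3 = 1 ∧
    (Equiv.swap (2 : Fin 5) 3 * Equiv.swap 3 4) ^ 3 = 1 := by decide +kernel

theorem four_no_normal_three : ∀ x : Equiv.Perm (Fin 4), x ^ 3 = 1 → x ≠ 1 →
    ∃ y : Equiv.Perm (Fin 4), Equiv.Perm.sign y = 1 ∧ y * x * y⁻¹ ≠ 1 ∧ y * x * y⁻¹ ≠ x ∧ y * x * y⁻¹ ≠ x⁻¹ := by
  decide +kernel

theorem exists_other {K : Type*} [Group K] [Finite K] {W : Subgroup K} (hW : Nat.card W = 4)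
    (w : K) : ∃ w' ∈ W, w' ≠ 1 ∧ w' ≠ w := by
  classical
  by_contra h
  push_neg at h
  have hsub : (W : Set K) ⊆ {1, w} := fun v hv => by
    by_cases hv1 : v = 1
    · exact Or.inl hv1
    · exact Or.inr (h v hv hv1)
  have h4 := Set.ncard_le_ncard hsub
  rw [← Nat.card_coe_set_eq] at h4
  have h2 : ({1, w} : Set K).ncard ≤ 2 := (Set.ncard_insert_le _ _).trans (by simp)
  change Nat.card W ≤ _ at h4
  omega

theorem klein_elements {K : Type*} [Group K] [Finite K] {W : Subgroup K} (hW : Nat.card W = 4)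
    (hexp : ∀ w ∈ W, w ^ 2 = 1) {w w' : K} (hw : w ∈ W) (hw' : w' ∈ W) (h1 : w ≠ 1) (h1' : w' ≠ 1)
    (hne : w' ≠ w) : ∀ v ∈ W, v = 1 ∨ v = w ∨ v = w' ∨ v = w * w' := by
  classical
  have h1 : w * w' ≠ 1 := fun e => hne (by
    rw [← inv_eq_of_mul_eq_one_right e]
    exact inv_eq_of_mul_eq_one_right (by rw [← pow_two]; exact hexp w hw))
  have hsub : ({1, w, w', w * w'} : Set K) ⊆ (W : Set K) := by
    rintro v (rfl | rfl | rfl | rfl)
    exacts [one_mem W, hw, hw', mul_mem hw hw']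
  have hcard : ({1, w, w', w * w'} : Set K).ncard = 4 := by
    rw [Set.ncard_insert_of_notMem, Set.ncard_insert_of_notMem, Set.ncard_insert_of_notMem,
      Set.ncard_singleton]
    · simp only [Set.mem_singleton_iff]
      intro e
      exact (‹w ≠ 1›) (by
        have : w' * 1 = w' * w := by rw [mul_one]; exact e.trans (by
          rw [show w * w' = w' * w from by
            have hh := hexp _ (mul_mem hw hw')
            rw [pow_two] at hh
            rw [← inv_eq_of_mul_eq_one_right hh, mul_inv_rev,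
              inv_eq_of_mul_eq_one_right (show w * w = 1 by rw [← pow_two]; exact hexp w hw),
              inv_eq_of_mul_eq_one_right (show w' * w' = 1 by rw [← pow_two]; exact hexp w' hw')]])
        exact (mul_left_cancel this).symm)
    · simp only [Set.mem_insert_iff, Set.mem_singleton_iff, not_or]
      exact ⟨Ne.symm hne, fun e => h1' (mul_left_cancel ((mul_one w).trans e)).symm⟩
    · simp only [Set.mem_insert_iff, Set.mem_singleton_iff, not_or]
      exact ⟨Ne.symm ‹w ≠ 1›, Ne.symm h1', Ne.symm h1⟩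
  have heq := Set.eq_of_subset_of_ncard_le hsub (by rw [hcard, ← Nat.card_coe_set_eq]; exact hW.le)
  intro v hv
  have : v ∈ ({1, w, w', w * w'} : Set K) := by rw [heq]; exact hv
  simpa using this

/-- a group with a self-centralising normal Klein four subgroup and an element of order three -/
theorem perm_four_of_klein {K : Type*} [Group K] [Finite K] (W : Subgroup K) [W.Normal]
    (hW : Nat.card W = 4) (hexp : ∀ w ∈ W, w ^ 2 = 1) (hC : centralizer (W : Set K) ≤ W) {x : K}
    (hx : x ^ 3 = 1) (hx1 : x ≠ 1) :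
    (∀ w ∈ W, w ≠ 1 → x * w * x⁻¹ ≠ w) ∧
      ∃ ρ : K →* Equiv.Perm (Fin 4), Function.Injective ρ ∧ ρ.range.index ∣ 2 := by
  classical
  haveI : Fact (Nat.Prime 3) := ⟨Nat.prime_three⟩
  have hinv : ∀ w ∈ W, w⁻¹ = w := fun w hw =>
    inv_eq_of_mul_eq_one_right (by rw [← pow_two]; exact hexp w hw)
  have hab : ∀ a ∈ W, ∀ b ∈ W, a * b = b * a := fun a ha b hb => by
    rw [← hinv _ (mul_mem ha hb), mul_inv_rev, hinv a ha, hinv b hb]
  have hxW : x ∉ W := fun h => hx1 (by
    rw [pow_succ, hexp x h, one_mul] at hx; exact hx)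
  have hnofix : ∀ w ∈ W, w ≠ 1 → x * w * x⁻¹ ≠ w := by
    intro w hw hw1 hfix
    obtain ⟨w', hw', hw'1, hne⟩ := exists_other hW w
    have hall := klein_elements hW hexp hw hw' hw1 hw'1 hne
    have hxc : ∀ v ∈ W, x * v * x⁻¹ ∈ W := fun v hv => Subgroup.Normal.conj_mem inferInstance v hv x
    have hw2 : x * w' * x⁻¹ = w' := by
      rcases hall _ (hxc w' hw') with e | e | e | e
      · exact absurd (conj_eq_one_iff.1 e) hw'1
      · exact absurd (mul_left_cancel (mul_right_cancel (e.trans hfix.symm))) hne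
      · exact e
      · have e2 : (x * x) * w' * (x * x)⁻¹ = w' := by
          rw [show (x * x) * w' * (x * x)⁻¹ = x * (x * w' * x⁻¹) * x⁻¹ by group, e,
            show x * (w * w') * x⁻¹ = (x * w * x⁻¹) * (x * w' * x⁻¹) by group, hfix, e, ← mul_assoc,
            ← pow_two, hexp w hw, one_mul]
        have hxx : x = (x * x) * (x * x) := by
          rw [show (x * x) * (x * x) = x ^ 3 * x by rw [pow_succ, pow_two]; group, hx, one_mul]
        rw [hxx, show (x * x) * (x * x) * w' * ((x * x) * (x * x))⁻¹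
          = (x * x) * ((x * x) * w' * (x * x)⁻¹) * (x * x)⁻¹ by group, e2, e2]
    refine hxW (hC (mem_centralizer_iff.2 fun v hv => ?_))
    rcases hall v hv with rfl | rfl | rfl | rfl
    · rw [one_mul, mul_one]
    · exact (mul_inv_eq_iff_eq_mul.1 hfix).symm
    · exact (mul_inv_eq_iff_eq_mul.1 hw2).symm
    · rw [mul_assoc, ← mul_inv_eq_iff_eq_mul.1 hw2, ← mul_assoc, ← mul_inv_eq_iff_eq_mul.1 hfix,
        mul_assoc]
  refine ⟨hnofix, ?_⟩
  -- the order of the group
  let Ω := {w : W // w ≠ 1}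
  letI : MulAction K Ω :=
    { smul := fun g w => ⟨MulAut.conjNormal g w.1, fun e => w.2 (by simpa using e)⟩
      one_smul := fun w => Subtype.ext (by show MulAut.conjNormal 1 w.1 = _; rw [map_one]; rfl)
      mul_smul := fun g h w => Subtype.ext (by
        show MulAut.conjNormal (g * h) w.1 = MulAut.conjNormal g (MulAut.conjNormal h w.1)
        rw [map_mul]; rfl) }
  set π := MulAction.toPermHom K Ω
  have hπ : π.ker = W := by
    refine le_antisymm (fun g hg => hC (mem_centralizer_iff.2 fun v hv => ?_)) fun g hg => ?_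
    · by_cases hv1 : v = 1
      · rw [hv1, one_mul, mul_one]
      have h := congrArg (fun u : Ω => ((u.1 : W) : K))
        (Equiv.congr_fun (MonoidHom.mem_ker.1 hg) ⟨⟨v, hv⟩, fun e => hv1 (congrArg Subtype.val e)⟩)
      have h' : g * v * g⁻¹ = v := h
      exact (mul_inv_eq_iff_eq_mul.1 h').symm
    · rw [MonoidHom.mem_ker]
      refine Equiv.ext fun w => Subtype.ext (Subtype.ext ?_)
      show g * ((w.1 : W) : K) * g⁻¹ = ((w.1 : W) : K)
      rw [hab g hg _ w.1.2, mul_inv_cancel_right]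
  have hcard : Nat.card K ∣ 24 := by
    have h := π.ker.card_mul_index
    rw [hπ, hW, ← hπ, Subgroup.index_ker] at h
    rw [← h]
    have h6 : Nat.card π.range ∣ 6 := by
      have hΩ : Nat.card Ω = 3 := by
        haveI := Fintype.ofFinite W
        rw [Nat.card_eq_fintype_card, Fintype.card_subtype_compl, Fintype.card_subtype_eq,
          ← Nat.card_eq_fintype_card, hW]
      have := Subgroup.card_subgroup_dvd_card π.range
      rwa [Nat.card_perm, hΩ] at this
    exact mul_dvd_mul_left 4 h6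
  have hxo : orderOf x = 3 := orderOf_eq_prime hx hx1
  have h12 : 12 ∣ Nat.card K :=
    Nat.Coprime.mul_dvd_of_dvd_of_dvd (show Nat.Coprime 4 3 by norm_num)
      (hW ▸ Subgroup.card_subgroup_dvd_card W) (hxo ▸ orderOf_dvd_natCard x)
  let T : Sylow 3 K := Sylow.ofCard (zpowers x) (by
    rw [Nat.card_zpowers, hxo]
    rcases (show Nat.card K = 12 ∨ Nat.card K = 24 by
      have := Nat.le_of_dvd (by norm_num) hcard; have := Nat.card_pos (α := K); omega) with e | e <;> rw [e]
    · rw [show (12 : ℕ) = 3 ^ 1 * 4 from rfl, Nat.factorization_mul (by norm_num) (by norm_num),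
        Finsupp.add_apply, Nat.prime_three.factorization_pow, Finsupp.single_eq_same,
        Nat.factorization_eq_zero_of_not_dvd (show ¬ 3 ∣ 4 by norm_num)]
      rfl
    · rw [show (24 : ℕ) = 3 ^ 1 * 8 from rfl, Nat.factorization_mul (by norm_num) (by norm_num),
        Finsupp.add_apply, Nat.prime_three.factorization_pow, Finsupp.single_eq_same,
        Nat.factorization_eq_zero_of_not_dvd (show ¬ 3 ∣ 8 by norm_num)]
      rfl)
  have hTW : ∀ v ∈ zpowers x, v ∈ W → v = 1 := fun v hv hvW => by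
    have h1 : orderOf v ∣ 3 := by
      rw [← hxo]; exact orderOf_dvd_of_mem_zpowers hv
    have h2 : orderOf v ∣ 2 := orderOf_dvd_of_pow_eq_one (hexp v hvW)
    exact orderOf_eq_one_iff.1 (Nat.eq_one_of_dvd_coprimes (show Nat.Coprime 3 2 by norm_num) h1 h2)
  have hWT : ∀ w ∈ W, w ∈ normalizer (zpowers x : Set K) → w = 1 := by
    intro w hw hn
    by_contra hw1
    have h1 : w * x * w⁻¹ * x⁻¹ ∈ zpowers x :=
      mul_mem ((mem_normalizer_iff.1 hn x).1 (mem_zpowers x)) (inv_mem (mem_zpowers x))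
    have h2 : w * x * w⁻¹ * x⁻¹ ∈ W := by
      rw [show w * x * w⁻¹ * x⁻¹ = w * (x * w⁻¹ * x⁻¹) by group]
      exact mul_mem hw (Subgroup.Normal.conj_mem inferInstance _ (inv_mem hw) x)
    have h3 := mul_inv_eq_one.1 (hTW _ h1 h2)
    refine hnofix w hw hw1 ?_
    rw [← mul_inv_eq_iff_eq_mul.1 h3, mul_inv_cancel_right]
  obtain ⟨n, hn⟩ : ∃ n, n = Nat.card (Sylow 3 K) := ⟨_, rfl⟩
  have hn4 : n = 4 := by
    have h1 : n % 3 = 1 := by rw [hn]; exact card_sylow_modEq_one 3 K
    have h2 : n ∣ 8 := by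
      rw [hn]
      refine (Sylow.card_dvd_index T).trans ?_
      have h := (T : Subgroup K).card_mul_index
      rw [show Nat.card (T : Subgroup K) = 3 from (Nat.card_zpowers x).trans hxo] at h
      have : 3 * (T : Subgroup K).index ∣ 3 * 8 := h ▸ hcard
      exact Nat.dvd_of_mul_dvd_mul_left (by norm_num) this
    have h3 : n ≠ 1 := by
      intro e
      haveI : Subsingleton (Sylow 3 K) := (Nat.card_eq_one_iff_unique.1 (hn ▸ e)).1
      obtain ⟨w, hw, hw1, -⟩ := exists_other hW 1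
      refine hw1 (hWT w hw ?_)
      exact Sylow.smul_eq_iff_mem_normalizer.1 (Subsingleton.elim (w • T) T)
    have := Nat.le_of_dvd (by norm_num) h2
    interval_cases n <;> omega
  set τ := MulAction.toPermHom K (Sylow 3 K)
  have hLW : ∀ w ∈ W, w ∈ τ.ker → w = 1 := fun w hw hk =>
    hWT w hw (Sylow.smul_eq_iff_mem_normalizer.1 (Equiv.congr_fun (MonoidHom.mem_ker.1 hk) T))
  have hL : τ.ker = ⊥ := by
    rw [eq_bot_iff]
    intro l hl
    refine hLW l (hC (mem_centralizer_iff.2 fun w hw => ?_)) hl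
    have h1 : l * w * l⁻¹ * w⁻¹ ∈ τ.ker := by
      rw [show l * w * l⁻¹ * w⁻¹ = l * (w * l⁻¹ * w⁻¹) by group]
      exact mul_mem hl (Subgroup.Normal.conj_mem inferInstance _ (inv_mem hl) w)
    have h2 : l * w * l⁻¹ * w⁻¹ ∈ W :=
      mul_mem (Subgroup.Normal.conj_mem inferInstance w hw l) (inv_mem hw)
    exact (mul_inv_eq_iff_eq_mul.1 (mul_inv_eq_one.1 (hLW _ h2 h1))).symm
  let e : Sylow 3 K ≃ Fin 4 := Finite.equivFinOfCardEq (hn ▸ hn4)
  refine ⟨(Equiv.permCongrHom e).toMonoidHom.comp τ,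
    (Equiv.permCongrHom e).injective.comp ((MonoidHom.ker_eq_bot_iff τ).1 hL), ?_⟩
  have hinj : Function.Injective ((Equiv.permCongrHom e).toMonoidHom.comp τ) :=
    (Equiv.permCongrHom e).injective.comp ((MonoidHom.ker_eq_bot_iff τ).1 hL)
  have h := ((Equiv.permCongrHom e).toMonoidHom.comp τ).range.card_mul_index
  rw [← Nat.card_congr (MonoidHom.ofInjective hinj).toEquiv, Nat.card_perm, Nat.card_fin,
    show Nat.factorial 4 = 24 from rfl] at h
  rcases (show Nat.card K = 12 ∨ Nat.card K = 24 by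
    have := Nat.le_of_dvd (by norm_num) hcard; have := Nat.card_pos (α := K); omega) with e' | e' <;> rw [e'] at h
  · exact Dvd.intro_left 1 (by omega)
  · exact Dvd.intro_left 2 (by omega)

theorem d2_pgroup : IsPGroup 2 (DihedralGroup 2) :=
  IsPGroup.of_card (n := 2) (by rw [DihedralGroup.nat_card]; norm_num)

/-- the map of a quaternion group onto the four group -/
def quatToFour (m : ℕ) (hm : Even m) : QuaternionGroup m →* DihedralGroup 2 :=
  MonoidHom.mk' (fun g => match g with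
    | .a i => DihedralGroup.r (ZMod.castHom (dvd_mul_right 2 m) (ZMod 2) i)
    | .xa i => DihedralGroup.sr (ZMod.castHom (dvd_mul_right 2 m) (ZMod 2) i)) (by
    have hm0 : (m : ZMod 2) = 0 := (ZMod.natCast_eq_zero_iff m 2).2 (even_iff_two_dvd.1 hm)
    rintro (i | i) (j | j)
    · simp [map_add]
    · simp [map_sub]
    · simp [map_add]
    · simp [map_add, map_sub, hm0])

theorem quatToFour_facts (n : ℕ) (hn : 1 ≤ n) :
    Function.Surjective (quatToFour (2 ^ n) (Nat.even_pow.2 ⟨even_two, by omega⟩)) ∧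
      ∀ g, quatToFour (2 ^ n) (Nat.even_pow.2 ⟨even_two, by omega⟩) g = 1 →
        ∃ i : ℕ, g = QuaternionGroup.a 1 ^ (2 * i) := by
  refine ⟨fun d => ?_, fun g hg => ?_⟩
  · rcases d with i | i
    · refine ⟨QuaternionGroup.a (i.val : ZMod (2 * 2 ^ n)), ?_⟩
      show DihedralGroup.r (ZMod.castHom (dvd_mul_right 2 (2 ^ n)) (ZMod 2) (i.val : ZMod (2 * 2 ^ n))) = _
      rw [map_natCast, ZMod.natCast_zmod_val]
    · refine ⟨QuaternionGroup.xa (i.val : ZMod (2 * 2 ^ n)), ?_⟩
      show DihedralGroup.sr (ZMod.castHom (dvd_mul_right 2 (2 ^ n)) (ZMod 2) (i.val : ZMod (2 * 2 ^ n))) = _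
      rw [map_natCast, ZMod.natCast_zmod_val]
  · rcases g with i | i
    · have h : ZMod.castHom (dvd_mul_right 2 (2 ^ n)) (ZMod 2) i = 0 := by
        have h' : DihedralGroup.r (ZMod.castHom (dvd_mul_right 2 (2 ^ n)) (ZMod 2) i) = DihedralGroup.r 0 := hg
        exact DihedralGroup.r.injEq _ _ ▸ h'
      rw [← ZMod.natCast_zmod_val i, map_natCast, ZMod.natCast_eq_zero_iff] at h
      obtain ⟨k, hk⟩ := h
      exact ⟨k, by rw [QuaternionGroup.a_one_pow, ← hk, ZMod.natCast_zmod_val]⟩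
    · have h' : DihedralGroup.sr (ZMod.castHom (dvd_mul_right 2 (2 ^ n)) (ZMod 2) i) = DihedralGroup.r 0 := hg
      cases h'

namespace IsFpf

variable {G : Type*} [Group G] [Finite G] {R : Type*} [Ring R] [Algebra ℚ R] [Nontrivial R]
  {φ : G →* R}

/-- the quotient types -/
def SixTypes (G : Type*) [Group G] (N : Subgroup G) : Prop :=
  N = ⊤ ∨ (∃ f : G →* DihedralGroup 2, Function.Surjective f ∧ f.ker = N) ∨
    (∃ f : G →* alternatingGroup (Fin 4), Function.Surjective f ∧ f.ker = N) ∨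
    (∃ f : G →* Equiv.Perm (Fin 4), Function.Surjective f ∧ f.ker = N) ∨
    (∃ f : G →* alternatingGroup (Fin 5), Function.Surjective f ∧ f.ker = N) ∨
    (∃ f : G →* Equiv.Perm (Fin 5), Function.Surjective f ∧ f.ker = N)

/-- the four small types embed in `Perm (Fin 4)` or `DihedralGroup 2`, the large in `Perm (Fin 5)` -/
theorem SixTypes.cases {N : Subgroup G} (h : SixTypes G N) :
    N = ⊤ ∨ (∃ f : G →* DihedralGroup 2, Function.Surjective f ∧ f.ker = N) ∨
      (∃ ρ : G →* Equiv.Perm (Fin 4), alternatingGroup (Fin 4) ≤ ρ.range ∧ ρ.ker = N) ∨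
      (∃ ρ : G →* Equiv.Perm (Fin 5), alternatingGroup (Fin 5) ≤ ρ.range ∧ ρ.ker = N) := by
  have alt : ∀ {m : ℕ}, (∃ f : G →* alternatingGroup (Fin m), Function.Surjective f ∧ f.ker = N) →
      ∃ ρ : G →* Equiv.Perm (Fin m), alternatingGroup (Fin m) ≤ ρ.range ∧ ρ.ker = N := by
    rintro m ⟨f, hf, hk⟩
    refine ⟨(alternatingGroup (Fin m)).subtype.comp f, fun a ha => ?_, ?_⟩
    · obtain ⟨g, hg⟩ := hf ⟨a, ha⟩
      exact ⟨g, congrArg Subtype.val hg⟩
    · rw [← hk]
      ext g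
      exact (map_eq_one_iff _ (Subgroup.subtype_injective _))
  have perm : ∀ {m : ℕ}, (∃ f : G →* Equiv.Perm (Fin m), Function.Surjective f ∧ f.ker = N) →
      ∃ ρ : G →* Equiv.Perm (Fin m), alternatingGroup (Fin m) ≤ ρ.range ∧ ρ.ker = N := by
    rintro m ⟨f, hf, hk⟩
    exact ⟨f, by rw [MonoidHom.range_eq_top.2 hf]; exact le_top, hk⟩
  rcases h with h | h | h | h | h | h
  · exact Or.inl h
  · exact Or.inr (Or.inl h)
  · exact Or.inr (Or.inr (Or.inl (alt h)))
  · exact Or.inr (Or.inr (Or.inl (perm h)))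
  · exact Or.inr (Or.inr (Or.inr (alt h)))
  · exact Or.inr (Or.inr (Or.inr (perm h)))

/-- the proper types have quotients with a Klein four subgroup -/
theorem SixTypes.not_zgroup {N : Subgroup G} (h : SixTypes G N) (hN : N ≠ ⊤) : ¬ IsZGroup G := by
  intro hZ
  haveI := hZ
  rcases h.cases with e | ⟨f, hf, -⟩ | ⟨ρ, hρ, -⟩ | ⟨ρ, hρ, -⟩
  · exact hN e
  · obtain ⟨a, b, ha, hb, hab, h1, h2, h3⟩ := klein_d2
    exact not_zgroup_of_klein ha hb hab h1 h2 h3 (IsZGroup.of_surjective hf)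
  · obtain ⟨a, b, hae, hbe, ha, hb, hab, h1, h2, h3⟩ := klein_perm (le_refl 4)
    exact not_zgroup_of_klein (K := ρ.range) (a := ⟨a, hρ hae⟩) (b := ⟨b, hρ hbe⟩) (Subtype.ext ha)
      (Subtype.ext hb) (Subtype.ext hab) (fun e => h1 (congrArg Subtype.val e))
      (fun e => h2 (congrArg Subtype.val e)) (fun e => h3 (congrArg Subtype.val e))
      (IsZGroup.of_surjective ρ.rangeRestrict_surjective)
  · obtain ⟨a, b, hae, hbe, ha, hb, hab, h1, h2, h3⟩ := klein_perm (by norm_num : 4 ≤ 5)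
    exact not_zgroup_of_klein (K := ρ.range) (a := ⟨a, hρ hae⟩) (b := ⟨b, hρ hbe⟩) (Subtype.ext ha)
      (Subtype.ext hb) (Subtype.ext hab) (fun e => h1 (congrArg Subtype.val e))
      (fun e => h2 (congrArg Subtype.val e)) (fun e => h3 (congrArg Subtype.val e))
      (IsZGroup.of_surjective ρ.rangeRestrict_surjective)

/-- **non-solvable case** -/
theorem six_nonsolvable [FiniteDimensional ℚ R] (hφ : IsFpf φ) (hns : ¬ Group.IsSolvable G) :
    ∃ N : Subgroup G, (N.Normal ∧ IsZGroup N ∧ SixTypes G N) ∧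
      ∀ N' : Subgroup G, N'.Normal → IsZGroup N' → SixTypes G N' → N' = N := by
  classical
  obtain ⟨x, y, hx, hx1, hy, hy1, hxy⟩ := hφ.exists_ten hns
  obtain ⟨f, hf, -, -⟩ := hφ.exists_icosa hx hx1 hy hy1 hxy
  haveI := hφ.range_normal hf
  obtain ⟨h5, ρ, hker, h60⟩ := hφ.exists_five hf
  set C := centralizer (f.range : Set G) with hC
  haveI hCn : C.Normal := hker ▸ ρ.normal_ker
  haveI : Fintype (Sylow 2 I25) := Fintype.ofFinite _
  let e : Sylow 2 I25 ≃ Fin 5 := (Finite.equivFinOfCardEq h5)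
  let ρ' : G →* Equiv.Perm (Fin 5) := (Equiv.permCongrHom e).toMonoidHom.comp ρ
  have hk' : ρ'.ker = C := by
    rw [← hker]
    ext g
    exact map_eq_one_iff _ (Equiv.permCongrHom e).injective
  have hidx : ρ'.range.index ∣ 2 := by
    have h1 := (f.range.map ρ').card_mul_index
    have h2 : f.range.map ρ' = (f.range.map ρ).map (Equiv.permCongrHom e).toMonoidHom := (map_map _ _ _).symm
    rw [h2, Subgroup.card_map_of_injective (f := (Equiv.permCongrHom e).toMonoidHom)
      (Equiv.permCongrHom e).injective, h60, Nat.card_perm, Nat.card_fin, ← h2,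
      show Nat.factorial 5 = 120 from rfl] at h1
    have h3 : (f.range.map ρ').index = 2 := by omega
    exact h3 ▸ index_dvd_of_le (map_le_range _ _)
  have hsix : SixTypes G C := by
    rcases alt_or_perm ρ' hidx with h | h <;> rw [hk'] at h
    · exact Or.inr (Or.inr (Or.inr (Or.inr (Or.inl h))))
    · exact Or.inr (Or.inr (Or.inr (Or.inr (Or.inr h))))
  refine ⟨C, ⟨hCn, hφ.zgroup_centralizer hf, hsix⟩, fun N hN hNZ hN6 => ?_⟩
  -- `N` centralises the icosahedral subgroup
  haveI := hN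
  haveI := hNZ
  set Nf : Subgroup I25 := N.comap f with hNf
  have hNfnot : ∀ a ∈ Nf, a ^ 3 = 1 → a = 1 := by
    intro a ha h3
    by_contra ha1
    obtain ⟨i, j, hij, rfl⟩ := (axis_all a h3).resolve_left ha1
    have htop := eq_top_of_axis Nf hij ha gen
    refine i25_not_zgroup (IsZGroup.of_injective (f := f.codRestrict N fun b =>
      (htop ▸ mem_top b : b ∈ Nf)) fun b c h => hf (congrArg Subtype.val h))
  have hNI : ∀ v ∈ N, v ∈ f.range → v = 1 ∨ v = f negOne := by
    rintro _ hv ⟨a, rfl⟩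
    exact (small_normal Nf hNfnot hv).imp (fun e => by rw [e, map_one]) (fun e => by rw [e])
  obtain ⟨hz1, hz2⟩ := negOne_facts hf
  have hNC : N ≤ C := by
    intro n hn
    refine mem_centralizer_of_cubes n fun a ha => ?_
    have hfa : f a ∈ f.range := ⟨a, rfl⟩
    have h1 : n * f a * n⁻¹ * (f a)⁻¹ ∈ N := by
      rw [show n * f a * n⁻¹ * (f a)⁻¹ = n * (f a * n⁻¹ * (f a)⁻¹) by group]
      exact mul_mem hn (Subgroup.Normal.conj_mem inferInstance _ (inv_mem hn) _)
    have h2 : n * f a * n⁻¹ * (f a)⁻¹ ∈ f.range :=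
      mul_mem (Subgroup.Normal.conj_mem inferInstance _ hfa n) (inv_mem hfa)
    rcases hNI _ h1 h2 with e | e
    · exact mul_inv_eq_iff_eq_mul.1 (mul_inv_eq_one.1 e)
    · exfalso
      rw [mul_inv_eq_iff_eq_mul] at e
      have hzc : Commute (f negOne) (f a) := by
        show f negOne * f a = f a * f negOne
        rw [← map_mul, ← map_mul, negOne_central]
      have h3 := congrArg (· ^ 3) e
      simp only [conj_pow, hzc.mul_pow, ← map_pow, show a ^ 3 = 1 from ha, map_one, mul_one,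
        mul_inv_cancel] at h3
      rw [map_pow, pow_succ, hz2, one_mul] at h3
      exact hz1 h3.symm
  refine le_antisymm hNC fun c hc => ?_
  haveI : Group.IsSolvable N := inferInstance
  rcases hN6.cases with e | ⟨q, hq, hqk⟩ | ⟨q, hq, hqk⟩ | ⟨q, hq, hqk⟩
  · rw [e] at hNZ
    haveI : IsZGroup G := IsZGroup.of_injective (f := (Subgroup.topEquiv (G := G)).symm.toMonoidHom)
      (Subgroup.topEquiv (G := G)).symm.injective
    exact absurd (inferInstance : Group.IsSolvable G) hns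
  · refine absurd ?_ hns
    haveI : Group.IsSolvable (DihedralGroup 2) :=
      Cfsg.Lib.Presentations.isSolvable_of_card_lt_sixty _ _ rfl (by rw [DihedralGroup.nat_card]; norm_num)
    exact Group.isSolvable_of_ker_le_range N.subtype q (by rw [hqk, range_subtype])
  · refine absurd ?_ hns
    haveI : Group.IsSolvable (Equiv.Perm (Fin 4)) :=
      Cfsg.Lib.Presentations.isSolvable_of_card_lt_sixty _ _ rfl (by
        rw [Nat.card_perm, Nat.card_fin]; decide)
    exact Group.isSolvable_of_ker_le_range N.subtype q (by rw [hqk, range_subtype])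
  · rw [← hqk, MonoidHom.mem_ker]
    set A := f.range.map q with hA
    have hAk : Nat.card (q.comp f).ker ≤ 2 := by
      have hle : (q.comp f).ker ≤ zpowers negOne := fun a ha => by
        have ha' : f a ∈ N := by rw [← hqk]; exact ha
        rcases small_normal Nf hNfnot (x := a) ha' with e | e <;> rw [e]
        · exact one_mem _
        · exact mem_zpowers _
      refine (Nat.le_of_dvd Nat.card_pos (Subgroup.card_dvd_of_le hle)).trans ?_
      rw [Nat.card_zpowers]
      exact orderOf_le_of_pow_eq_one (by norm_num) negOne_ne_one.2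
    have hAc : Nat.card A = 120 / Nat.card (q.comp f).ker := by
      have h := (q.comp f).ker.card_mul_index
      rw [Subgroup.index_ker, card_eq] at h
      rw [hA, MonoidHom.map_range, ← h, Nat.mul_div_cancel_left _ Nat.card_pos]
    have hAi : A.index ≤ 2 := by
      have h := A.card_mul_index
      rw [Nat.card_perm, Nat.card_fin, show Nat.factorial 5 = 120 from rfl] at h
      have h60 : 60 ≤ Nat.card A := by
        rw [hAc]
        rcases Nat.lt_or_ge (Nat.card (q.comp f).ker) 2 with h' | h'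
        · rw [show Nat.card (q.comp f).ker = 1 by have := Nat.card_pos (α := (q.comp f).ker); omega]
          norm_num
        · rw [show Nat.card (q.comp f).ker = 2 by omega]
      nlinarith
    have hA0 : A.index ≠ 0 := index_ne_zero_of_finite
    have hmem : ∀ σ : Equiv.Perm (Fin 5), σ ^ 3 = 1 → σ ∈ A := fun σ hσ => by
      rcases (show A.index = 1 ∨ A.index = 2 by omega) with e | e
      · rw [index_eq_one.1 e]; exact mem_top σ
      · haveI := Subgroup.normal_of_index_eq_two e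
        have h2 : σ ^ 2 ∈ A := e ▸ A.pow_index_mem σ
        have : σ = (σ ^ 2) ^ 2 := by
          rw [← pow_mul, show 2 * 2 = 3 + 1 from rfl, pow_add, hσ, one_mul, pow_one]
        rw [this]
        exact pow_mem h2 2
    have hcomm : ∀ σ ∈ A, q c * σ = σ * q c := by
      rintro _ ⟨v, hv, rfl⟩
      rw [← map_mul, ← map_mul, (mem_centralizer_iff.1 hc v hv)]
    exact centralizer_three_cycles _ (hcomm _ (hmem _ three_cycles_cube.1))
      (hcomm _ (hmem _ three_cycles_cube.2))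

theorem alt_five_not_solvable : ¬ Group.IsSolvable (alternatingGroup (Fin 5)) := fun h => by
  haveI := h
  apply Equiv.Perm.fin_5_not_solvable
  exact Group.isSolvable_of_ker_le_range (alternatingGroup (Fin 5)).subtype Equiv.Perm.sign
    (by rw [range_subtype]; exact le_rfl)

theorem SixTypes.core_le (hns : Group.IsSolvable G) {N O : Subgroup G} [O.Normal] (hO : Odd (Nat.card O))
    (h : SixTypes G N) (hN : N ≠ ⊤) :
    O ≤ N ∧ ((∃ f : G →* DihedralGroup 2, Function.Surjective f ∧ f.ker = N) ∨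
      (∃ ρ : G →* Equiv.Perm (Fin 4), alternatingGroup (Fin 4) ≤ ρ.range ∧ ρ.ker = N)) := by
  classical
  haveI := hns
  have hodd : ∀ {Q : Type} [Group Q] (f : G →* Q) (o : G), o ∈ O → Odd (orderOf (f o)) := by
    intro Q _ f o ho
    exact hO.of_dvd_nat ((orderOf_map_dvd f o).trans (Subgroup.orderOf_dvd_natCard O ho))
  rcases h.cases with e | ⟨f, hf, hk⟩ | ⟨ρ, hρ, hk⟩ | ⟨ρ, hρ, hk⟩
  · exact absurd e hN
  · refine ⟨fun o ho => ?_, Or.inl ⟨f, hf, hk⟩⟩
    rw [← hk, MonoidHom.mem_ker]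
    obtain ⟨i, hi⟩ := d2_pgroup (f o)
    refine orderOf_eq_one_iff.1 (Nat.eq_one_of_dvd_coprimes ?_ dvd_rfl (orderOf_dvd_of_pow_eq_one hi))
    exact (Nat.coprime_two_right.2 (hodd f o ho)).pow_right i
  · refine ⟨fun o ho => ?_, Or.inr ⟨ρ, hρ, hk⟩⟩
    rw [← hk, MonoidHom.mem_ker]
    by_contra hx
    set x := ρ o with hxdef
    set M := O.map ρ with hM
    have hMo : Odd (Nat.card M) := hO.of_dvd_nat (Subgroup.card_map_dvd O ρ)
    have hMd : Nat.card M ∣ 24 := by
      have := Subgroup.card_subgroup_dvd_card M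
      rwa [Nat.card_perm, Nat.card_fin] at this
    have hM3 : Nat.card M ∣ 3 :=
      ((Nat.coprime_two_right.2 hMo).pow_right 3).dvd_of_dvd_mul_left (show Nat.card M ∣ 2 ^ 3 * 3 from hMd)
    have hxM : x ∈ M := ⟨o, ho, rfl⟩
    have hx3 : x ^ 3 = 1 :=
      orderOf_dvd_iff_pow_eq_one.1 ((Subgroup.orderOf_dvd_natCard M hxM).trans hM3)
    obtain ⟨y, hy, h1, h2, h3⟩ := four_no_normal_three x hx3 hx
    obtain ⟨g, hg⟩ := hρ (Equiv.Perm.mem_alternatingGroup.2 hy)
    have hyM : y * x * y⁻¹ ∈ M :=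
      ⟨g * o * g⁻¹, Subgroup.Normal.conj_mem inferInstance o ho g, by
        rw [map_mul, map_mul, map_inv, hg]⟩
    have hsub : ({1, x, x⁻¹, y * x * y⁻¹} : Set (Equiv.Perm (Fin 4))) ⊆ (M : Set _) := by
      rintro v (rfl | rfl | rfl | rfl)
      exacts [one_mem M, hxM, inv_mem hxM, hyM]
    have hc := Set.ncard_le_ncard hsub
    have hxinv : x ≠ x⁻¹ := fun e => hx (by
      rw [pow_succ, pow_two] at hx3
      rw [show x * x = 1 by nth_rewrite 2 [e]; exact mul_inv_cancel x, one_mul] at hx3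
      exact hx3)
    rw [Set.ncard_insert_of_notMem, Set.ncard_insert_of_notMem, Set.ncard_insert_of_notMem,
      Set.ncard_singleton, ← Nat.card_coe_set_eq] at hc
    · change 4 ≤ Nat.card M at hc
      have := Nat.le_of_dvd (by norm_num) hM3
      omega
    · simpa using Ne.symm h3
    · simp only [Set.mem_insert_iff, Set.mem_singleton_iff, not_or]
      exact ⟨hxinv, Ne.symm h2⟩
    · simp only [Set.mem_insert_iff, Set.mem_singleton_iff, not_or]
      exact ⟨Ne.symm hx, fun e => hx (inv_eq_one.1 e.symm), Ne.symm h1⟩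
  · exfalso
    apply alt_five_not_solvable
    haveI : Group.IsSolvable ρ.range := Group.isSolvable_of_surjective ρ.rangeRestrict_surjective
    exact Group.isSolvable_of_isSolvable_injective (Subgroup.inclusion_injective hρ)

theorem exists_conj_auto {H : Type*} [Group H] {F : Subgroup H} [F.Normal] (x : H) :
    orderOf (MulAut.conjNormal x : MulAut F) ∣ orderOf x :=
  orderOf_map_dvd _ x

/-- **solvable case** -/
theorem six_solvable (hφ : IsFpf φ) (hsol : Group.IsSolvable G) (hnz : ¬ IsZGroup G) :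
    ∃ N : Subgroup G, (N.Normal ∧ IsZGroup N ∧ SixTypes G N) ∧
      ∀ N' : Subgroup G, N'.Normal → IsZGroup N' → SixTypes G N' → N' = N := by
  classical
  haveI := hsol
  haveI : Fact (Nat.Prime 2) := ⟨Nat.prime_two⟩
  set O := Cfsg.pPrimeCore 2 G with hOdef
  have hO : Odd (Nat.card O) :=
    Nat.coprime_two_right.1 (Cfsg.Lib.Components.coprime_card_pPrimeCore (G := G) 2)
  set π := QuotientGroup.mk' O with hπ
  have hπs : Function.Surjective π := QuotientGroup.mk'_surjective O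
  -- the Sylow subgroup
  obtain ⟨P⟩ : Nonempty (Sylow 2 G) := inferInstance
  have hPnc : ¬ IsCyclic (P : Subgroup G) := fun hc => hnz ⟨fun p hp Q => by
    haveI := Fact.mk hp
    by_cases hp2 : p = 2
    · subst hp2
      exact (Sylow.equiv P Q).isCyclic.1 hc
    · exact hφ.cyclic_of_odd hp2 Q.isPGroup'⟩
  have hPinj : Function.Injective (π.comp (P : Subgroup G).subtype) :=
    (injective_iff_map_eq_one _).2 fun v hv => by
      have hvO : (v : G) ∈ O := (QuotientGroup.eq_one_iff (v : G)).1 hv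
      obtain ⟨i, hi⟩ := IsPGroup.iff_orderOf.1 P.isPGroup' v
      have h1 : orderOf (v : G) ∣ Nat.card O := Subgroup.orderOf_dvd_natCard O hvO
      refine orderOf_eq_one_iff.1 (Nat.eq_one_of_dvd_coprimes
        ((Nat.coprime_two_right.2 hO).pow_right i) (by rwa [Subgroup.orderOf_coe] at h1) (by rw [hi]))
  have hrange : (π.comp (P : Subgroup G).subtype).range = (P.mapSurjective hπs : Subgroup (G ⧸ O)) := by
    rw [MonoidHom.range_comp, range_subtype, Sylow.coe_mapSurjective]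
  let eP : (P : Subgroup G) ≃* (P.mapSurjective hπs : Subgroup (G ⧸ O)) :=
    (MonoidHom.ofInjective hPinj).trans (MulEquiv.subgroupCongr hrange)
  have hemb : ∀ Q : Subgroup (G ⧸ O), IsPGroup 2 Q → ∃ ψ : Q →* G, Function.Injective ψ := by
    intro Q hQ
    obtain ⟨S, hS⟩ := hQ.exists_le_sylow
    refine ⟨(P : Subgroup G).subtype.comp ((eP.symm.toMonoidHom).comp
      ((Sylow.equiv S (P.mapSurjective hπs)).toMonoidHom.comp (Subgroup.inclusion hS))), ?_⟩
    exact Subtype.val_injective.comp (eP.symm.injective.comp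
      ((Sylow.equiv S (P.mapSurjective hπs)).injective.comp (Subgroup.inclusion_injective hS)))
  have hfp : ∀ {Q : Subgroup (G ⧸ O)}, IsPGroup 2 Q → ∀ a b : Q, a ^ 2 = 1 → a ≠ 1 → b ^ 2 = 1 →
      b ≠ 1 → a = b := by
    intro Q hQ a b ha ha1 hb hb1
    obtain ⟨ψ, hψ⟩ := hemb Q hQ
    have hf : IsFpf (φ.comp ψ) := fun g hg => hφ _ fun e => hg (hψ (e.trans (map_one ψ).symm))
    exact hf.involution_unique ha1 ha hb1 hb
  have hklein : ∀ a b : G ⧸ O, a ^ 2 = 1 → b ^ 2 = 1 → Commute a b → a ≠ 1 → b ≠ 1 → a = b :=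
    fun a b ha hb hab h1 h2 => congrArg Subtype.val (hfp (two_group_of_commuting ha hb hab h1 h2)
      ⟨a, mem_sup_left (mem_zpowers a)⟩ ⟨b, mem_sup_right (mem_zpowers b)⟩ (Subtype.ext ha)
      (fun e => h1 (congrArg Subtype.val e)) (Subtype.ext hb) (fun e => h2 (congrArg Subtype.val e)))
  have hzg : ∀ (N : Subgroup G) (c : G ⧸ O), N.map π ≤ zpowers c → IsZGroup N := by
    intro N c hN
    refine ⟨fun p hp Q => ?_⟩
    haveI := Fact.mk hp
    by_cases hp2 : p = 2
    · subst hp2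
      let η : (Q : Subgroup N) →* zpowers c :=
        ((π.comp N.subtype).comp (Q : Subgroup N).subtype).codRestrict _ fun v =>
          hN ⟨_, (v : N).2, rfl⟩
      refine isCyclic_of_injective η ((injective_iff_map_eq_one η).2 fun v hv => ?_)
      have hvO : ((v : N) : G) ∈ O := (QuotientGroup.eq_one_iff ((v : N) : G)).1 (congrArg Subtype.val hv)
      obtain ⟨i, hi⟩ := IsPGroup.iff_orderOf.1 Q.isPGroup' v
      have h1 : orderOf ((v : N) : G) ∣ Nat.card O := Subgroup.orderOf_dvd_natCard O hvO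
      refine orderOf_eq_one_iff.1 (Nat.eq_one_of_dvd_coprimes
        ((Nat.coprime_two_right.2 hO).pow_right i)
        (by rwa [Subgroup.orderOf_coe, Subgroup.orderOf_coe] at h1) (by rw [hi]))
    · exact (hφ.restrict N).cyclic_of_odd hp2 Q.isPGroup'
  have hother : ∀ N' : Subgroup G, IsZGroup N' → SixTypes G N' →
      O ≤ N' ∧ ((∃ f : G →* DihedralGroup 2, Function.Surjective f ∧ f.ker = N') ∨
        (∃ ρ : G →* Equiv.Perm (Fin 4), alternatingGroup (Fin 4) ≤ ρ.range ∧ ρ.ker = N')) := by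
    intro N' hZ h6
    refine SixTypes.core_le hsol hO h6 fun e => hnz ?_
    subst e
    haveI := hZ
    exact IsZGroup.of_injective (f := (Subgroup.topEquiv (G := G)).symm.toMonoidHom)
      (Subgroup.topEquiv (G := G)).symm.injective
  by_cases h2 : IsPGroup 2 (G ⧸ O)
  · -- generalised quaternion quotient
    have hStop : (P.mapSurjective hπs : Subgroup (G ⧸ O)) = ⊤ := by
      refine ((P.mapSurjective hπs).is_maximal' ?_ le_top).symm
      exact h2.to_subgroup ⊤
    obtain hc | ⟨-, n, ⟨e⟩⟩ := hφ.cyclic_or_quaternion P.isPGroup'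
    · exact absurd hc hPnc
    have hn : 1 ≤ n := by
      by_contra h
      obtain rfl : n = 0 := by omega
      haveI : IsCyclic (QuaternionGroup (2 ^ 0)) := QuaternionGroup.quaternionGroup_one_isCyclic
      exact hPnc (e.symm.isCyclic.1 inferInstance)
    let E : G ⧸ O ≃* QuaternionGroup (2 ^ n) :=
      ((Subgroup.topEquiv.symm.trans (MulEquiv.subgroupCongr hStop.symm)).trans eP.symm).trans e
    obtain ⟨hqs, hqk⟩ := quatToFour_facts n hn
    set q := quatToFour (2 ^ n) (Nat.even_pow.2 ⟨even_two, by omega⟩) with hq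
    let f : G →* DihedralGroup 2 := q.comp (E.toMonoidHom.comp π)
    have hf : Function.Surjective f := hqs.comp (E.surjective.comp hπs)
    refine ⟨f.ker, ⟨inferInstance, hzg _ (E.symm (QuaternionGroup.a 1)) ?_,
      Or.inr (Or.inl ⟨f, hf, rfl⟩)⟩, fun N' hN' hZ h6 => ?_⟩
    · rintro _ ⟨g, hg, rfl⟩
      obtain ⟨i, hi⟩ := hqk (E (π g)) hg
      exact ⟨((2 * i : ℕ) : ℤ), by
        show E.symm (QuaternionGroup.a 1) ^ ((2 * i : ℕ) : ℤ) = π g
        rw [zpow_natCast, ← map_pow, ← hi, MulEquiv.symm_apply_apply]⟩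
    obtain ⟨hON, ⟨f', hf', hk'⟩ | ⟨ρ, hρ, hk'⟩⟩ := hother N' hZ h6
    · refine (Subgroup.eq_of_le_of_card_ge ?_ ?_).symm
      · intro g hg
        obtain ⟨i, hi⟩ := hqk (E (π g)) hg
        obtain ⟨h, hh⟩ := hπs (E.symm (QuaternionGroup.a 1) ^ i)
        have hgh : π g = π (h * h) := by
          rw [map_mul, hh, ← pow_add, ← two_mul, ← map_pow, ← hi, MulEquiv.symm_apply_apply]
        have hmem : (h * h)⁻¹ * g ∈ N' := hON (QuotientGroup.eq.1 hgh.symm)
        have hsq : h * h ∈ N' := by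
          rw [← hk', MonoidHom.mem_ker, map_mul]
          exact (by decide : ∀ d : DihedralGroup 2, d * d = 1) (f' h)
        have := mul_mem hsq hmem
        rwa [mul_inv_cancel_left] at this
      · have h1 := f.ker.card_mul_index
        have h3 := N'.card_mul_index
        have i1 : f.ker.index = 4 := by
          rw [Subgroup.index_ker, MonoidHom.range_eq_top.2 hf, Subgroup.card_top, DihedralGroup.nat_card]
        have i3 : N'.index = 4 := by
          rw [← hk', Subgroup.index_ker, MonoidHom.range_eq_top.2 hf', Subgroup.card_top,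
            DihedralGroup.nat_card]
        rw [i1] at h1
        rw [i3] at h3
        omega
    · exfalso
      obtain ⟨j, hj⟩ := IsPGroup.iff_card.1 h2
      have hA4 : 3 ∣ Nat.card ρ.range := by
        refine dvd_trans ?_ (Subgroup.card_dvd_of_le hρ)
        rw [nat_card_alternatingGroup, Nat.card_fin]
        decide
      have hd : Nat.card ρ.range ∣ 2 ^ j := by
        rw [← hj, ← Subgroup.index_ker, hk']
        exact Subgroup.index_dvd_of_le hON
      have := Nat.prime_three.dvd_of_dvd_pow (hA4.trans hd)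
      norm_num at this
  -- the tetrahedral and octahedral case
  obtain ⟨x, hxodd, hx1⟩ : ∃ x : G ⧸ O, Odd (orderOf x) ∧ x ≠ 1 := by
    by_contra hcon
    push_neg at hcon
    refine h2 fun g => ?_
    obtain ⟨a, b, -, -, hab, ⟨i, hi⟩, hb⟩ := Cfsg.Lib.Transfer.exists_pPart 2 g
    refine ⟨i, ?_⟩
    rw [← hab, hcon b (Nat.coprime_two_right.1 hb), mul_one, ← hi, pow_orderOf_eq_one]
  set F := Cfsg.pCore 2 (G ⧸ O) with hF
  have hFp : IsPGroup 2 F := Cfsg.Lib.Components.isPGroup_pCore 2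
  have hcore : Cfsg.pPrimeCore 2 (G ⧸ O) = ⊥ := Cfsg.Lib.Coprime.pPrimeCore_quotient_eq_bot
  haveI : Group.IsSolvable (G ⧸ O) := inferInstance
  have hCF : centralizer (F : Set (G ⧸ O)) ≤ F := Cfsg.Lib.Coprime.centralizer_pCore_le 2 hcore
  have hoddF : ∀ y : G ⧸ O, y ∈ F → Odd (orderOf y) → y = 1 := fun y hy ho => by
    obtain ⟨i, hi⟩ := IsPGroup.iff_orderOf.1 hFp ⟨y, hy⟩
    rw [Subgroup.orderOf_mk] at hi
    exact orderOf_eq_one_iff.1 (Nat.eq_one_of_dvd_coprimes
      ((Nat.coprime_two_right.2 ho).pow_right i) dvd_rfl (by rw [hi]))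
  have hauto : ∀ y : G ⧸ O, Odd (orderOf y) → y ≠ 1 → (MulAut.conjNormal y : MulAut F) ≠ 1 := by
    intro y ho hy1 he
    refine hy1 (hoddF y (hCF (mem_centralizer_iff.2 fun v hv => ?_)) ho)
    have := congrArg Subtype.val (DFunLike.congr_fun he ⟨v, hv⟩)
    rw [MulAut.conjNormal_apply] at this
    exact (mul_inv_eq_iff_eq_mul.1 this).symm
  obtain ⟨ψF, hψF⟩ := hemb F hFp
  have hFf : IsFpf (φ.comp ψF) := fun g hg => hφ _ fun e => hg (hψF (e.trans (map_one ψF).symm))
  have hcase : IsCyclic F ∨ ∃ n : ℕ, Nonempty (F ≃* QuaternionGroup (2 ^ n)) := by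
    have htop : IsPGroup 2 (⊤ : Subgroup F) := hFp.to_subgroup ⊤
    rcases hFf.cyclic_or_quaternion htop with h | ⟨-, n, ⟨e⟩⟩
    · exact Or.inl (Subgroup.topEquiv.isCyclic.1 h)
    · exact Or.inr ⟨n, ⟨Subgroup.topEquiv.symm.trans e⟩⟩
  have hσ : ∀ y : G ⧸ O, Odd (orderOf y) → Odd (orderOf (MulAut.conjNormal y : MulAut F)) :=
    fun y ho => ho.of_dvd_nat (exists_conj_auto y)
  obtain ⟨⟨eF⟩, -⟩ := Cfsg.Lib.RankOne.odd_auto_quaternion hFp hcase _ (hσ x hxodd) (hauto x hxodd hx1)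
  have hF8 : Nat.card F = 8 := by
    rw [Nat.card_congr eF.toEquiv, Nat.card_eq_fintype_card, QuaternionGroup.card]
  have hcube : ∀ y : G ⧸ O, Odd (orderOf y) → y ^ 3 = 1 := by
    intro y ho
    by_cases hy : y = 1
    · rw [hy, one_pow]
    obtain ⟨-, h3⟩ := Cfsg.Lib.RankOne.odd_auto_quaternion hFp hcase _ (hσ y ho) (hauto y ho hy)
    by_contra hne
    refine hauto (y ^ 3) ?_ hne (by rw [map_pow, h3])
    exact ho.of_dvd_nat (orderOf_pow_dvd 3)
  have hx3 : x ^ 3 = 1 := hcube x hxodd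
  -- the involution
  obtain ⟨z, hzF, hz2, hz1⟩ : ∃ z ∈ F, z ^ 2 = 1 ∧ z ≠ 1 := by
    obtain ⟨⟨z, hz⟩, hzo⟩ := exists_prime_orderOf_dvd_card' (G := F) 2 (by rw [hF8]; norm_num)
    rw [Subgroup.orderOf_mk] at hzo
    exact ⟨z, hz, by have := pow_orderOf_eq_one z; rwa [hzo] at this, fun e => by rw [e, orderOf_one] at hzo; omega⟩
  have hzu : ∀ a ∈ F, a ^ 2 = 1 → a = 1 ∨ a = z := fun a ha ha2 => by
    by_cases ha1 : a = 1
    · exact Or.inl ha1
    · exact Or.inr (congrArg Subtype.val (hfp hFp ⟨a, ha⟩ ⟨z, hzF⟩ (Subtype.ext ha2)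
        (fun e => ha1 (congrArg Subtype.val e)) (Subtype.ext hz2) (fun e => hz1 (congrArg Subtype.val e))))
  set Z := zpowers z with hZdef
  have hZc : Nat.card Z = 2 := by rw [hZdef, Nat.card_zpowers, orderOf_eq_prime hz2 hz1]
  haveI hZn : Z.Normal := ⟨fun a ha g => by
    obtain ⟨i, rfl⟩ := mem_zpowers_iff.1 ha
    rw [← conj_zpow]
    refine zpow_mem ?_ i
    rcases hzu (g * z * g⁻¹) (Subgroup.Normal.conj_mem inferInstance z hzF g)
      (by rw [conj_pow, hz2, mul_one, mul_inv_cancel]) with e | e <;> rw [e]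
    · exact one_mem _
    · exact mem_zpowers z⟩
  have hZF : Z ≤ F := zpowers_le.2 hzF
  have hq8 : ∀ v : QuaternionGroup 2, v ^ 2 = 1 ∨ v ^ 2 = QuaternionGroup.a 2 := by decide
  have hsqF : ∀ a ∈ F, a ^ 2 ∈ Z := by
    intro a ha
    have h4 : (a ^ 2) ^ 2 = 1 := by
      have : (eF ⟨a, ha⟩ ^ 2) ^ 2 = 1 := by
        rcases hq8 (eF ⟨a, ha⟩) with e | e <;> rw [e] <;> decide
      rw [← map_pow, ← map_pow, MulEquiv.map_eq_one_iff] at this
      exact congrArg Subtype.val this
    rcases hzu _ (pow_mem ha 2) h4 with e | e <;> rw [e]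
    · exact one_mem _
    · exact mem_zpowers z
  set μ := QuotientGroup.mk' Z with hμ
  have hμs : Function.Surjective μ := QuotientGroup.mk'_surjective Z
  set W := F.map μ with hW
  haveI : W.Normal := Subgroup.Normal.map inferInstance μ hμs
  have hW4 : Nat.card W = 4 := by
    have h1 := (μ.comp F.subtype).ker.card_mul_index
    have hker : Nat.card (μ.comp F.subtype).ker = 2 := by
      refine (Nat.card_congr (α := (μ.comp F.subtype).ker) (β := Z)
        { toFun := fun v => ⟨((v : F) : G ⧸ O), (QuotientGroup.eq_one_iff ((v : F) : G ⧸ O)).1 v.2⟩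
          invFun := fun v => ⟨⟨v, hZF v.2⟩, (QuotientGroup.eq_one_iff (v : G ⧸ O)).2 v.2⟩
          left_inv := fun v => rfl
          right_inv := fun v => rfl }).trans hZc
    rw [Subgroup.index_ker, hker, MonoidHom.range_comp, range_subtype, hF8] at h1
    rw [hW]
    omega
  have hWexp : ∀ w ∈ W, w ^ 2 = 1 := by
    rintro _ ⟨a, ha, rfl⟩
    rw [← map_pow]
    exact (QuotientGroup.eq_one_iff (a ^ 2)).2 (hsqF a ha)
  have hWC : centralizer (W : Set ((G ⧸ O) ⧸ Z)) ≤ W := by
    set D := (centralizer (W : Set ((G ⧸ O) ⧸ Z))).comap μ with hD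
    have hDp : IsPGroup 2 D := by
      rintro ⟨g, hg⟩
      obtain ⟨a, b, -, hb, hab, ⟨i, hi⟩, hbo⟩ := Cfsg.Lib.Transfer.exists_pPart 2 g
      have hbD : b ∈ D := (zpowers_le.2 hg) hb
      have hb1 : b = 1 := by
        by_contra hb1
        have ho := Nat.coprime_two_right.1 hbo
        have htop := Cfsg.Lib.RankOne.eq_top_of_odd_auto eF _ (hσ b ho) (hauto b ho hb1) (Z.subgroupOf F)
          fun r => by
            rw [mem_subgroupOf]
            show ((r : G ⧸ O))⁻¹ * (b * (r : G ⧸ O) * b⁻¹) ∈ Z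
            rw [← QuotientGroup.eq]
            have hc := mem_centralizer_iff.1 (show μ b ∈ centralizer (W : Set ((G ⧸ O) ⧸ Z)) from hbD)
              (μ (r : G ⧸ O)) ⟨_, r.2, rfl⟩
            show μ (r : G ⧸ O) = μ (b * (r : G ⧸ O) * b⁻¹)
            rw [map_mul, map_mul, map_inv, ← hc, mul_inv_cancel_right]
        rw [Subgroup.subgroupOf_eq_top] at htop
        have := Subgroup.card_le_of_le htop
        omega
      refine ⟨i, Subtype.ext ?_⟩
      show g ^ 2 ^ i = 1
      rw [← hab, hb1, mul_one, ← hi, pow_orderOf_eq_one]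
    haveI : D.Normal := Subgroup.Normal.comap inferInstance μ
    intro k hk
    obtain ⟨g, rfl⟩ := hμs k
    exact ⟨g, Cfsg.Lib.Components.le_pCore hDp hk, rfl⟩
  have hμx : μ x ^ 3 = 1 ∧ μ x ≠ 1 := by
    refine ⟨by rw [← map_pow, hx3, map_one], fun e => hx1 ?_⟩
    exact hoddF x (hZF ((QuotientGroup.eq_one_iff x).1 e)) hxodd
  obtain ⟨hnofix, ρ₀, hρinj, hρidx⟩ := perm_four_of_klein W hW4 hWexp hWC hμx.1 hμx.2
  let ρ : G →* Equiv.Perm (Fin 4) := ρ₀.comp (μ.comp π)
  have hρker : ∀ g, g ∈ ρ.ker ↔ π g ∈ Z := fun g => by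
    rw [MonoidHom.mem_ker]
    show ρ₀ (μ (π g)) = 1 ↔ _
    rw [map_eq_one_iff _ hρinj]
    exact QuotientGroup.eq_one_iff (π g)
  have hρr : ρ.range.index ∣ 2 := by
    have hrr : ρ.range = ρ₀.range := by
      ext σ
      constructor
      · rintro ⟨g, rfl⟩; exact ⟨μ (π g), rfl⟩
      · rintro ⟨k, rfl⟩
        obtain ⟨y, rfl⟩ := hμs k
        obtain ⟨g, rfl⟩ := hπs y
        exact ⟨g, rfl⟩
    rw [hrr]
    exact hρidx
  refine ⟨ρ.ker, ⟨inferInstance, hzg _ z (by rintro _ ⟨g, hg, rfl⟩; exact (hρker g).1 hg), ?_⟩,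
    fun N' hN' hZ' h6 => ?_⟩
  · rcases alt_or_perm ρ hρr with h | h
    · exact Or.inr (Or.inr (Or.inl h))
    · exact Or.inr (Or.inr (Or.inr (Or.inl h)))
  obtain ⟨hON, hq⟩ := hother N' hZ' h6
  haveI := hN'
  haveI := hZ'
  set M := N'.map π with hM
  haveI : M.Normal := Subgroup.Normal.map inferInstance π hπs
  haveI : IsZGroup M := IsZGroup.of_surjective (π.subgroupMap_surjective N')
  have hNeq : ∀ g, g ∈ N' ↔ π g ∈ M := fun g => by
    refine ⟨fun h => ⟨g, h, rfl⟩, ?_⟩
    rintro ⟨h, hh, e⟩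
    have := hON (QuotientGroup.eq.1 e)
    simpa using mul_mem hh this
  have hFnc : ¬ F ≤ M := fun hle => by
    haveI : IsZGroup F := IsZGroup.of_injective (f := Subgroup.inclusion hle) (Subgroup.inclusion_injective hle)
    haveI : IsCyclic (⊤ : Subgroup F) := (hFp.to_subgroup ⊤).isCyclic_of_isZGroup
    letI := IsCyclic.commGroup (α := (⊤ : Subgroup F))
    have h := congrArg (fun v : (⊤ : Subgroup F) => eF (v : F)) (mul_comm
      (⟨eF.symm (QuaternionGroup.a 1), mem_top _⟩ : (⊤ : Subgroup F))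
      ⟨eF.symm (QuaternionGroup.xa 0), mem_top _⟩)
    simp at h
    exact absurd h (by decide)
  have hMp : IsPGroup 2 M := by
    rintro ⟨g, hg⟩
    obtain ⟨a, b, -, hb, hab, ⟨i, hi⟩, hbo⟩ := Cfsg.Lib.Transfer.exists_pPart 2 g
    have hbM : b ∈ M := (zpowers_le.2 hg) hb
    have hb1 : b = 1 := by
      by_contra hb1
      have ho := Nat.coprime_two_right.1 hbo
      have htop := Cfsg.Lib.RankOne.eq_top_of_odd_auto eF _ (hσ b ho) (hauto b ho hb1) (M.subgroupOf F)
        fun r => by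
          rw [mem_subgroupOf]
          show ((r : G ⧸ O))⁻¹ * (b * (r : G ⧸ O) * b⁻¹) ∈ M
          rw [show ((r : G ⧸ O))⁻¹ * (b * (r : G ⧸ O) * b⁻¹)
            = ((r : G ⧸ O))⁻¹ * b * ((r : G ⧸ O))⁻¹⁻¹ * b⁻¹ by group]
          exact mul_mem (Subgroup.Normal.conj_mem inferInstance b hbM _) (inv_mem hbM)
      exact hFnc (Subgroup.subgroupOf_eq_top.1 htop)
    refine ⟨i, Subtype.ext ?_⟩
    show g ^ 2 ^ i = 1
    rw [← hab, hb1, mul_one, ← hi, pow_orderOf_eq_one]
  have hMF : M ≤ F := Cfsg.Lib.Components.le_pCore hMp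
  have hMZ : M ≤ Z := by
    intro v hv
    by_contra hvZ
    have hw1 : μ v ≠ 1 := fun e => hvZ ((QuotientGroup.eq_one_iff v).1 e)
    have hMW : ∀ u ∈ M, μ u ∈ W := fun u hu => ⟨u, hMF hu, rfl⟩
    have hxv : x * v * x⁻¹ ∈ M := Subgroup.Normal.conj_mem inferInstance v hv x
    have hw'1 : μ (x * v * x⁻¹) ≠ 1 := by
      rw [map_mul, map_mul, map_inv]
      exact fun e => hw1 (conj_eq_one_iff.1 e)
    have hne : μ (x * v * x⁻¹) ≠ μ v := by
      rw [map_mul, map_mul, map_inv]
      exact hnofix _ (hMW v hv) hw1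
    have hall := klein_elements hW4 hWexp (hMW v hv) (hMW _ hxv) hw1 hw'1 hne
    have hzM : z ∈ M := by
      obtain ⟨i, hi⟩ := IsPGroup.iff_orderOf.1 hMp ⟨v, hv⟩
      rw [Subgroup.orderOf_mk] at hi
      have hv1 : v ≠ 1 := fun e => hvZ (e ▸ one_mem Z)
      obtain ⟨j, rfl⟩ : ∃ j, i = j + 1 := ⟨i - 1, by
        rcases Nat.eq_zero_or_pos i with rfl | h
        · simp at hi; exact absurd hi hv1
        · omega⟩
      have hu : (v ^ 2 ^ j) ^ 2 = 1 := by rw [← pow_mul, ← pow_succ, ← hi, pow_orderOf_eq_one]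
      have hu1 : v ^ 2 ^ j ≠ 1 := pow_ne_one_of_lt_orderOf (by positivity)
        (by rw [hi]; exact Nat.pow_lt_pow_right (by norm_num) (by omega))
      rcases hzu _ (pow_mem (hMF hv) _) hu with e | e
      · exact absurd e hu1
      · exact e ▸ pow_mem hv _
    have hrep : ∀ a ∈ F, ∀ u ∈ M, μ a = μ u → a ∈ M := fun a _ u hu e => by
      have h := (zpowers_le.2 hzM) (show u⁻¹ * a ∈ Z from QuotientGroup.eq.1 e.symm)
      simpa using mul_mem hu h
    refine hFnc fun a ha => ?_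
    rcases hall (μ a) ⟨a, ha, rfl⟩ with e | e | e | e
    · exact hrep a ha 1 (one_mem M) (by rw [e, map_one])
    · exact hrep a ha v hv e
    · exact hrep a ha _ hxv e
    · exact hrep a ha (v * (x * v * x⁻¹)) (mul_mem hv hxv) (e.trans (map_mul μ _ _).symm)
  have hZM : z ∈ M := by
    by_contra hzM
    have hbot : M = ⊥ := by
      rw [eq_bot_iff]
      intro v hv
      obtain ⟨i, rfl⟩ := mem_zpowers_iff.1 (hMZ hv)
      have h2' : (z ^ i) ^ 2 = 1 := by
        rw [pow_two, ← zpow_add, show i + i = (2 : ℕ) * i by push_cast; ring, zpow_mul, zpow_natCast, hz2,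
          one_zpow]
      rcases hzu _ (zpow_mem hzF i) h2' with e | e
      · rw [e]; exact one_mem _
      · exact absurd (e ▸ hv) hzM
    -- the quotient would contain two commuting involutions
    have key : ∀ {Q : Type} [Group Q] (f : G →* Q), f.ker = N' → ∀ c d : Q, c ∈ f.range → d ∈ f.range →
        c ^ 2 = 1 → d ^ 2 = 1 → c * d = d * c → c ≠ 1 → d ≠ 1 → c = d := by
      rintro Q _ f hf _ _ ⟨c, rfl⟩ ⟨d, rfl⟩ hc hd hcd hc1 hd1
      have e : ∀ g, f g = 1 ↔ π g = 1 := fun g => by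
        rw [← MonoidHom.mem_ker, hf, hNeq, hbot, mem_bot]
      have hone : ∀ g g' : G, π g = π g' → f g = f g' := fun g g' h => by
        rw [← mul_inv_eq_one, ← map_inv, ← map_mul, e, map_mul, map_inv, h, mul_inv_cancel]
      refine hone c d (hklein _ _ ?_ ?_ ?_ (fun h => hc1 ((e c).2 h)) (fun h => hd1 ((e d).2 h)))
      · rw [← map_pow, ← e, map_pow, hc]
      · rw [← map_pow, ← e, map_pow, hd]
      · show π c * π d = π d * π c
        rw [← mul_inv_eq_one, mul_inv_rev, ← map_inv, ← map_inv, ← map_mul, ← map_mul, ← map_mul,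
          ← e, map_mul, map_mul, map_mul, map_inv, map_inv, ← mul_inv_rev, hcd, mul_inv_cancel]
    rcases hq with ⟨f, hf, hk⟩ | ⟨σ, hσ', hk⟩
    · obtain ⟨c, d, hc, hd, hcd, h1, h2', h3⟩ := klein_d2
      exact h3 (key f hk c d (hf c) (hf d) hc hd hcd h1 h2')
    · obtain ⟨c, d, hce, hde, hc, hd, hcd, h1, h2', h3⟩ := klein_perm (le_refl 4)
      exact h3 (key σ hk c d (hσ' hce) (hσ' hde) hc hd hcd h1 h2')
  ext g
  rw [hρker, hNeq]
  exact ⟨fun h => hMZ h, fun h => (zpowers_le.2 hZM) h⟩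

/-- **existence and uniqueness of the core with quotient of one of the six types** -/
theorem six_types [FiniteDimensional ℚ R] (hφ : IsFpf φ) :
    ∃! N : Subgroup G, N.Normal ∧ IsZGroup N ∧ SixTypes G N := by
  by_cases hZ : IsZGroup G
  · refine ⟨⊤, ⟨inferInstance, inferInstance, Or.inl rfl⟩, fun N hN => ?_⟩
    by_contra hne
    exact hN.2.2.not_zgroup hne hZ
  · by_cases hs : Group.IsSolvable G
    · obtain ⟨N, hN, hu⟩ := hφ.six_solvable hs hZ
      exact ⟨N, hN, fun N' h => hu N' h.1 h.2.1 h.2.2⟩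
    · obtain ⟨N, hN, hu⟩ := hφ.six_nonsolvable hs
      exact ⟨N, hN, fun N' h => hu N' h.1 h.2.1 h.2.2⟩

end IsFpf

end Cfsg.Lib.SolvStruct.Zassenhaus
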