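import Cfsg.Agent.SolvStruct.Zassenhaus.AutSolvable
import Cfsg.Agent.SolvStruct.Zassenhaus.Rep
import Cfsg.Agent.SolvStruct.TIHallComplement

/-!
Separable groups with a TI Hall subgroup.
-/

set_option autoImplicit false
set_option linter.unusedSectionVars false
set_option linter.style.haveILetI false

namespace Cfsg.Lib.SolvStruct.Zassenhaus

open Subgroup

variable {G : Type*} [Group G] [Finite G]

theorem coprime_inter_trivial {H O : Subgroup G} (hO : (Nat.card O).Coprime (Nat.card H)) {v : G}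
    (h1 : v ∈ O) (h2 : v ∈ H) : v = 1 :=
  orderOf_eq_one_iff.1 (Nat.eq_one_of_dvd_coprimes hO (orderOf_dvd_natCard O h1) (orderOf_dvd_natCard H h2))

/-- a TI subgroup normalising a solvable group of coprime order without normalising ... acts freely -/
theorem crit_of_ti {H O : Subgroup G} [Nontrivial H] [O.Normal] (hTI : Cfsg.IsTISubset (H : Set G))
    (hcop : (Nat.card O).Coprime (Nat.card H)) (hsol : Group.IsSolvable O)
    (hne : ¬ O ≤ normalizer (H : Set G)) :
    Cfsg.Lib.Frobenius.ProductComplement.Crit H := by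
  classical
  haveI := hsol
  set C := O ⊓ normalizer (H : Set G) with hC
  have hcomm : ∀ c ∈ C, ∀ k ∈ H, c * k = k * c := by
    intro c hc k hk
    have h1 : c * k * c⁻¹ * k⁻¹ ∈ H :=
      mul_mem ((mem_normalizer_iff.1 hc.2 k).1 hk) (inv_mem hk)
    have h2 : c * k * c⁻¹ * k⁻¹ ∈ O := by
      rw [show c * k * c⁻¹ * k⁻¹ = c * (k * c⁻¹ * k⁻¹) by group]
      exact mul_mem hc.1 (Subgroup.Normal.conj_mem inferInstance _ (inv_mem hc.1) k)
    exact mul_inv_eq_iff_eq_mul.1 (mul_inv_eq_one.1 (coprime_inter_trivial hcop h2 h1))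
  have hfix : ∀ c ∈ O, ∀ h ∈ H, h ≠ 1 → c * h = h * c → c ∈ C := by
    intro c hc h hh h1 e
    refine ⟨hc, ?_⟩
    by_contra hn
    exact h1 (hTI c hn h hh (by rw [e, mul_inv_cancel_right]; exact hh))
  -- a minimal invariant subgroup outside the fixed points
  obtain ⟨W, ⟨hWO, hWn, hWC⟩, hmin⟩ := (wellFounded_lt (α := Subgroup G)).has_min
    {W : Subgroup G | W ≤ O ∧ H ≤ normalizer (W : Set G) ∧ ¬ W ≤ C}
    ⟨O, le_rfl, le_normalizer_of_normal, fun h => hne (h.trans inf_le_right)⟩
  haveI : Group.IsSolvable W :=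
    Group.isSolvable_of_isSolvable_injective (Subgroup.inclusion_injective hWO)
  haveI : Nontrivial W := by
    rw [nontrivial_iff_ne_bot]
    rintro rfl
    exact hWC bot_le
  have hDC : ⁅W, W⁆ ≤ C := by
    have hle : ⁅W, W⁆ ≤ W := by rw [← map_subtype_commutator]; exact map_subtype_le _
    by_contra hnot
    refine hmin ⁅W, W⁆ ⟨hle.trans hWO, fun h hh => ?_, hnot⟩ (lt_of_le_of_ne hle fun e => ?_)
    · rw [← Cfsg.Lib.Transfer.map_conj_eq_self_iff, Subgroup.map_commutator,
        Cfsg.Lib.Transfer.map_conj_eq_self_iff.2 (hWn hh)]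
    · rw [← map_subtype_commutator] at e
      refine (Group.IsSolvable.commutator_lt_top_of_nontrivial W).ne ?_
      refine Subgroup.map_injective W.subtype_injective ?_
      rw [e, ← MonoidHom.range_eq_map, range_subtype]
  haveI hW0 : (C.subgroupOf W).Normal := ⟨fun x hx g => by
    rw [mem_subgroupOf] at hx ⊢
    push_cast
    rw [show (g : G) * x * (g : G)⁻¹ = ((g : G) * x * (g : G)⁻¹ * (x : G)⁻¹) * x by group]
    refine mul_mem (hDC ?_) hx
    rw [← commutatorElement_def]
    exact commutator_mem_commutator g.2 x.2⟩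
  let θW : H → MulAut W := fun h =>
    { toFun := fun w => ⟨(h : G) * w * (h : G)⁻¹, (mem_normalizer_iff.1 (hWn h.2) _).1 w.2⟩
      invFun := fun w => ⟨(h : G)⁻¹ * w * ((h : G)⁻¹)⁻¹, (mem_normalizer_iff.1 (inv_mem (hWn h.2)) _).1 w.2⟩
      left_inv := fun w => Subtype.ext (by simp [mul_assoc])
      right_inv := fun w => Subtype.ext (by simp [mul_assoc])
      map_mul' := fun a b => Subtype.ext (by simp [mul_assoc]) }
  have hθfix : ∀ (h : H) (w : W), (w : G) ∈ C → θW h w = w := fun h w hw =>
    Subtype.ext (show (h : G) * w * (h : G)⁻¹ = w by rw [← hcomm _ hw _ h.2, mul_inv_cancel_right])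
  have hmap : ∀ h : H, (C.subgroupOf W).map (θW h).toMonoidHom = C.subgroupOf W := by
    intro h
    ext w
    constructor
    · rintro ⟨v, hv, rfl⟩
      show θW h v ∈ C.subgroupOf W
      rw [hθfix h v hv]; exact hv
    · intro hw
      exact ⟨w, hw, hθfix h w hw⟩
  let θ : H →* MulAut (W ⧸ C.subgroupOf W) :=
    { toFun := fun h => QuotientGroup.congr _ _ (θW h) (hmap h)
      map_one' := by
        ext q
        induction q using QuotientGroup.induction_on with
        | _ w =>
          show ((θW 1 w : W) : W ⧸ C.subgroupOf W) = _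
          rw [show θW 1 w = w from Subtype.ext (by simp [θW])]
          rfl
      map_mul' := fun a b => by
        ext q
        induction q using QuotientGroup.induction_on with
        | _ w =>
          show ((θW (a * b) w : W) : W ⧸ C.subgroupOf W) = ((θW a (θW b w) : W) : W ⧸ C.subgroupOf W)
          rw [show θW (a * b) w = θW a (θW b w) from Subtype.ext (by simp [θW, mul_assoc])] }
  haveI : Nontrivial (W ⧸ C.subgroupOf W) :=
    QuotientGroup.nontrivial_iff.2 fun h => hWC (subgroupOf_eq_top.1 h)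
  refine crit_of_fpf_action θ fun h h1 q hq => ?_
  induction q using QuotientGroup.induction_on with
  | _ w =>
  rw [QuotientGroup.eq_one_iff, mem_subgroupOf]
  have hq' : ((θW h w : W) : W ⧸ C.subgroupOf W) = (w : W ⧸ C.subgroupOf W) := hq
  have hc : (w : G)⁻¹ * ((h : G) * w * (h : G)⁻¹) ∈ C := mem_subgroupOf.1 (QuotientGroup.eq.1 hq'.symm)
  set c := (w : G)⁻¹ * ((h : G) * w * (h : G)⁻¹) with hcdef
  have hstep : (h : G) * w * (h : G)⁻¹ = w * c := by rw [hcdef, mul_inv_cancel_left]
  have hiter : ∀ n : ℕ, (h : G) ^ n * w * ((h : G) ^ n)⁻¹ = w * c ^ n := by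
    intro n
    induction n with
    | zero => simp
    | succ n ih =>
      have e : (h : G) * c * (h : G)⁻¹ = c := by rw [← hcomm c hc _ h.2, mul_inv_cancel_right]
      rw [pow_succ', show (h : G) * (h : G) ^ n * w * ((h : G) * (h : G) ^ n)⁻¹
        = (h : G) * ((h : G) ^ n * w * ((h : G) ^ n)⁻¹) * (h : G)⁻¹ by group, ih,
        show (h : G) * (w * c ^ n) * (h : G)⁻¹ = ((h : G) * w * (h : G)⁻¹) * ((h : G) * c * (h : G)⁻¹) ^ n by
          rw [conj_pow]; group,
        hstep, e, mul_assoc, ← pow_succ']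
  have hcn : c ^ orderOf (h : G) = 1 := by
    have := hiter (orderOf (h : G))
    rw [pow_orderOf_eq_one, one_mul, inv_one, mul_one] at this
    exact left_eq_mul.1 this
  have hc1 : c = 1 := orderOf_eq_one_iff.1 (Nat.eq_one_of_dvd_coprimes hcop
    (orderOf_dvd_natCard O hc.1) ((orderOf_dvd_of_pow_eq_one hcn).trans (orderOf_dvd_natCard H h.2)))
  rw [hc1, mul_one, mul_inv_eq_iff_eq_mul] at hstep
  exact hfix w (hWO w.2) h h.2 (fun e => h1 (Subtype.ext e)) hstep.symm

theorem i25_not_solvable : ¬ Group.IsSolvable I25 := by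
  intro h
  haveI := h
  have hperf : commutator I25 = ⊤ := by
    refine eq_top_iff.2 fun x _ => ?_
    have hsub : ∀ a : I25, a ^ 3 = 1 → a ∈ commutator I25 := by
      intro a ha
      rcases axis_all a ha with rfl | ⟨i, j, hij, rfl⟩
      · exact one_mem _
      obtain ⟨a, b, e⟩ : ∃ a b : I25, axis 0 1 = a * b * a⁻¹ * b⁻¹ :=
        ⟨⟨!![0, 2; 2, 0], by decide⟩, ⟨!![0, 1; 4, 4], by decide⟩, by decide +kernel⟩
      have h01 : axis 0 1 ∈ commutator I25 := by
        rw [e, ← commutatorElement_def, commutator_def]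
        exact commutator_mem_commutator (mem_top a) (mem_top b)
      rw [eq_top_of_axis (commutator I25) (by decide) h01 gen]
      exact mem_top _
    exact (Subgroup.closure_le _).2 hsub (gen x)
  haveI : Nontrivial I25 := ⟨⟨negOne, 1, negOne_ne_one.1⟩⟩
  exact (Group.IsSolvable.commutator_lt_top_of_nontrivial I25).ne hperf

/-- **separable groups with a TI Hall subgroup** -/
theorem ti_hall_structure {H : Subgroup G} (hTI : Cfsg.IsTISubset (H : Set G)) (hnn : ¬ H.Normal)
    (hHall : (Nat.card H).Coprime (H.subgroupOf (normalizer (H : Set G))).index)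
    (hsep : ∃ (n : ℕ) (M : Fin (n + 1) → Subgroup G), M 0 = ⊥ ∧ M (Fin.last n) = ⊤ ∧ Monotone M ∧
      (∀ i, (M i).Normal) ∧
      ∀ i : Fin n, (∀ q : ℕ, q.Prime → q ∣ (M i.castSucc).relIndex (M i.succ) → q ∣ Nat.card H) ∨
        ((M i.castSucc).relIndex (M i.succ)).Coprime (Nat.card H))
    (O : Subgroup G) (hO : O = sSup {K : Subgroup G | K.Normal ∧ (Nat.card K).Coprime (Nat.card H)}) :
    O ⊔ normalizer (H : Set G) = ⊤ ∧ (O ⊔ H).Normal ∧
    (Group.IsSolvable G ↔ Group.IsSolvable O ∧
      ∀ K : Subgroup G, K ≤ H → ¬ Nonempty (K ≃* Matrix.SpecialLinearGroup (Fin 2) (ZMod 5))) := by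
  classical
  have hne : H ≠ ⊥ := fun h => hnn (h ▸ inferInstance)
  haveI : Nontrivial H := (nontrivial_iff_ne_bot H).2 hne
  obtain ⟨hOn, hOcop⟩ : O.Normal ∧ (Nat.card O).Coprime (Nat.card H) := by
    rw [hO]
    refine Cfsg.Lib.Components.sSup_induction_normal (fun N : Subgroup G => (Nat.card N).Coprime (Nat.card H))
      (by simp) ?_ _ (fun N hN => hN)
    intro N M hN hM h1 h2
    haveI := hN
    exact Nat.Coprime.coprime_dvd_left (Cfsg.Lib.Components.card_sup_dvd_mul N M) (h1.mul_left h2)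
  haveI := hOn
  obtain ⟨O', hO'n, hO'cop, hO'sup⟩ := Cfsg.Lib.SolvStruct.exists_coprime_supplement hTI
    (Cfsg.Lib.SolvStruct.coprime_index_of_ti hTI hHall) hne hsep
  have hle : ∀ N : Subgroup G, N.Normal → (Nat.card N).Coprime (Nat.card H) → N ≤ O :=
    fun N h1 h2 => hO ▸ le_sSup ⟨h1, h2⟩
  have hsup : O ⊔ normalizer (H : Set G) = ⊤ :=
    top_le_iff.1 (hO'sup.ge.trans (sup_le_sup_right (hle O' hO'n hO'cop) _))
  have hON : ¬ O ≤ normalizer (H : Set G) := fun h => hnn (normalizer_eq_top_iff.1 (by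
    rw [sup_eq_right.2 h] at hsup; exact hsup))
  have hOH : (O ⊔ H).Normal := by
    refine normalizer_eq_top_iff.1 (top_le_iff.1 (hsup.ge.trans (sup_le
      (le_sup_left.trans le_normalizer) fun g hg => ?_)))
    rw [← Cfsg.Lib.Transfer.map_conj_eq_self_iff, Subgroup.map_sup,
      Cfsg.Lib.Transfer.map_conj_eq_self_iff.2 hg,
      Cfsg.Lib.Transfer.map_conj_eq_self_iff.2 (le_normalizer_of_normal (mem_top g))]
  refine ⟨hsup, hOH, fun hG => ?_, ?_⟩
  · haveI := hG
    refine ⟨inferInstance, fun K _ ⟨e⟩ => ?_⟩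
    haveI : Group.IsSolvable (Matrix.SpecialLinearGroup (Fin 2) (ZMod 5)) :=
      Group.isSolvable_of_surjective (f := e.toMonoidHom) e.surjective
    exact i25_not_solvable inferInstance
  rintro ⟨hOsol, hno⟩
  -- `H` is a solvable fixed-point-free group
  obtain ⟨V, φ, hV, hφ⟩ := exists_fpf_rep (crit_of_ti hTI hOcop hOsol hON)
  haveI hHsol : Group.IsSolvable H := by
    by_contra hns
    obtain ⟨S, M, -, -, -, -, -, ⟨e⟩, -, -⟩ := hφ.structure_of_nonsolvable hns
    exact hno (S.map H.subtype) (map_subtype_le _)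
      ⟨(S.equivMapOfInjective H.subtype H.subtype_injective).symm.trans e⟩
  haveI := hφ.solvable_aut hHsol
  -- the quotient by `O`
  set π := QuotientGroup.mk' O with hπ
  set Hb := H.map π with hHb
  haveI hHbn : Hb.Normal := by
    have h : (O ⊔ H).map π = Hb := by
      rw [Subgroup.map_sup, QuotientGroup.map_mk'_self, bot_sup_eq]
    rw [← h]
    exact Subgroup.Normal.map hOH π (QuotientGroup.mk'_surjective O)
  have hinj : Function.Injective (π.comp H.subtype) := (injective_iff_map_eq_one _).2 fun v hv =>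
    Subtype.ext (coprime_inter_trivial hOcop ((QuotientGroup.eq_one_iff (v : G)).1 hv) v.2)
  have eH : H ≃* Hb := (MonoidHom.ofInjective hinj).trans
    (MulEquiv.subgroupCongr (by rw [MonoidHom.range_comp, range_subtype]))
  have hHbc : Nat.card Hb = Nat.card H := Nat.card_congr eH.symm.toEquiv
  have hHbi : (Nat.card H).Coprime Hb.index := by
    refine (Cfsg.Lib.SolvStruct.coprime_index_of_ti hTI hHall).coprime_dvd_right ?_
    exact Subgroup.index_map_dvd _ (QuotientGroup.mk'_surjective O)
  set X := centralizer (Hb : Set (G ⧸ O)) with hX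
  haveI : X.Normal := inferInstance
  have hXle : X ≤ Hb := by
    set Z := Hb.subgroupOf X with hZ
    have hZd : Nat.card Z ∣ Nat.card H := by
      rw [hZ, ← hHbc, ← Nat.card_congr (Subgroup.inf_subgroupOf_right Hb X ▸
        (Subgroup.subgroupOfEquivOfLe (inf_le_right : Hb ⊓ X ≤ X)).toEquiv).symm]
      exact card_dvd_of_le inf_le_left
    have hZi : Z.index ∣ Hb.index :=
      Cfsg.Lib.Components.relIndex_dvd_index_of_normal_right Hb X
    have hcop : (Nat.card Z).Coprime Z.index :=
      (hHbi.coprime_dvd_left hZd).coprime_dvd_right hZi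
    obtain ⟨R, hR⟩ := Subgroup.exists_right_complement'_of_coprime hcop
    have hZc : ∀ z ∈ Z, ∀ y : X, y * z = z * y := fun z hz y =>
      Subtype.ext (mem_centralizer_iff.1 y.2 _ (mem_subgroupOf.1 hz)).symm
    haveI hRn : R.Normal := by
      refine normalizer_eq_top_iff.1 (top_le_iff.1 ?_)
      rw [← hR.sup_eq_top]
      refine sup_le (fun z hz => ?_) le_normalizer
      rw [mem_normalizer_iff]
      intro y
      rw [← hZc z hz y, mul_inv_cancel_right]
    have hRc : (Nat.card R).Coprime (Nat.card H) := by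
      rw [← hR.symm.index_eq_card]
      exact (hHbi.coprime_dvd_right hZi).symm
    have hRi : ∀ y : X, (orderOf y).Coprime (Nat.card H) → y ∈ R := by
      intro y hy
      rw [← QuotientGroup.eq_one_iff, ← orderOf_eq_one_iff]
      refine Nat.eq_one_of_dvd_coprimes hy (orderOf_map_dvd (QuotientGroup.mk' R) y) ?_
      refine dvd_trans (orderOf_dvd_natCard _) ?_
      rw [← Subgroup.index_eq_card, hR.index_eq_card]
      exact hZd
    set R' := R.map X.subtype with hR'
    haveI : R'.Normal := by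
      refine ⟨?_⟩
      rintro _ ⟨c, hc, rfl⟩ g
      refine ⟨MulAut.conjNormal g c, hRi _ ?_, MulAut.conjNormal_apply g c⟩
      rw [MulEquiv.orderOf_eq]
      exact hRc.coprime_dvd_left (orderOf_dvd_natCard R hc)
    have hR'O : R'.comap π ≤ O := by
      refine hle _ (Subgroup.Normal.comap inferInstance π) ?_
      have h1 : Nat.card (R'.comap π) = Nat.card O * Nat.card R' := by
        rw [hπ, Cfsg.Lib.Coprime.card_comap_mk']
      rw [h1, hR', card_map_of_injective X.subtype_injective]
      exact hOcop.mul_left hRc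
    intro y hy
    obtain ⟨⟨z, r⟩, e, -⟩ := hR.existsUnique ⟨y, hy⟩
    have hr : ((r : X) : G ⧸ O) = 1 := by
      obtain ⟨g, hg⟩ := QuotientGroup.mk'_surjective O ((r : X) : G ⧸ O)
      have : g ∈ O := hR'O (show π g ∈ R' by rw [hg]; exact mem_map_of_mem X.subtype r.2)
      rw [← hg]
      exact (QuotientGroup.eq_one_iff g).2 this
    have e' : ((z : X) : G ⧸ O) * ((r : X) : G ⧸ O) = y := congrArg Subtype.val e
    rw [← e', hr, mul_one]
    exact mem_subgroupOf.1 z.2
  haveI : Group.IsSolvable (MulAut Hb) := solvable_aut_congr eH.symm inferInstance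
  haveI : Group.IsSolvable Hb := Group.isSolvable_of_surjective (f := eH.toMonoidHom) eH.surjective
  haveI : Group.IsSolvable (G ⧸ O) := by
    refine Group.isSolvable_of_ker_le_range Hb.subtype (MulAut.conjNormal : G ⧸ O →* MulAut Hb) ?_
    rw [range_subtype]
    intro g hg
    refine hXle (mem_centralizer_iff.2 fun v hv => ?_)
    have := congrArg Subtype.val (DFunLike.congr_fun (MonoidHom.mem_ker.1 hg) ⟨v, hv⟩)
    rw [MulAut.conjNormal_apply] at this
    exact (mul_inv_eq_iff_eq_mul.1 this).symm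
  exact Group.isSolvable_of_ker_le_range O.subtype π (by rw [range_subtype, hπ, QuotientGroup.ker_mk'])

end Cfsg.Lib.SolvStruct.Zassenhaus
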