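import Cfsg.Agent.SolvStruct.Zassenhaus.Regular
import Cfsg.Agent.SolvStruct.Zassenhaus.Six
import Cfsg.Agent.SolvStruct.Zassenhaus.TIHall

/-!
The minimal non-abelian normal subgroup of a regular linear group.
-/

set_option autoImplicit false
set_option linter.unusedSectionVars false
set_option linter.style.haveILetI false

namespace Cfsg.Lib.SolvStruct.Zassenhaus

open Subgroup Cfsg.Lib.PermGroups.LinearRegular

/-- a nilpotent generalised quaternion group of class two has order eight -/
theorem quaternion_class_two {n : ℕ}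
    (h : ∀ a b c : QuaternionGroup (2 ^ n), (a * b * a⁻¹ * b⁻¹) * c = c * (a * b * a⁻¹ * b⁻¹)) : n ≤ 1 := by
  by_contra hn
  obtain ⟨m, rfl⟩ : ∃ m, n = m + 2 := ⟨n - 2, by omega⟩
  have h1 := h (QuaternionGroup.a 1) (QuaternionGroup.xa 0) (QuaternionGroup.xa 0)
  have hi1 : (QuaternionGroup.a 1 : QuaternionGroup (2 ^ (m + 2)))⁻¹ = QuaternionGroup.a (-1) :=
    inv_eq_of_mul_eq_one_right (by rw [QuaternionGroup.a_mul_a, add_neg_cancel]; rfl)
  have hi2 : (QuaternionGroup.xa 0 : QuaternionGroup (2 ^ (m + 2)))⁻¹ =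
      QuaternionGroup.xa ((2 ^ (m + 2) : ℕ) : ZMod (2 * 2 ^ (m + 2))) :=
    inv_eq_of_mul_eq_one_right (by
      rw [QuaternionGroup.xa_mul_xa, sub_zero, ← Nat.cast_add, ← two_mul, ZMod.natCast_self]; rfl)
  rw [hi1, hi2] at h1
  simp only [QuaternionGroup.a_mul_xa, QuaternionGroup.xa_mul_a, QuaternionGroup.xa_mul_xa,
    QuaternionGroup.xa.injEq] at h1
  have hcast : ((2 ^ (m + 2) : ℕ) : ZMod (2 * 2 ^ (m + 2))) + ((2 ^ (m + 2) : ℕ) : ZMod (2 * 2 ^ (m + 2))) = 0 := by
    rw [← Nat.cast_add, ← two_mul, ZMod.natCast_self]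
  have h4 : ((4 : ℕ) : ZMod (2 * 2 ^ (m + 2))) = 0 := by
    push_cast at h1 hcast ⊢
    linear_combination -h1 - 2 * hcast
  rw [ZMod.natCast_eq_zero_iff] at h4
  have := Nat.le_of_dvd (by norm_num) h4
  have : 1 ≤ 2 ^ m := Nat.one_le_two_pow
  rw [pow_add] at *
  omega

variable {G : Type*} [Group G] [Finite G] {R : Type*} [Ring R] [Algebra ℚ R] [Nontrivial R]
  [FiniteDimensional ℚ R] {φ : G →* R}

/-- a solvable minimal non-abelian normal subgroup of the centraliser is quaternion of order eight -/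
theorem IsFpf.core_solvable (hφ : IsFpf φ) {A : Subgroup G} (hAn : A.Normal) (hAc : IsMulCommutative A)
    (hAmax : ∀ B : Subgroup G, B.Normal → IsMulCommutative B → A ≤ B → B = A) {N : Subgroup G}
    (hNn : N.Normal) (hNle : N ≤ centralizer (A : Set G)) (hNna : ¬ IsMulCommutative N)
    (hNmin : ∀ M : Subgroup G, M.Normal → M ≤ N → ¬ IsMulCommutative M → M = N)
    (hsol : Group.IsSolvable N) : Nonempty (N ≃* QuaternionGroup 2) := by
  classical
  haveI := hAn
  haveI := hNn
  haveI := hsol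
  haveI : Fact (Nat.Prime 2) := ⟨Nat.prime_two⟩
  haveI : Nontrivial N := by
    by_contra h
    haveI := not_nontrivial_iff_subsingleton.1 h
    exact hNna ⟨⟨fun a b => Subsingleton.elim _ _⟩⟩
  -- the derived subgroup is central
  set D := (commutator N).map N.subtype with hD
  haveI hDn : D.Normal := by rw [hD]; infer_instance
  have hDc : IsMulCommutative D := by
    by_contra hDc
    have e : D = N := hNmin D hDn (map_subtype_le _) hDc
    refine (Group.IsSolvable.commutator_lt_top_of_nontrivial N).ne ?_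
    refine Subgroup.map_injective N.subtype_injective ?_
    rw [← MonoidHom.range_eq_map, range_subtype]
    exact e
  have hDA : D ≤ A := by
    have hcom : ∀ x ∈ A ⊔ D, ∀ y ∈ A ⊔ D, x * y = y * x := by
      have h1 : A ⊔ D ≤ centralizer (A : Set G) := sup_le
        (fun a ha => mem_centralizer_iff.2 fun b hb => (congrArg Subtype.val (hAc.is_comm.comm ⟨b, hb⟩ ⟨a, ha⟩)))
        ((map_subtype_le _).trans hNle)
      have h2 : A ⊔ D ≤ centralizer (D : Set G) := sup_le
        (fun a ha => mem_centralizer_iff.2 fun b hb =>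
          (mem_centralizer_iff.1 (hNle (map_subtype_le _ hb)) a ha).symm)
        (fun a ha => mem_centralizer_iff.2 fun b hb => (congrArg Subtype.val (hDc.is_comm.comm ⟨b, hb⟩ ⟨a, ha⟩)))
      intro x hx y hy
      have h3 : A ⊔ D ≤ centralizer ({x} : Set G) := sup_le
        (fun a ha => mem_centralizer_singleton_iff.2 (mem_centralizer_iff.1 (h1 hx) a ha))
        (fun a ha => mem_centralizer_singleton_iff.2 (mem_centralizer_iff.1 (h2 hx) a ha))
      exact (mem_centralizer_singleton_iff.1 (h3 hy)).symm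
    have := hAmax _ (sup_normal A D) ⟨⟨fun x y => Subtype.ext (hcom x x.2 y y.2)⟩⟩ le_sup_left
    exact le_sup_right.trans this.le
  have hcen : ∀ u ∈ commutator N, ∀ v : N, u * v = v * u := fun u hu v => Subtype.ext
    (mem_centralizer_iff.1 (hNle v.2) (u : G) (hDA (mem_map_of_mem N.subtype hu)))
  haveI : Group.IsNilpotent N := by
    haveI : Group.IsNilpotent (N ⧸ commutator N) := by
      letI : CommGroup (N ⧸ commutator N) := inferInstanceAs (CommGroup (Abelianization N))
      infer_instance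
    refine Subgroup.isNilpotent_of_ker_le_center (QuotientGroup.mk' (commutator N)) ?_
    intro u hu
    rw [QuotientGroup.ker_mk'] at hu
    exact mem_center_iff.2 fun v => (hcen u hu v).symm
  -- the Sylow two-subgroup
  obtain ⟨P⟩ : Nonempty (Sylow 2 N) := inferInstance
  have hPn : (P : Subgroup N).Normal := inferInstance
  set P₀ := (P : Subgroup N).map N.subtype with hP₀
  haveI : (P : Subgroup N).Characteristic := Sylow.characteristic_of_normal P hPn
  haveI hP₀n : P₀.Normal := by rw [hP₀]; infer_instance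
  have hφN := hφ.restrict N
  have hPnc : ¬ IsMulCommutative (P : Subgroup N) := by
    intro hP
    have hPc : IsCyclic (P : Subgroup N) := by
      rcases hφN.cyclic_or_quaternion P.isPGroup' with h | ⟨-, n, ⟨e⟩⟩
      · exact h
      · rcases Nat.eq_zero_or_pos n with rfl | hn
        · haveI : IsCyclic (QuaternionGroup (2 ^ 0)) := QuaternionGroup.quaternionGroup_one_isCyclic
          exact e.symm.isCyclic.1 inferInstance
        · exfalso
          haveI := hP
          have h := congrArg e (hP.is_comm.comm (e.symm (QuaternionGroup.a 1)) (e.symm (QuaternionGroup.xa 0)))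
          simp only [map_mul, MulEquiv.apply_symm_apply, QuaternionGroup.a_mul_xa, QuaternionGroup.xa_mul_a] at h
          simp only [QuaternionGroup.xa.injEq] at h
          have h2 : ((2 : ℕ) : ZMod (2 * 2 ^ n)) = 0 := by push_cast; linear_combination -h
          rw [ZMod.natCast_eq_zero_iff] at h2
          have := Nat.le_of_dvd (by norm_num) h2
          have : 2 ≤ 2 ^ n := Nat.le_self_pow (by omega) 2
          omega
    haveI : IsZGroup N := ⟨fun q hq Q => by
      haveI := Fact.mk hq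
      by_cases hq2 : q = 2
      · subst hq2; exact (Sylow.equiv P Q).isCyclic.1 hPc
      · exact hφN.cyclic_of_odd hq2 Q.isPGroup'⟩
    exact hNna IsCyclic.isMulCommutative
  have hP₀N : P₀ = N := by
    refine hNmin P₀ hP₀n (map_subtype_le _) fun h => hPnc ⟨⟨fun a b => ?_⟩⟩
    exact Subtype.ext (Subtype.ext (congrArg (fun u : P₀ => (u : G)) (h.is_comm.comm
      (⟨_, mem_map_of_mem N.subtype a.2⟩ : P₀) ⟨_, mem_map_of_mem N.subtype b.2⟩)))
  obtain hc | ⟨-, n, ⟨e⟩⟩ := hφN.cyclic_or_quaternion P.isPGroup'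
  · exact absurd IsCyclic.isMulCommutative hPnc
  let e' : N ≃* QuaternionGroup (2 ^ n) :=
    ((MulEquiv.subgroupCongr hP₀N.symm).trans
      ((P : Subgroup N).equivMapOfInjective N.subtype N.subtype_injective).symm).trans e
  have hn : n ≤ 1 := by
    refine quaternion_class_two fun a b c => ?_
    obtain ⟨a, rfl⟩ := e'.surjective a
    obtain ⟨b, rfl⟩ := e'.surjective b
    obtain ⟨c, rfl⟩ := e'.surjective c
    rw [← map_inv, ← map_inv, ← map_mul, ← map_mul, ← map_mul, ← map_mul, ← map_mul]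
    congr 1
    refine hcen _ ?_ c
    rw [← commutatorElement_def, _root_.commutator_def]
    exact commutator_mem_commutator (mem_top a) (mem_top b)
  have hn0 : n ≠ 0 := by
    rintro rfl
    haveI : IsCyclic (QuaternionGroup (2 ^ 0)) := QuaternionGroup.quaternionGroup_one_isCyclic
    haveI : IsCyclic N := e'.symm.isCyclic.1 inferInstance
    exact hNna IsCyclic.isMulCommutative
  obtain rfl : n = 1 := by omega
  exact ⟨e'⟩

theorem IsFpf.core_iso (hφ : IsFpf φ) {A : Subgroup G} (hAn : A.Normal) (hAc : IsMulCommutative A)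
    (hAmax : ∀ B : Subgroup G, B.Normal → IsMulCommutative B → A ≤ B → B = A) {N : Subgroup G}
    (hNn : N.Normal) (hNle : N ≤ centralizer (A : Set G)) (hNna : ¬ IsMulCommutative N)
    (hNmin : ∀ M : Subgroup G, M.Normal → M ≤ N → ¬ IsMulCommutative M → M = N) :
    Nonempty (N ≃* QuaternionGroup 2) ∨ Nonempty (N ≃* Matrix.SpecialLinearGroup (Fin 2) (ZMod 5)) := by
  classical
  by_cases hsol : Group.IsSolvable N
  · exact Or.inl (hφ.core_solvable hAn hAc hAmax hNn hNle hNna hNmin hsol)
  haveI := hNn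
  refine Or.inr ?_
  obtain ⟨x, y, hx, hx1, hy, hy1, hxy⟩ := (hφ.restrict N).exists_ten hsol
  obtain ⟨f, hf, -, -⟩ := (hφ.restrict N).exists_icosa hx hx1 hy hy1 hxy
  have hf' : Function.Injective (N.subtype.comp f) := N.subtype_injective.comp hf
  have e : (N.subtype.comp f).range = N := by
    refine hNmin _ (hφ.range_normal hf') ?_ fun h => axis_noncomm (hf' ?_)
    · rintro _ ⟨a, rfl⟩; exact (f a).2
    · rw [map_mul, map_mul]
      exact congrArg Subtype.val (h.is_comm.comm
        (⟨_, _, rfl⟩ : (N.subtype.comp f).range) ⟨_, _, rfl⟩)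
  exact ⟨((MonoidHom.ofInjective hf').trans (MulEquiv.subgroupCongr e)).symm⟩

section Linear

variable {p : ℕ} [Fact p.Prime] {V : Type*} [AddCommGroup V] [Module (ZMod p) V] [Finite V]
  {H : Subgroup (V ≃ₗ[ZMod p] V)}

theorem nontrivial_of_noncomm {H : Type*} [Group H] {N : Subgroup H} (h : ¬ IsMulCommutative N) :
    Nontrivial H := by
  by_contra hn
  haveI := not_nontrivial_iff_subsingleton.1 hn
  exact h ⟨⟨fun a b => Subsingleton.elim _ _⟩⟩

/-- **a regular group with such a core is two-dimensional** -/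
theorem finrank_eq_two (hreg : ∀ v w : V, v ≠ 0 → w ≠ 0 → ∃! h : H, (h : V ≃ₗ[ZMod p] V) v = w)
    {N : Subgroup H} [hNn : N.Normal] (hNna : ¬ IsMulCommutative N)
    (hN8 : Group.IsSolvable H → Nonempty (N ≃* QuaternionGroup 2)) :
    Module.finrank (ZMod p) V = 2 := by
  classical
  have hpp : p.Prime := Fact.out
  by_cases hs : Group.IsSolvable H
  swap
  · obtain ⟨m, hm, -⟩ := regular_nonsolvable hreg hs
    have hc := Module.natCard_eq_pow_finrank (K := ZMod p) (V := V)
    rw [Nat.card_zmod] at hc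
    have key : ∀ q : ℕ, q.Prime → Nat.card V = q ^ 2 → Module.finrank (ZMod p) V = 2 := by
      intro q hq e
      rw [hc] at e
      have hn0 : Module.finrank (ZMod p) V ≠ 0 := fun h => by
        rw [h, pow_zero] at e
        have := Nat.pow_lt_pow_left hq.one_lt two_ne_zero
        rw [one_pow] at this
        omega
      have hpq : p = q := (Nat.prime_dvd_prime_iff_eq hpp hq).1
        (hpp.dvd_of_dvd_pow (e ▸ dvd_pow_self p hn0))
      subst hpq
      exact Nat.pow_right_injective hpp.two_le e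
    rcases hm with ⟨h, -⟩ | ⟨h, -⟩ | ⟨h, -⟩
    · exact key 11 (by norm_num) (by rw [h]; norm_num)
    · exact key 29 (by norm_num) (by rw [h]; norm_num)
    · exact key 59 (by norm_num) (by rw [h]; norm_num)
  obtain ⟨eN⟩ := hN8 hs
  haveI := finite_lin (p := p) (V := V)
  haveI : Nontrivial H := nontrivial_of_noncomm hNna
  obtain ⟨v, hv⟩ : ∃ v : V, v ≠ 0 := by
    by_contra h
    push_neg at h
    haveI : Subsingleton H :=
      ⟨fun a b => Subtype.ext (LinearEquiv.ext fun v => by rw [h v, map_zero, map_zero])⟩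
    exact false_of_nontrivial_of_subsingleton H
  haveI : Nontrivial V := ⟨⟨v, 0, hv⟩⟩
  set n := Module.finrank (ZMod p) V with hn
  have hH : Nat.card H = p ^ n - 1 := Cfsg.Lib.PermGroups.LinearRegular.card_eq hreg hv
  have hn0 : 0 < n := Module.finrank_pos
  by_contra hne
  have hn1 : n ≠ 1 := fun e => hNna ⟨⟨fun a b => Subtype.ext (comm_of_line hreg hv N
    (fun s _ => by
      obtain ⟨c, hc⟩ := exists_smul_eq_of_finrank_eq_one e hv ((s : V ≃ₗ[ZMod p] V) v)
      exact Submodule.mem_span_singleton.2 ⟨c, hc⟩) a a.2 b b.2)⟩⟩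
  have h8 : Nat.card N = 8 := by rw [Nat.card_congr eN.toEquiv, Nat.card_eq_fintype_card, QuaternionGroup.card]
  have hp3 : 3 ≤ p := by
    by_contra h
    have hp2 : p = 2 := by have := hpp.two_le; omega
    have h2 : 8 ∣ p ^ n - 1 := hH ▸ h8 ▸ card_subgroup_dvd_card N
    rw [hp2] at h2
    have h3 : 2 ∣ 2 ^ n := dvd_pow_self 2 hn0.ne'
    have h4 : 1 ≤ 2 ^ n := Nat.one_le_two_pow
    omega
  obtain ⟨r, hr, hrd, hrp⟩ := Cfsg.Lib.Zsigmondy.zsigmondy p n (by omega) (by omega)
    (fun h => by omega) (fun h => by omega)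
  haveI := Fact.mk hr
  obtain ⟨c, hc⟩ := exists_prime_orderOf_dvd_card' (G := H) r (hH ▸ hrd)
  have hrp' : r ≠ p := fun e => by
    rw [e] at hrd
    have h1 : p ∣ p ^ n := dvd_pow_self p hn0.ne'
    have h2 : 1 ≤ p ^ n := Nat.one_le_pow _ _ hpp.pos
    have h3 := Nat.dvd_sub h1 hrd
    rw [show p ^ n - (p ^ n - 1) = 1 by omega] at h3
    exact hpp.one_lt.ne' (Nat.dvd_one.1 h3)
  have hr0 : (p : ZMod r) ≠ 0 := fun e => hrp'
    ((Nat.prime_dvd_prime_iff_eq hr hpp).1 ((ZMod.natCast_eq_zero_iff _ _).1 e))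
  have hnr : n ≤ r - 1 := by
    by_contra h
    exact hrp (r - 1) (by have := hr.two_le; omega) (by omega)
      ((dvd_pow_pred_iff hpp.pos r _).2 (ZMod.pow_card_sub_one_eq_one hr0))
  have hr4 : 4 ≤ r := by omega
  -- an element of large prime order centralises the quaternion group
  have hσ : (MulAut.conjNormal c : MulAut N) = 1 := by
    by_contra hne'
    have ho : orderOf (MulAut.conjNormal c : MulAut N) ∣ r := hc ▸ orderOf_map_dvd _ c
    have hodd : Odd r := hr.odd_of_ne_two (by omega)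
    obtain ⟨-, h3⟩ := Cfsg.Lib.RankOne.odd_auto_quaternion (IsPGroup.of_card (n := 3) (by rw [h8]; norm_num))
      (Or.inr ⟨1, ⟨eN⟩⟩) (MulAut.conjNormal c : MulAut N) (hodd.of_dvd_nat ho) hne'
    refine hne' (orderOf_eq_one_iff.1 (Nat.eq_one_of_dvd_coprimes ?_ ho (orderOf_dvd_of_pow_eq_one h3)))
    exact (Nat.coprime_primes hr Nat.prime_three).2 (by omega)
  have hcN : ∀ s ∈ N, s * c = c * s := fun s hs => by
    have := congrArg Subtype.val (DFunLike.congr_fun hσ ⟨s, hs⟩)
    rw [MulAut.conjNormal_apply] at this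
    exact (mul_inv_eq_iff_eq_mul.1 this).symm
  -- the vector generates
  obtain ⟨W, hW0', hW, hmin⟩ := exists_minimal (H := H) (A := zpowers c)
  obtain ⟨-, hdvd⟩ := free_on_minimal hreg inferInstance hW0' hW hmin
  rw [Nat.card_zpowers, hc] at hdvd
  have hWtop : W = ⊤ := by
    refine Submodule.eq_top_of_finrank_eq (le_antisymm W.finrank_le ?_)
    by_contra hlt
    exact hrp _ (Submodule.one_le_finrank_iff.2 hW0') (not_le.1 hlt) hdvd
  subst hWtop
  set U := Submodule.span (ZMod p) (Set.range fun i : ℕ =>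
    (((c : V ≃ₗ[ZMod p] V).toLinearMap : Module.End (ZMod p) V) ^ i) v) with hU
  have hUtop : U = ⊤ := by
    refine (hmin U le_top ?_).resolve_left fun h => hv ?_
    · intro a ha u hu
      obtain ⟨i, rfl⟩ := (Submonoid.mem_powers_iff _ _).1 (mem_powers_iff_mem_zpowers.2 ha)
      rw [show ((c ^ i : H) : V ≃ₗ[ZMod p] V) u =
        (((c : V ≃ₗ[ZMod p] V).toLinearMap : Module.End (ZMod p) V) ^ i) u by
          rw [← coe_toEnd_pow]; rfl]
      induction hu using Submodule.span_induction with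
      | mem u hu =>
        obtain ⟨j, rfl⟩ := hu
        exact Submodule.subset_span ⟨i + j, by simp [pow_add]⟩
      | zero => rw [map_zero]; exact zero_mem U
      | add u w _ _ h1 h2 => rw [map_add]; exact add_mem h1 h2
      | smul a u _ h1 => rw [map_smul]; exact U.smul_mem a h1
    · have : v ∈ U := Submodule.subset_span ⟨0, by simp⟩
      rw [h, Submodule.mem_bot] at this
      exact this
  exact hNna ⟨⟨fun a b => Subtype.ext (eq_of_toEnd (comm_of_cyclic _ v hUtop
    (commute_toEnd (hcN a a.2)) (commute_toEnd (hcN b b.2))))⟩⟩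

theorem irreducible_of_noncomm (hreg : ∀ v w : V, v ≠ 0 → w ≠ 0 → ∃! h : H, (h : V ≃ₗ[ZMod p] V) v = w)
    (h2 : Module.finrank (ZMod p) V = 2) {N : Subgroup H} (hNna : ¬ IsMulCommutative N)
    (W : Submodule (ZMod p) V) (hW : ∀ n ∈ N, ∀ v ∈ W, ((n : H) : V ≃ₗ[ZMod p] V) v ∈ W) :
    W = ⊥ ∨ W = ⊤ := by
  by_contra hcon
  push_neg at hcon
  obtain ⟨v, hvW, hv⟩ := Submodule.exists_mem_ne_zero_of_ne_bot hcon.1
  have h1 := Submodule.finrank_lt hcon.2
  have hspan : Submodule.span (ZMod p) {v} = W := by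
    refine Submodule.eq_of_le_of_finrank_le ((Submodule.span_singleton_le_iff_mem _ _).2 hvW) ?_
    rw [finrank_span_singleton hv]
    omega
  exact hNna ⟨⟨fun a b => Subtype.ext (comm_of_line hreg hv N
    (fun s hs => hspan.symm ▸ hW s hs v hvW) a a.2 b b.2)⟩⟩

theorem centralizer_scalar (hreg : ∀ v w : V, v ≠ 0 → w ≠ 0 → ∃! h : H, (h : V ≃ₗ[ZMod p] V) v = w)
    (h2 : Module.finrank (ZMod p) V = 2) {N : Subgroup H} (hNna : ¬ IsMulCommutative N) {v : V} (hv : v ≠ 0)
    {c : H} (hc : c ∈ centralizer (N : Set H)) :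
    (c : V ≃ₗ[ZMod p] V) v ∈ Submodule.span (ZMod p) {v} := by
  by_contra hnot
  have hspan : Submodule.span (ZMod p) (Set.range fun i : ℕ =>
      (((c : V ≃ₗ[ZMod p] V).toLinearMap : Module.End (ZMod p) V) ^ i) v) = ⊤ := by
    refine Submodule.eq_top_of_finrank_eq (le_antisymm (Submodule.finrank_le _) ?_)
    have hli : LinearIndependent (ZMod p) ![v, (c : V ≃ₗ[ZMod p] V) v] := by
      rw [LinearIndependent.pair_iff' hv]
      exact fun a ha => hnot (Submodule.mem_span_singleton.2 ⟨a, ha⟩)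
    have h3 := finrank_span_eq_card hli
    rw [Fintype.card_fin] at h3
    rw [h2]
    refine h3.symm.le.trans (Submodule.finrank_mono (Submodule.span_mono ?_))
    rintro _ ⟨i, rfl⟩
    fin_cases i
    · exact ⟨0, by simp⟩
    · exact ⟨1, by simp⟩
  exact hNna ⟨⟨fun a b => Subtype.ext (eq_of_toEnd (comm_of_cyclic _ v hspan
    (commute_toEnd (mem_centralizer_iff.1 hc a a.2)) (commute_toEnd (mem_centralizer_iff.1 hc b b.2))))⟩⟩

theorem zmod_three_units : ∀ b : ZMod 3, b ≠ 0 → b * b = 1 := by decide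

theorem quat_two_facts : ∀ g : QuaternionGroup 2, ∃ i j k : Fin 4, g =
    QuaternionGroup.a 1 ^ (i : ℕ) * QuaternionGroup.xa 0 ^ (j : ℕ) * QuaternionGroup.a 1 ^ (k : ℕ) := by
  decide

theorem quat_two_card : (Finset.univ.filter fun t : QuaternionGroup 2 × QuaternionGroup 2 =>
    t.1 ^ 2 ≠ 1 ∧ t.2 ^ 2 ≠ 1 ∧ t.1 ≠ t.2 ∧ t.1 * t.2 ≠ 1).card = 24 ∧
    (QuaternionGroup.a 1 : QuaternionGroup 2) ^ 2 ≠ 1 ∧ (QuaternionGroup.xa 0 : QuaternionGroup 2) ^ 2 ≠ 1 ∧
    (QuaternionGroup.a 1 : QuaternionGroup 2) ≠ QuaternionGroup.xa 0 ∧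
    (QuaternionGroup.a 1 : QuaternionGroup 2) * QuaternionGroup.xa 0 ≠ 1 := by
  decide

theorem card_aut_q8 {K : Type*} [Group K] [Finite K] (e : K ≃* QuaternionGroup 2) :
    Nat.card (MulAut K) ≤ 24 := by
  classical
  obtain ⟨hc, h1, h2, h3, h4⟩ := quat_two_card
  set S := Finset.univ.filter fun t : QuaternionGroup 2 × QuaternionGroup 2 =>
    t.1 ^ 2 ≠ 1 ∧ t.2 ^ 2 ≠ 1 ∧ t.1 ≠ t.2 ∧ t.1 * t.2 ≠ 1 with hS
  rw [Nat.card_congr (MulAut.congr e).toEquiv, ← hc, ← Fintype.card_coe, ← Nat.card_eq_fintype_card]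
  refine Nat.card_le_card_of_injective (fun α : MulAut (QuaternionGroup 2) =>
    (⟨(α (QuaternionGroup.a 1), α (QuaternionGroup.xa 0)), by
      rw [hS, Finset.mem_filter]
      refine ⟨Finset.mem_univ _, ?_, ?_, fun h => h3 (α.injective h), ?_⟩
      · rw [← map_pow, MulEquiv.map_ne_one_iff]; exact h1
      · rw [← map_pow, MulEquiv.map_ne_one_iff]; exact h2
      · rw [← map_mul, MulEquiv.map_ne_one_iff]; exact h4⟩ : S)) fun α β h => ?_
  have e1 : α (QuaternionGroup.a 1) = β (QuaternionGroup.a 1) := congrArg (fun t : S => (t.1).1) h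
  have e2 : α (QuaternionGroup.xa 0) = β (QuaternionGroup.xa 0) := congrArg (fun t : S => (t.1).2) h
  refine MulEquiv.ext fun g => ?_
  obtain ⟨i, j, k, rfl⟩ := quat_two_facts g
  simp only [map_mul, map_pow, e1, e2]

/-- **solvable exceptional regular linear groups** -/
theorem card_solvable (hreg : ∀ v w : V, v ≠ 0 → w ≠ 0 → ∃! h : H, (h : V ≃ₗ[ZMod p] V) v = w)
    (hI : ∀ A : Subgroup H, A.Normal → IsCyclic A → ∃ W : Submodule (ZMod p) V, W ≠ ⊥ ∧ W ≠ ⊤ ∧
      ∀ a ∈ A, ∀ v ∈ W, ((a : H) : V ≃ₗ[ZMod p] V) v ∈ W)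
    {N : Subgroup H} [hNn : N.Normal] (hNna : ¬ IsMulCommutative N) (eN : N ≃* QuaternionGroup 2) :
    Nat.card V = 25 ∨ Nat.card V = 49 ∨ Nat.card V = 121 ∨ Nat.card V = 529 := by
  classical
  have hpp : p.Prime := Fact.out
  haveI : Fact (Nat.Prime 2) := ⟨Nat.prime_two⟩
  haveI := finite_lin (p := p) (V := V)
  haveI : Nontrivial H := nontrivial_of_noncomm hNna
  have h2 := finrank_eq_two hreg hNna fun _ => ⟨eN⟩
  haveI : Nontrivial V := Module.finrank_pos_iff.1 (by rw [h2]; norm_num)
  obtain ⟨v, hv⟩ := exists_ne (0 : V)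
  have hH : Nat.card H = p ^ 2 - 1 := by
    rw [Cfsg.Lib.PermGroups.LinearRegular.card_eq hreg hv, h2]
  have h8 : Nat.card N = 8 := by rw [Nat.card_congr eN.toEquiv, Nat.card_eq_fintype_card, QuaternionGroup.card]
  set C := centralizer (N : Set H) with hC
  choose a ha using fun c : C => Submodule.mem_span_singleton.1 (centralizer_scalar hreg h2 hNna hv c.2)
  have hCdvd : Nat.card C ∣ p - 1 := by
    let χ : C →* ZMod p :=
      { toFun := a
        map_one' := smul_left_injective (ZMod p) hv (by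
          show a 1 • v = (1 : ZMod p) • v
          rw [ha, one_smul]; rfl)
        map_mul' := fun c d => smul_left_injective (ZMod p) hv (show a (c * d) • v = (a c * a d) • v from
          calc a (c * d) • v = ((c : H) : V ≃ₗ[ZMod p] V) (((d : H) : V ≃ₗ[ZMod p] V) v) := ha (c * d)
            _ = a d • ((c : H) : V ≃ₗ[ZMod p] V) v := by rw [← ha d, map_smul]
            _ = (a c * a d) • v := by rw [← ha c, ← mul_smul, mul_comm]) }
    have hχ : Function.Injective χ := fun c d e => by
      apply Subtype.ext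
      refine (hreg v _ hv (by simpa using hv)).unique ?_ rfl
      rw [← ha c, ← ha d]
      exact congrArg (· • v) e
    rw [Nat.card_congr (MonoidHom.ofInjective (f := χ.toHomUnits) fun c d e =>
      hχ (congrArg Units.val e)).toEquiv, ← ZMod.card_units p, ← Nat.card_eq_fintype_card]
    exact Subgroup.card_subgroup_dvd_card _
  set ψ := (MulAut.conjNormal : H →* MulAut N) with hψ
  have hker : ψ.ker = C := by
    ext g
    rw [MonoidHom.mem_ker, hC, mem_centralizer_iff]
    constructor
    · intro hg s hs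
      have := congrArg Subtype.val (DFunLike.congr_fun hg ⟨s, hs⟩)
      rw [MulAut.conjNormal_apply] at this
      exact (mul_inv_eq_iff_eq_mul.1 this).symm
    · intro hg
      refine MulEquiv.ext fun s => Subtype.ext ?_
      rw [MulAut.conjNormal_apply, ← hg _ s.2, mul_inv_cancel_right]
      rfl
  haveI : Finite (MulAut N) := Finite.of_injective (fun α : MulAut N => (α : N → N)) DFunLike.coe_injective
  set k := Nat.card ψ.range with hk
  have hk24 : k ≤ 24 := (Nat.card_le_card_of_injective _ Subtype.val_injective).trans (card_aut_q8 eN)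
  have hHk : Nat.card H = Nat.card C * k := by
    rw [hk, ← Subgroup.index_ker, hker, C.card_mul_index]
  have h4k : 4 ∣ k := by
    have hz : Nat.card (ψ.comp N.subtype).ker ∣ 2 := by
      have hle : (ψ.comp N.subtype).ker ≤ center N := fun s hs => mem_center_iff.2 fun t => by
        have := DFunLike.congr_fun (show ψ (s : H) = 1 from hs) t
        have h' := congrArg Subtype.val this
        rw [MulAut.conjNormal_apply] at h'
        exact Subtype.ext (mul_inv_eq_iff_eq_mul.1 h').symm
      refine (Subgroup.card_dvd_of_le hle).trans ?_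
      rw [Nat.card_congr (Subgroup.centerCongr eN).toEquiv, Nat.card_eq_fintype_card]
      decide
    have h1 := (ψ.comp N.subtype).ker.card_mul_index
    rw [h8, Subgroup.index_ker, MonoidHom.range_comp, range_subtype] at h1
    refine dvd_trans ?_ (Subgroup.card_dvd_of_le (map_le_range ψ N))
    rcases (Nat.dvd_prime Nat.prime_two).1 hz with e | e <;> rw [e] at h1
    · exact ⟨2, by omega⟩
    · exact ⟨1, by omega⟩
  have hp2 : p ≠ 2 := fun e => by
    have h := h8 ▸ card_subgroup_dvd_card N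
    rw [hH, e] at h
    norm_num at h
  have hp3 : p ≠ 3 := fun e => by
    subst e
    have hNtop : N = ⊤ := eq_top_of_card_eq N (by rw [h8, hH]; norm_num)
    set i := (eN.symm (QuaternionGroup.a 1) : H) with hi
    have hio : orderOf i = 4 := by
      rw [hi, Subgroup.orderOf_coe, MulEquiv.orderOf_eq, QuaternionGroup.orderOf_a_one]
    have hidx : (zpowers i).index = 2 := by
      have := (zpowers i).card_mul_index
      rw [Nat.card_zpowers, hio, hH] at this
      norm_num at this
      omega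
    obtain ⟨W, hW0, hW1, hW⟩ := hI (zpowers i) (Subgroup.normal_of_index_eq_two hidx) inferInstance
    obtain ⟨w, hwW, hw⟩ := Submodule.exists_mem_ne_zero_of_ne_bot hW0
    have h1 := Submodule.finrank_lt hW1
    have hspan : Submodule.span (ZMod 3) {w} = W := by
      refine Submodule.eq_of_le_of_finrank_le ((Submodule.span_singleton_le_iff_mem _ _).2 hwW) ?_
      rw [finrank_span_singleton hw]
      omega
    obtain ⟨b, hb⟩ := Submodule.mem_span_singleton.1 (hspan.symm ▸ hW i (mem_zpowers i) w hwW)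
    have hb0 : b ≠ 0 := fun h0 => by
      rw [h0, zero_smul] at hb
      exact hw ((i : V ≃ₗ[ZMod 3] V).map_eq_zero_iff.1 hb.symm)
    have hfix : ((i * i : H) : V ≃ₗ[ZMod 3] V) w = w := by
      show (i : V ≃ₗ[ZMod 3] V) ((i : V ≃ₗ[ZMod 3] V) w) = w
      rw [← hb, map_smul, ← hb, ← mul_smul]
      rw [show b * b = 1 from zmod_three_units b hb0, one_smul]
    have := eq_one_of_fixed H hreg hw hfix
    have h2' : orderOf i ∣ 2 := orderOf_dvd_of_pow_eq_one (by rw [pow_two]; exact this)
    rw [hio] at h2'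
    norm_num at h2'
  have h19 : p ≠ 19 := fun e => by
    haveI : Fact (Nat.Prime 5) := ⟨by norm_num⟩
    obtain ⟨c, hc⟩ := exists_prime_orderOf_dvd_card' (G := H) 5 (by rw [hH, e]; norm_num)
    have hc1 : c ∈ C := by
      rw [← hker, MonoidHom.mem_ker]
      by_contra hne'
      have ho : orderOf (ψ c) ∣ 5 := hc ▸ orderOf_map_dvd _ c
      obtain ⟨-, h3⟩ := Cfsg.Lib.RankOne.odd_auto_quaternion (IsPGroup.of_card (n := 3) (by rw [h8]; norm_num))
        (Or.inr ⟨1, ⟨eN⟩⟩) (ψ c) ((by decide : Odd 5).of_dvd_nat ho) hne'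
      exact hne' (orderOf_eq_one_iff.1 (Nat.eq_one_of_dvd_coprimes (by norm_num) ho (orderOf_dvd_of_pow_eq_one h3)))
    have h5 : 5 ∣ p - 1 := (hc ▸ Subgroup.orderOf_dvd_natCard C hc1).trans hCdvd
    rw [e] at h5
    norm_num at h5
  obtain ⟨d, hd⟩ := hCdvd
  have hV : Nat.card V = p ^ 2 := by
    rw [Module.natCard_eq_pow_finrank (K := ZMod p), Nat.card_zmod, h2]
  obtain ⟨q, rfl⟩ : ∃ q, p = q + 1 := ⟨p - 1, by have := hpp.two_le; omega⟩
  rw [Nat.add_sub_cancel] at hd
  have hCpos : 0 < Nat.card C := Nat.card_pos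
  have hkd : k = d * (q + 2) := by
    refine Nat.eq_of_mul_eq_mul_left hCpos ?_
    calc Nat.card C * k = (q + 1) ^ 2 - 1 := by rw [← hHk, hH]
      _ = q * (q + 2) := by rw [show (q + 1) ^ 2 = q * (q + 2) + 1 by ring, Nat.add_sub_cancel]
      _ = Nat.card C * d * (q + 2) := congrArg (· * (q + 2)) hd
      _ = _ := by ring
  have hd0 : 0 < d := Nat.pos_of_ne_zero fun h => by
    have := hpp.two_le
    rw [h, mul_zero] at hd
    omega
  have hq : q ≤ 22 := by
    have : q + 2 ≤ d * (q + 2) := Nat.le_mul_of_pos_left _ hd0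
    omega
  rw [hV]
  rw [hkd] at h4k hk24
  have hl : ∀ q ≤ 22, Nat.Prime (q + 1) →
      q = 1 ∨ q = 2 ∨ q = 4 ∨ q = 6 ∨ q = 10 ∨ q = 12 ∨ q = 16 ∨ q = 18 ∨ q = 22 := by
    intro q hq
    interval_cases q <;> norm_num
  rcases hl q hq hpp with e | e | e | e | e | e | e | e | e <;> subst e <;>
    first
      | exact absurd rfl hp2
      | exact absurd rfl hp3
      | exact absurd rfl h19
      | (norm_num; done)
      | (exfalso; omega)

end Linear

end Cfsg.Lib.SolvStruct.Zassenhaus
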