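import Mathlib

/-!
Zassenhaus' theorem on non-solvable Frobenius complements, algebraic part.

An element `x` of order three of a fixed-point-free linear group gives `u = 2x + 1` with `u² = -3`.
An icosahedral subgroup gives ten such elements `u i j` indexed by the edges of the complete graph
on five points (`Frame`).  No further `r` with `r² = -3` has a rational anticommutator with one of
them and icosahedral or rational anticommutators with the others.
-/

set_option autoImplicit false
set_option linter.unusedSectionVars false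

namespace Cfsg.Lib.SolvStruct.Zassenhaus

variable {R : Type*} [Ring R] [Algebra ℚ R]

/-- anticommutator -/
def ac (x y : R) : R := x * y + y * x

theorem ac_comm (x y : R) : ac x y = ac y x := by rw [ac, ac, add_comm]

theorem ac_add_left (x y z : R) : ac (x + y) z = ac x z + ac y z := by
  simp only [ac, add_mul, mul_add]; abel

theorem ac_add_right (x y z : R) : ac x (y + z) = ac x y + ac x z := by
  simp only [ac, add_mul, mul_add]; abel

theorem ac_sub_left (x y z : R) : ac (x - y) z = ac x z - ac y z := by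
  simp only [ac, sub_mul, mul_sub]; abel

theorem ac_sub_right (x y z : R) : ac x (y - z) = ac x y - ac x z := by
  simp only [ac, sub_mul, mul_sub]; abel

theorem ac_neg_left (x y : R) : ac (-x) y = -ac x y := by
  simp only [ac, neg_mul, mul_neg]; abel

theorem ac_neg_right (x y : R) : ac x (-y) = -ac x y := by
  simp only [ac, neg_mul, mul_neg]; abel

theorem ac_zero_left (x : R) : ac 0 x = 0 := by simp [ac]

theorem ac_zero_right (x : R) : ac x 0 = 0 := by simp [ac]

theorem ac_smul_left (a : ℚ) (x y : R) : ac (a • x) y = a • ac x y := by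
  simp only [ac, smul_mul_assoc, mul_smul_comm, smul_add]

theorem ac_smul_right (a : ℚ) (x y : R) : ac x (a • y) = a • ac x y := by
  simp only [ac, smul_mul_assoc, mul_smul_comm, smul_add]

theorem ac_sum_right {ι : Type*} (s : Finset ι) (x : R) (f : ι → R) :
    ac x (∑ i ∈ s, f i) = ∑ i ∈ s, ac x (f i) := by
  simp only [ac, Finset.mul_sum, Finset.sum_mul, Finset.sum_add_distrib]

theorem ac_mul_right {x c : R} (y : R) (h : Commute c x) : ac x (c * y) = c * ac x y := by
  simp only [ac, mul_add, ← mul_assoc, h.eq]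

theorem ac_mul_left {y c : R} (x : R) (h : Commute c y) : ac (c * x) y = c * ac x y := by
  rw [ac_comm, ac_mul_right x h, ac_comm]

theorem commute_ac_self {x : R} (y : R) {a : ℚ} (hx : x * x = a • (1 : R)) : Commute (ac x y) x := by
  show (x * y + y * x) * x = x * (x * y + y * x)
  rw [add_mul, mul_add, mul_assoc y x x, ← mul_assoc x x y, hx, mul_assoc]
  simp only [smul_mul_assoc, mul_smul_comm, mul_one, one_mul]
  abel

theorem commute_ac {z x y : R} (hx : Commute z x) (hy : Commute z y) : Commute z (ac x y) :=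
  (hx.mul_right hy).add_right (hy.mul_right hx)

theorem commute_qone (z : R) (a : ℚ) : Commute z (a • (1 : R)) :=
  (Commute.one_right z).smul_right a

theorem qone_inj [Nontrivial R] {a b : ℚ} (h : a • (1 : R) = b • (1 : R)) : a = b := by
  rw [← Algebra.algebraMap_eq_smul_one, ← Algebra.algebraMap_eq_smul_one] at h
  exact (algebraMap ℚ R).injective h

/-- An element anticommuting with `x`, `y`, `t` vanishes if their triple product is a non-zero
rational. -/
theorem eq_zero_of_ac {Y x y t : R} {q : ℚ} (hq : q ≠ 0) (hx : ac Y x = 0) (hy : ac Y y = 0)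
    (ht : ac Y t = 0) (htri : ac t (x * y - y * x) = q • (1 : R)) : Y = 0 := by
  have hx' : Y * x = -(x * Y) := eq_neg_of_add_eq_zero_left hx
  have hy' : Y * y = -(y * Y) := eq_neg_of_add_eq_zero_left hy
  have ht' : Y * t = -(t * Y) := eq_neg_of_add_eq_zero_left ht
  set P := x * y - y * x with hP
  have hYP : Y * P = P * Y := by
    simp only [hP, mul_sub, sub_mul, ← mul_assoc, hx', hy', neg_mul]
    simp only [mul_assoc, hx', hy', mul_neg, neg_neg]
  have h1 : Y * ac t P = -(ac t P * Y) := by
    simp only [ac, mul_add, add_mul, ← mul_assoc, ht', neg_mul, hYP]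
    simp only [mul_assoc, hYP, ht', mul_neg]
    abel
  rw [htri] at h1
  simp only [mul_smul_comm, smul_mul_assoc, mul_one, one_mul] at h1
  have h2 : (2 * q) • Y = 0 := by linear_combination (norm := module) h1
  exact (smul_eq_zero.1 h2).resolve_left (by simpa using hq)

/-- Four elements with square `-3` placed as the vertices of a regular tetrahedron. -/
structure Tetra (v : Fin 4 → R) : Prop where
  sq : ∀ i, v i * v i = (-3 : ℚ) • (1 : R)
  pair : ∀ i j, i ≠ j → ac (v i) (v j) = (2 : ℚ) • (1 : R)
  sum : v 0 + v 1 + v 2 + v 3 = 0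
  triple : ∃ q : ℚ, q ≠ 0 ∧ ac (v 2) (v 0 * v 1 - v 1 * v 0) = q • (1 : R)

namespace Tetra

variable {v : Fin 4 → R}

theorem ac_self (hv : Tetra v) (i : Fin 4) : ac (v i) (v i) = (-6 : ℚ) • (1 : R) := by
  rw [ac, hv.sq, ← add_smul]; norm_num

theorem eq_zero (hv : Tetra v) {Y : R} (h0 : ac Y (v 0) = 0) (h1 : ac Y (v 1) = 0)
    (h2 : ac Y (v 2) = 0) : Y = 0 := by
  obtain ⟨q, hq, h⟩ := hv.triple
  exact eq_zero_of_ac hq h0 h1 h2 h

/-- whatever commutes with two vertices commutes with all four -/
theorem commute_all (hv : Tetra v) {X : R} (h0 : Commute X (v 0)) (h1 : Commute X (v 1)) :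
    ∀ i, Commute X (v i) := by
  obtain ⟨q, hq, htri⟩ := hv.triple
  set P := v 0 * v 1 - v 1 * v 0 with hP
  have hac0 : ac (v 0) P = 0 := by
    simp only [ac, hP, mul_sub, sub_mul, ← mul_assoc, hv.sq]
    simp only [mul_assoc, hv.sq, smul_mul_assoc, mul_smul_comm, one_mul, mul_one]
    abel
  have hac1 : ac (v 1) P = 0 := by
    simp only [ac, hP, mul_sub, sub_mul, ← mul_assoc, hv.sq]
    simp only [mul_assoc, hv.sq, smul_mul_assoc, mul_smul_comm, one_mul, mul_one]
    abel
  have hPP : ac P P = (-64 : ℚ) • (1 : R) := by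
    have hc := congrArg (fun z => z * z) (hv.pair 0 1 (by decide))
    simp only [ac, add_mul, mul_add, ← mul_assoc, smul_mul_assoc, mul_smul_comm, one_mul] at hc
    simp only [ac, hP, mul_sub, sub_mul, ← mul_assoc]
    have e1 : v 0 * v 1 * v 1 * v 0 = (9 : ℚ) • (1 : R) := by
      rw [mul_assoc (v 0), hv.sq 1, mul_smul_comm, mul_one, smul_mul_assoc, hv.sq 0, smul_smul]
      norm_num
    have e2 : v 1 * v 0 * v 0 * v 1 = (9 : ℚ) • (1 : R) := by
      rw [mul_assoc (v 1), hv.sq 0, mul_smul_comm, mul_one, smul_mul_assoc, hv.sq 1, smul_smul]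
      norm_num
    linear_combination (norm := module) (2 : ℚ) • hc - (4 : ℚ) • e1 - (4 : ℚ) • e2
  -- the third vertex in terms of the first two
  set t := v 2 + (1 / 2 : ℚ) • v 0 + (1 / 2 : ℚ) • v 1 + (q / 64) • P with ht
  have ht0 : t = 0 := by
    refine eq_zero_of_ac (show (-64 : ℚ) ≠ 0 by norm_num) ?_ ?_ ?_ hPP
    · rw [ht]
      simp only [ac_add_left, ac_smul_left, hv.ac_self, hv.pair 2 0 (by decide),
        hv.pair 1 0 (by decide), ac_comm P (v 0), hac0]
      module
    · rw [ht]
      simp only [ac_add_left, ac_smul_left, hv.ac_self, hv.pair 2 1 (by decide),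
        hv.pair 0 1 (by decide), ac_comm P (v 1), hac1]
      module
    · rw [ht]
      simp only [ac_add_left, ac_smul_left, htri, hac0, hac1, hPP]
      module
  have hXP : Commute X P := (h0.mul_right h1).sub_right (h1.mul_right h0)
  have h2 : Commute X (v 2) := by
    have h : v 2 = -((1 / 2 : ℚ) • v 0 + (1 / 2 : ℚ) • v 1 + (q / 64) • P) := by
      rw [ht] at ht0
      linear_combination (norm := module) ht0
    rw [h]
    exact (((h0.smul_right _).add_right (h1.smul_right _)).add_right (hXP.smul_right _)).neg_right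
  intro i
  fin_cases i
  · exact h0
  · exact h1
  · exact h2
  · have h : v 3 = -(v 0 + v 1 + v 2) := eq_neg_of_add_eq_zero_right hv.sum
    show Commute X (v 3)
    rw [h]
    exact ((h0.add_right h1).add_right h2).neg_right

/-- an element is determined by its anticommutators with the vertices -/
theorem expansion (hv : Tetra v) (r : R) (hc : ∀ i j, Commute (ac r (v i)) (v j)) :
    (8 : ℚ) • r = -(ac r (v 0) * v 0 + ac r (v 1) * v 1 + ac r (v 2) * v 2 + ac r (v 3) * v 3) := by
  set Y := (8 : ℚ) • r +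
    (ac r (v 0) * v 0 + ac r (v 1) * v 1 + ac r (v 2) * v 2 + ac r (v 3) * v 3) with hY
  have hsum : ac r (v 0) + ac r (v 1) + ac r (v 2) + ac r (v 3) = 0 := by
    rw [← ac_add_right, ← ac_add_right, ← ac_add_right, hv.sum, ac_zero_right]
  have hk : ∀ k, ac Y (v k) = (8 : ℚ) • ac r (v k) + (ac r (v 0) * ac (v 0) (v k) +
      ac r (v 1) * ac (v 1) (v k) + ac r (v 2) * ac (v 2) (v k) + ac r (v 3) * ac (v 3) (v k)) := by
    intro k
    simp only [hY, ac_add_left, ac_smul_left, ac_mul_left _ (hc _ k)]
  have hY0 : Y = 0 := by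
    refine hv.eq_zero ?_ ?_ ?_ <;>
    · rw [hk]
      simp only [hv.ac_self, hv.pair _ _ (by decide : (0 : Fin 4) ≠ 1),
        hv.pair _ _ (by decide : (0 : Fin 4) ≠ 2), hv.pair _ _ (by decide : (1 : Fin 4) ≠ 0),
        hv.pair _ _ (by decide : (1 : Fin 4) ≠ 2), hv.pair _ _ (by decide : (2 : Fin 4) ≠ 0),
        hv.pair _ _ (by decide : (2 : Fin 4) ≠ 1), hv.pair _ _ (by decide : (3 : Fin 4) ≠ 0),
        hv.pair _ _ (by decide : (3 : Fin 4) ≠ 1), hv.pair _ _ (by decide : (3 : Fin 4) ≠ 2),
        mul_smul_comm, mul_one]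
      linear_combination (norm := module) (2 : ℚ) • hsum
  rw [hY] at hY0
  linear_combination (norm := module) hY0

/-- no further vertex meets all four at tetrahedral angles -/
theorem not_all_scalar [Nontrivial R] (hv : Tetra v) {r : R} (hr : r * r = (-3 : ℚ) • (1 : R))
    (f : Fin 4 → ℚ) (hf : ∀ i, f i = 2 ∨ f i = -2) (he : ∀ i, ac r (v i) = f i • (1 : R)) :
    False := by
  have h := congrArg (ac r) (hv.expansion r fun i j => by rw [he]; exact (commute_qone _ _).symm)
  simp only [he, smul_mul_assoc, one_mul, ac_smul_right, ac_neg_right, ac_add_right, smul_smul] at h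
  have hrr : ac r r = (-6 : ℚ) • (1 : R) := by rw [ac, hr, ← add_smul]; norm_num
  have h2 : ∀ i, f i * f i = 4 := fun i => by rcases hf i with e | e <;> rw [e] <;> norm_num
  rw [hrr, h2, h2, h2, h2, smul_smul, ← add_smul, ← add_smul, ← add_smul, ← neg_smul] at h
  have := qone_inj h
  norm_num at this

end Tetra

/-- The configuration of the ten axes of order three of a binary icosahedral group. -/
structure Frame (u : Fin 5 → Fin 5 → R) (L : R) : Prop where
  skew : ∀ i j, u j i = -u i j
  diag : ∀ i, u i i = 0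
  sq : ∀ i j, i ≠ j → u i j * u i j = (-3 : ℚ) • (1 : R)
  row : ∀ i, ∑ j, u i j = 0
  adj : ∀ i j k, i ≠ j → i ≠ k → j ≠ k → ac (u i j) (u i k) = (2 : ℚ) • (1 : R)
  opp : ∀ π : Equiv.Perm (Fin 5),
    ac (u (π 0) (π 1)) (u (π 2) (π 3)) = ((Equiv.Perm.sign π : ℤ) : ℚ) • L
  sqL : L * L = (20 : ℚ) • (1 : R)
  commL : ∀ i j, Commute L (u i j)
  triple : ∀ i j k l, i ≠ j → i ≠ k → i ≠ l → j ≠ k → j ≠ l → k ≠ l →
    ∃ q : ℚ, q ≠ 0 ∧ ac (u i l) (u i j * u i k - u i k * u i j) = q • (1 : R)

namespace Frame

variable {u : Fin 5 → Fin 5 → R} {L : R}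

theorem relabel (hu : Frame u L) (σ : Equiv.Perm (Fin 5)) :
    Frame (fun i j => u (σ i) (σ j)) (((Equiv.Perm.sign σ : ℤ) : ℚ) • L) where
  skew i j := hu.skew _ _
  diag i := hu.diag _
  sq i j h := hu.sq _ _ (σ.injective.ne h)
  row i := by rw [Equiv.sum_comp σ (fun j => u (σ i) j), hu.row]
  adj i j k h1 h2 h3 := hu.adj _ _ _ (σ.injective.ne h1) (σ.injective.ne h2) (σ.injective.ne h3)
  opp π := by
    have h := hu.opp (σ * π)
    simp only [Equiv.Perm.mul_apply, map_mul, Units.val_mul, Int.cast_mul] at h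
    rw [h, smul_smul, mul_comm]
  sqL := by
    rw [smul_mul_assoc, mul_smul_comm, smul_smul, hu.sqL, smul_smul]
    congr 1
    rcases Int.units_eq_one_or (Equiv.Perm.sign σ) with e | e <;> rw [e] <;> norm_num
  commL i j := (hu.commL _ _).smul_left _
  triple i j k l h1 h2 h3 h4 h5 h6 := hu.triple _ _ _ _ (σ.injective.ne h1) (σ.injective.ne h2)
    (σ.injective.ne h3) (σ.injective.ne h4) (σ.injective.ne h5) (σ.injective.ne h6)

theorem row_four (hu : Frame u L) {i j k l m : Fin 5} (h : [i, j, k, l, m].Nodup) :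
    u i j + u i k + u i l + u i m = 0 := by
  have huniv : ({i, j, k, l, m} : Finset (Fin 5)) = Finset.univ := by
    refine Finset.eq_univ_of_card _ ?_
    rw [show ({i, j, k, l, m} : Finset (Fin 5)) = [i, j, k, l, m].toFinset by simp,
      List.toFinset_card_of_nodup h]
    rfl
  simp only [List.nodup_cons, List.mem_cons, List.not_mem_nil, or_false, not_or, List.nodup_nil] at h
  have hr := hu.row i
  rw [← huniv, Finset.sum_insert (by simp [h]), Finset.sum_insert (by simp [h]),
    Finset.sum_insert (by simp [h]), Finset.sum_insert (by simp [h]), Finset.sum_singleton,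
    hu.diag] at hr
  rw [← hr]
  abel

theorem tetra (hu : Frame u L) {i j k l m : Fin 5} (h : [i, j, k, l, m].Nodup) :
    Tetra (fun n => u i (![j, k, l, m] n)) := by
  have hh := h
  simp only [List.nodup_cons, List.mem_cons, List.not_mem_nil, or_false, not_or, List.nodup_nil] at hh
  refine ⟨fun n => hu.sq _ _ ?_, fun a b hab => hu.adj _ _ _ ?_ ?_ ?_, hu.row_four h, ?_⟩
  · fin_cases n <;> simp [hh]
  · fin_cases a <;> simp [hh]
  · fin_cases b <;> simp [hh]
  · fin_cases a <;> fin_cases b <;>
      first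
        | exact absurd rfl hab
        | simp [hh, ne_comm (a := k) (b := j), ne_comm (a := l) (b := j), ne_comm (a := m) (b := j),
            ne_comm (a := l) (b := k), ne_comm (a := m) (b := k), ne_comm (a := m) (b := l)]
  · exact hu.triple i j k l (by simp [hh]) (by simp [hh]) (by simp [hh]) (by simp [hh])
      (by simp [hh]) (by simp [hh])

theorem opp' (hu : Frame u L) (π : Equiv.Perm (Fin 5)) {a b c d : Fin 5} {s : ℚ} (ha : π 0 = a)
    (hb : π 1 = b) (hc : π 2 = c) (hd : π 3 = d) (hs : ((Equiv.Perm.sign π : ℤ) : ℚ) = s) :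
    ac (u a b) (u c d) = s • L := by
  rw [← ha, ← hb, ← hc, ← hd, hu.opp, hs]

end Frame

end Cfsg.Lib.SolvStruct.Zassenhaus
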