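import Cfsg.Agent.SolvStruct.Zassenhaus.Six

/-!
The automorphism group of a solvable fixed-point-free group is solvable.
-/

set_option autoImplicit false
set_option linter.unusedSectionVars false
set_option linter.style.haveILetI false

namespace Cfsg.Lib.SolvStruct.Zassenhaus

open Subgroup

/-- an invariant normal subgroup with solvable automorphism groups on it and on the quotient -/
theorem solvable_aut_of_invariant {K : Type*} [Group K] (N : Subgroup K) [N.Normal]
    (hinv : ∀ α : MulAut K, N.map α.toMonoidHom = N) (h1 : Group.IsSolvable (MulAut N))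
    (h2 : Group.IsSolvable (MulAut (K ⧸ N))) : Group.IsSolvable (MulAut K) := by
  haveI := h1
  haveI := h2
  have hmem : ∀ (α : MulAut K) (n : K), n ∈ N → α n ∈ N := fun α n hn =>
    (hinv α).le (mem_map_of_mem _ hn)
  let r : MulAut K →* MulAut N :=
    { toFun := fun α =>
        { toFun := fun n => ⟨α n, hmem α n n.2⟩
          invFun := fun n => ⟨α⁻¹ n, hmem α⁻¹ n n.2⟩
          left_inv := fun n => Subtype.ext (α.symm_apply_apply n)
          right_inv := fun n => Subtype.ext (α.apply_symm_apply n)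
          map_mul' := fun a b => Subtype.ext (map_mul α _ _) }
      map_one' := rfl
      map_mul' := fun a b => rfl }
  let q : MulAut K →* MulAut (K ⧸ N) :=
    { toFun := fun α => QuotientGroup.congr N N α (hinv α)
      map_one' := by
        ext x
        induction x using QuotientGroup.induction_on with
        | _ x => rfl
      map_mul' := fun a b => by
        ext x
        induction x using QuotientGroup.induction_on with
        | _ x => rfl }
  set g := r.prod q with hg
  haveI : Group.IsSolvable g.ker := by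
    refine Group.isSolvable_of_comm fun a b => Subtype.ext (MulEquiv.ext fun x => ?_)
    have hfix : ∀ (c : g.ker) (n : K), n ∈ N → (c : MulAut K) n = n := fun c n hn => by
      have h := congrArg Prod.fst (MonoidHom.mem_ker.1 c.2)
      exact congrArg Subtype.val (DFunLike.congr_fun h ⟨n, hn⟩)
    have hd : ∀ (c : g.ker) (y : K), y⁻¹ * (c : MulAut K) y ∈ N := fun c y => by
      have h := congrArg Prod.snd (MonoidHom.mem_ker.1 c.2)
      have h' : ((c : MulAut K) y : K ⧸ N) = (y : K ⧸ N) := DFunLike.congr_fun h (y : K ⧸ N)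
      exact QuotientGroup.eq.1 h'.symm
    have hcen : ∀ n ∈ N, (x⁻¹ * (b : MulAut K) x) * n = n * (x⁻¹ * (b : MulAut K) x) := by
      intro n hn
      have h := hfix b (x * n * x⁻¹) (Subgroup.Normal.conj_mem inferInstance n hn x)
      rw [map_mul, map_mul, map_inv, hfix b n hn] at h
      calc (x⁻¹ * (b : MulAut K) x) * n = x⁻¹ * ((b : MulAut K) x * n * ((b : MulAut K) x)⁻¹) * (b : MulAut K) x := by group
        _ = _ := by rw [h]; group
    show (a : MulAut K) ((b : MulAut K) x) = (b : MulAut K) ((a : MulAut K) x)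
    have e1 : (a : MulAut K) ((b : MulAut K) x) = (a : MulAut K) x * (x⁻¹ * (b : MulAut K) x) := by
      conv_lhs => rw [← mul_inv_cancel_left x ((b : MulAut K) x)]
      rw [map_mul, hfix a _ (hd b x)]
    have e2 : (b : MulAut K) ((a : MulAut K) x) = (b : MulAut K) x * (x⁻¹ * (a : MulAut K) x) := by
      conv_lhs => rw [← mul_inv_cancel_left x ((a : MulAut K) x)]
      rw [map_mul, hfix b _ (hd a x)]
    rw [e1, e2]
    calc (a : MulAut K) x * (x⁻¹ * (b : MulAut K) x)
        = x * ((x⁻¹ * (a : MulAut K) x) * (x⁻¹ * (b : MulAut K) x)) := by group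
      _ = x * ((x⁻¹ * (b : MulAut K) x) * (x⁻¹ * (a : MulAut K) x)) := by rw [hcen _ (hd a x)]
      _ = _ := by group
  exact Group.isSolvable_of_ker_le_range g.ker.subtype g (by rw [range_subtype])

theorem solvable_aut_cyclic {K : Type*} [Group K] [IsCyclic K] : Group.IsSolvable (MulAut K) := by
  refine Group.isSolvable_of_comm fun a b => (IsCyclic.mulAutMulEquiv K).injective ?_
  rw [map_mul, map_mul, mul_comm]

theorem solvable_aut_zgroup {K : Type*} [Group K] [Finite K] [IsZGroup K] :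
    Group.IsSolvable (MulAut K) := by
  haveI := IsZGroup.isCyclic_commutator K
  haveI : IsCyclic (K ⧸ commutator K) := IsZGroup.isCyclic_abelianization (G := K)
  exact solvable_aut_of_invariant (commutator K)
    (fun α => Subgroup.characteristic_iff_map_eq.1 inferInstance α) solvable_aut_cyclic solvable_aut_cyclic

theorem solvable_aut_of_gens {K : Type*} [Group K] [Finite K] (a b : K) (A B : Finset K)
    (hA : ∀ α : MulAut K, α a ∈ A) (hB : ∀ α : MulAut K, α b ∈ B) (hcard : A.card * B.card < 60)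
    (hgen : ∀ g : K, g ∈ closure ({a, b} : Set K)) : Group.IsSolvable (MulAut K) := by
  haveI : Finite (MulAut K) := Finite.of_injective (fun α : MulAut K => (α : K → K)) DFunLike.coe_injective
  refine Cfsg.Lib.Presentations.isSolvable_of_card_lt_sixty _ _ rfl (lt_of_le_of_lt ?_ hcard)
  have h := Nat.card_le_card_of_injective
    (fun α : MulAut K => ((⟨α a, hA α⟩, ⟨α b, hB α⟩) : A × B)) (fun α β e => ?_)
  · simpa using h
  refine MulEquiv.ext fun g => ?_
  have e1 : α a = β a := congrArg (fun t : A × B => (t.1 : K)) e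
  have e2 : α b = β b := congrArg (fun t : A × B => (t.2 : K)) e
  induction hgen g using Subgroup.closure_induction with
  | mem x hx => rcases hx with rfl | rfl <;> assumption
  | one => rw [map_one, map_one]
  | mul x y _ _ h1 h2 => rw [map_mul, map_mul, h1, h2]
  | inv x _ h1 => rw [map_inv, map_inv, h1]

theorem solvable_aut_d2 : Group.IsSolvable (MulAut (DihedralGroup 2)) := by
  refine solvable_aut_of_gens (DihedralGroup.r 1) (DihedralGroup.sr 0) Finset.univ Finset.univ
    (fun _ => Finset.mem_univ _) (fun _ => Finset.mem_univ _) (by decide) fun g => ?_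
  obtain ⟨i, j, rfl⟩ := (by decide : ∀ g : DihedralGroup 2, ∃ i j : Fin 2,
    g = DihedralGroup.r 1 ^ (i : ℕ) * DihedralGroup.sr 0 ^ (j : ℕ)) g
  have h1 : (DihedralGroup.r 1 : DihedralGroup 2) ∈
      closure ({DihedralGroup.r 1, DihedralGroup.sr 0} : Set (DihedralGroup 2)) :=
    Subgroup.subset_closure (Or.inl rfl)
  have h2 : (DihedralGroup.sr 0 : DihedralGroup 2) ∈
      closure ({DihedralGroup.r 1, DihedralGroup.sr 0} : Set (DihedralGroup 2)) :=
    Subgroup.subset_closure (Or.inr rfl)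
  exact mul_mem (pow_mem h1 _) (pow_mem h2 _)

theorem a4_mem : (Equiv.swap (0 : Fin 4) 1 * Equiv.swap 1 2) ∈ alternatingGroup (Fin 4) ∧
    (Equiv.swap (1 : Fin 4) 2 * Equiv.swap 2 3) ∈ alternatingGroup (Fin 4) := by
  simp only [Equiv.Perm.mem_alternatingGroup]
  decide +kernel

theorem a4_words : ∀ g : Equiv.Perm (Fin 4), Equiv.Perm.sign g = 1 → ∃ i j k : Fin 3,
    g = (Equiv.swap (0 : Fin 4) 1 * Equiv.swap 1 2) ^ (i : ℕ) * (Equiv.swap (1 : Fin 4) 2 * Equiv.swap 2 3) ^ (j : ℕ) *
      (Equiv.swap (0 : Fin 4) 1 * Equiv.swap 1 2) ^ (k : ℕ) := by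
  decide +kernel

theorem a4_orders : (Equiv.swap (0 : Fin 4) 1 * Equiv.swap 1 2) ^ 3 = 1 ∧
    (Equiv.swap (0 : Fin 4) 1 * Equiv.swap 1 2) ≠ 1 ∧
    (Equiv.swap (1 : Fin 4) 2 * Equiv.swap 2 3) ^ 3 = 1 ∧
    (Equiv.swap (1 : Fin 4) 2 * Equiv.swap 2 3) ≠ 1 ∧
    (Equiv.swap (1 : Fin 4) 2 * Equiv.swap 2 3) ≠ Equiv.swap (0 : Fin 4) 1 * Equiv.swap 1 2 := by
  decide +kernel

theorem a4_data : ∃ a b : alternatingGroup (Fin 4), a ^ 3 = 1 ∧ a ≠ 1 ∧ b ^ 3 = 1 ∧ b ≠ 1 ∧ b ≠ a ∧
    ∀ g : alternatingGroup (Fin 4), ∃ i j k : Fin 3,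
      g = a ^ (i : ℕ) * b ^ (j : ℕ) * a ^ (k : ℕ) := by
  obtain ⟨h1, h2, h3, h4, h5⟩ := a4_orders
  refine ⟨⟨_, a4_mem.1⟩, ⟨_, a4_mem.2⟩, Subtype.ext h1, fun e => h2 (congrArg Subtype.val e),
    Subtype.ext h3, fun e => h4 (congrArg Subtype.val e), fun e => h5 (congrArg Subtype.val e), fun g => ?_⟩
  obtain ⟨i, j, k, h⟩ := a4_words g (Equiv.Perm.mem_alternatingGroup.1 g.2)
  exact ⟨i, j, k, Subtype.ext h⟩

theorem a4_card : (Finset.univ.filter fun g : alternatingGroup (Fin 4) => g ^ 3 = 1 ∧ g ≠ 1).card = 8 := by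
  decide +kernel

theorem solvable_aut_a4 : Group.IsSolvable (MulAut (alternatingGroup (Fin 4))) := by
  classical
  obtain ⟨a, b, ha, ha1, hb, hb1, hne, hgen⟩ := a4_data
  haveI : Finite (MulAut (alternatingGroup (Fin 4))) :=
    Finite.of_injective (fun α : MulAut (alternatingGroup (Fin 4)) => (α : _ → _)) DFunLike.coe_injective
  set S := Finset.univ.filter fun g : alternatingGroup (Fin 4) => g ^ 3 = 1 ∧ g ≠ 1 with hS
  have hmem : ∀ (α : MulAut (alternatingGroup (Fin 4))) (g : alternatingGroup (Fin 4)), g ^ 3 = 1 → g ≠ 1 →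
      α g ∈ S := fun α g h h' => by
    rw [hS, Finset.mem_filter]
    exact ⟨Finset.mem_univ _, by rw [← map_pow, h, map_one], by simpa using h'⟩
  let T := {t : S × S // t.1 ≠ t.2}
  refine Cfsg.Lib.Presentations.isSolvable_of_card_lt_sixty _ _ rfl (lt_of_le_of_lt
    (Nat.card_le_card_of_injective (fun α : MulAut (alternatingGroup (Fin 4)) =>
      (⟨(⟨α a, hmem α a ha ha1⟩, ⟨α b, hmem α b hb hb1⟩), fun e =>
        hne (α.injective (congrArg Subtype.val e)).symm⟩ : T)) fun α β e => ?_) ?_)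
  · have e1 : α a = β a := congrArg (fun t : T => ((t.1.1 : S) : alternatingGroup (Fin 4))) e
    have e2 : α b = β b := congrArg (fun t : T => ((t.1.2 : S) : alternatingGroup (Fin 4))) e
    refine MulEquiv.ext fun g => ?_
    obtain ⟨i, j, k, rfl⟩ := hgen g
    simp only [map_mul, map_pow, e1, e2]
  · have hc : Fintype.card T = 56 := by
      have hdiag : Fintype.card {t : S × S // t.1 = t.2} = Fintype.card S :=
        Fintype.card_congr ⟨fun t => t.1.1, fun s => ⟨(s, s), rfl⟩,
          fun t => Subtype.ext (Prod.ext rfl t.2), fun s => rfl⟩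
      rw [Fintype.card_subtype_compl, hdiag, Fintype.card_prod, Fintype.card_coe, hS, a4_card]
    rw [Nat.card_eq_fintype_card, hc]
    norm_num

theorem s4_facts : ∀ g : Equiv.Perm (Fin 4),
    (∃ i k m : Fin 2, ∃ j l : Fin 4, g = Equiv.swap 0 1 ^ (i : ℕ) * finRotate 4 ^ (j : ℕ) *
      Equiv.swap 0 1 ^ (k : ℕ) * finRotate 4 ^ (l : ℕ) * Equiv.swap 0 1 ^ (m : ℕ)) := by decide +kernel

theorem s4_card_rot : (Finset.univ.filter fun g : Equiv.Perm (Fin 4) => g ^ 4 = 1 ∧ g ^ 2 ≠ 1).card = 6 := by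
  decide +kernel

theorem s4_card_swap : (Finset.univ.filter fun g : Equiv.Perm (Fin 4) =>
    g ^ 2 = 1 ∧ ∀ h : Equiv.Perm (Fin 4), h ^ 2 ≠ g).card ≤ 9 := by
  decide +kernel

theorem s4_gens : (Equiv.swap (0 : Fin 4) 1) ^ 2 = 1 ∧ (∀ h : Equiv.Perm (Fin 4), h ^ 2 ≠ Equiv.swap 0 1) ∧
    (finRotate 4 : Equiv.Perm (Fin 4)) ^ 4 = 1 ∧ (finRotate 4 : Equiv.Perm (Fin 4)) ^ 2 ≠ 1 := by
  decide +kernel

theorem solvable_aut_s4 : Group.IsSolvable (MulAut (Equiv.Perm (Fin 4))) := by
  classical
  obtain ⟨ht, ht', hc, hc'⟩ := s4_gens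
  refine solvable_aut_of_gens (finRotate 4) (Equiv.swap 0 1)
    (Finset.univ.filter fun g : Equiv.Perm (Fin 4) => g ^ 4 = 1 ∧ g ^ 2 ≠ 1)
    (Finset.univ.filter fun g : Equiv.Perm (Fin 4) => g ^ 2 = 1 ∧ ∀ h : Equiv.Perm (Fin 4), h ^ 2 ≠ g)
    (fun α => ?_) (fun α => ?_) ?_ fun g => ?_
  · refine Finset.mem_filter.2 ⟨Finset.mem_univ _, by rw [← map_pow, hc, map_one], fun e => hc' ?_⟩
    rw [← map_pow] at e
    exact α.injective (e.trans (map_one α).symm)
  · refine Finset.mem_filter.2 ⟨Finset.mem_univ _, by rw [← map_pow, ht, map_one], fun h e => ht' (α⁻¹ h) ?_⟩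
    rw [← map_pow, e]
    exact α.symm_apply_apply _
  · calc _ ≤ 6 * 9 := Nat.mul_le_mul s4_card_rot.le s4_card_swap
      _ < 60 := by norm_num
  · obtain ⟨i, k, m, j, l, rfl⟩ := s4_facts g
    have h1 : (finRotate 4 : Equiv.Perm (Fin 4)) ∈
        closure ({(finRotate 4 : Equiv.Perm (Fin 4)), Equiv.swap 0 1} : Set (Equiv.Perm (Fin 4))) :=
      Subgroup.subset_closure (Set.mem_insert _ _)
    have h2 : Equiv.swap (0 : Fin 4) 1 ∈
        closure ({(finRotate 4 : Equiv.Perm (Fin 4)), Equiv.swap 0 1} : Set (Equiv.Perm (Fin 4))) :=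
      Subgroup.subset_closure (Set.mem_insert_of_mem _ rfl)
    exact mul_mem (mul_mem (mul_mem (mul_mem (pow_mem h2 _) (pow_mem h1 _)) (pow_mem h2 _)) (pow_mem h1 _))
      (pow_mem h2 _)

theorem solvable_aut_congr {K L : Type*} [Group K] [Group L] (e : K ≃* L)
    (h : Group.IsSolvable (MulAut L)) : Group.IsSolvable (MulAut K) := by
  haveI := h
  exact Group.isSolvable_of_isSolvable_injective (f := (MulAut.congr e).toMonoidHom) (MulAut.congr e).injective

namespace IsFpf

variable {G : Type*} [Group G] [Finite G] {R : Type*} [Ring R] [Algebra ℚ R] [Nontrivial R]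
  [FiniteDimensional ℚ R] {φ : G →* R}

/-- **the automorphism group of a solvable fixed-point-free group is solvable** -/
theorem solvable_aut (hφ : IsFpf φ) (hsol : Group.IsSolvable G) : Group.IsSolvable (MulAut G) := by
  obtain ⟨N, ⟨hN, hZ, h6⟩, hu⟩ := hφ.six_types
  haveI := hN
  haveI := hZ
  have hinv : ∀ α : MulAut G, N.map α.toMonoidHom = N := by
    intro α
    refine hu _ ⟨Subgroup.Normal.map hN _ α.surjective,
      IsZGroup.of_surjective (f := (α.toMonoidHom.subgroupMap N)) (α.toMonoidHom.subgroupMap_surjective N), ?_⟩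
    have key : ∀ {Q : Type} [Group Q], (∃ f : G →* Q, Function.Surjective f ∧ f.ker = N) →
        ∃ f : G →* Q, Function.Surjective f ∧ f.ker = N.map α.toMonoidHom := by
      rintro Q _ ⟨f, hf, hk⟩
      refine ⟨f.comp α.symm.toMonoidHom, hf.comp α.symm.surjective, ?_⟩
      rw [← MonoidHom.comap_ker, hk]
      ext g
      exact Subgroup.mem_map_equiv.symm
    rcases h6 with h | h | h | h | h | h
    · refine Or.inl ?_
      rw [h, Subgroup.map_top_of_surjective _ α.surjective]
    · exact Or.inr (Or.inl (key h))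
    · exact Or.inr (Or.inr (Or.inl (key h)))
    · exact Or.inr (Or.inr (Or.inr (Or.inl (key h))))
    · exact Or.inr (Or.inr (Or.inr (Or.inr (Or.inl (key h)))))
    · exact Or.inr (Or.inr (Or.inr (Or.inr (Or.inr (key h)))))
  refine solvable_aut_of_invariant N hinv solvable_aut_zgroup ?_
  rcases h6 with h | ⟨f, hf, hk⟩ | ⟨f, hf, hk⟩ | ⟨f, hf, hk⟩ | ⟨f, hf, hk⟩ | ⟨f, hf, hk⟩
  · subst h
    haveI : Subsingleton (G ⧸ (⊤ : Subgroup G)) := QuotientGroup.subsingleton_quotient_top
    exact solvable_aut_cyclic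
  · exact solvable_aut_congr ((QuotientGroup.quotientMulEquivOfEq hk.symm).trans
      (QuotientGroup.quotientKerEquivOfSurjective f hf)) solvable_aut_d2
  · exact solvable_aut_congr ((QuotientGroup.quotientMulEquivOfEq hk.symm).trans
      (QuotientGroup.quotientKerEquivOfSurjective f hf)) solvable_aut_a4
  · exact solvable_aut_congr ((QuotientGroup.quotientMulEquivOfEq hk.symm).trans
      (QuotientGroup.quotientKerEquivOfSurjective f hf)) solvable_aut_s4
  · haveI := hsol
    exact absurd (Group.isSolvable_of_surjective hf) alt_five_not_solvable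
  · haveI := hsol
    exact absurd (Group.isSolvable_of_surjective hf) Equiv.Perm.fin_5_not_solvable

end IsFpf

end Cfsg.Lib.SolvStruct.Zassenhaus
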