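import Mathlib

/-!
The binary icosahedral group as `SL(2, 5)`, with its ten oriented axes of order three.
-/

set_option autoImplicit false
set_option maxRecDepth 8000

namespace Cfsg.Lib.SolvStruct.Zassenhaus

open scoped commutatorElement

/-- `SL(2, 5)` -/
abbrev I25 := Matrix.SpecialLinearGroup (Fin 2) (ZMod 5)

/-- the twenty elements of order three, indexed by oriented edges -/
def axis : Fin 5 → Fin 5 → I25 :=
  ![
   ![⟨!![1, 0; 0, 1], by decide⟩, ⟨!![0, 1; 4, 4], by decide⟩, ⟨!![0, 2; 2, 4], by decide⟩, ⟨!![1, 4; 3, 3], by decide⟩, ⟨!![2, 3; 1, 2], by decide⟩],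
   ![⟨!![4, 4; 1, 0], by decide⟩, ⟨!![1, 0; 0, 1], by decide⟩, ⟨!![2, 1; 3, 2], by decide⟩, ⟨!![3, 3; 4, 1], by decide⟩, ⟨!![4, 2; 2, 0], by decide⟩],
   ![⟨!![4, 3; 3, 0], by decide⟩, ⟨!![2, 4; 2, 2], by decide⟩, ⟨!![1, 0; 0, 1], by decide⟩, ⟨!![3, 2; 1, 1], by decide⟩, ⟨!![4, 1; 4, 0], by decide⟩],
   ![⟨!![3, 1; 2, 1], by decide⟩, ⟨!![1, 2; 1, 3], by decide⟩, ⟨!![1, 3; 4, 3], by decide⟩, ⟨!![1, 0; 0, 1], by decide⟩, ⟨!![3, 4; 3, 1], by decide⟩],
   ![⟨!![2, 2; 4, 2], by decide⟩, ⟨!![0, 3; 3, 4], by decide⟩, ⟨!![0, 4; 1, 4], by decide⟩, ⟨!![1, 1; 2, 3], by decide⟩, ⟨!![1, 0; 0, 1], by decide⟩]]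

/-- the central involution -/
def negOne : I25 := ⟨!![4, 0; 0, 4], by decide⟩

theorem axis_diag : ∀ i, axis i i = 1 := by decide +kernel

theorem axis_inv : ∀ i j, axis j i = (axis i j)⁻¹ := by decide +kernel

theorem axis_cube : ∀ i j, axis i j ^ 3 = 1 := by decide +kernel

theorem axis_ne_one : ∀ i j, i ≠ j → axis i j ≠ 1 := by decide +kernel

theorem axis_adj : ∀ i j k, i ≠ j → i ≠ k → j ≠ k →
    (axis i j * axis i k) ^ 3 = negOne ∧ axis i j * axis i k ≠ negOne := by decide +kernel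

theorem axis_conj : ∀ i j k, i ≠ j → i ≠ k → j ≠ k → ∃ l, l ≠ i ∧ l ≠ j ∧ l ≠ k ∧
    axis i j * axis i k * (axis i j)⁻¹ = axis i l := by decide +kernel

theorem axis_opp : (axis 0 1 * axis 2 3) ^ 5 = negOne ∧ axis 0 1 * axis 2 3 ≠ negOne := by
  decide +kernel

theorem negOne_ne_one : negOne ≠ 1 ∧ negOne ^ 2 = 1 := by decide +kernel

theorem exists_order_four : (axis 0 1 * axis 0 2) ^ 3 = negOne := (axis_adj 0 1 2 (by decide) (by decide) (by decide)).1

/-- reduce a statement on `SL(2, 5)` to quadruples -/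
theorem forall_of_quad {P : Matrix (Fin 2) (Fin 2) (ZMod 5) → Prop}
    (h : ∀ a b c d : ZMod 5, a * d - b * c = 1 → P !![a, b; c, d]) (x : I25) : P x.1 := by
  rw [Matrix.eta_fin_two x.1]
  exact h _ _ _ _ ((Matrix.det_fin_two _).symm.trans x.2)

theorem quad_two : ∀ a b c d : ZMod 5, a * d - b * c = 1 →
    (!![a, b; c, d] * !![a, b; c, d] = 1 → !![a, b; c, d] = 1 ∨ !![a, b; c, d] = negOne.1) := by
  decide +kernel

theorem quad_three : ∀ a b c d : ZMod 5, a * d - b * c = 1 →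
    (!![a, b; c, d] * !![a, b; c, d] * !![a, b; c, d] = 1 →
      !![a, b; c, d] = 1 ∨ ∃ i j, i ≠ j ∧ !![a, b; c, d] = (axis i j).1) := by
  decide +kernel

theorem quad_centre : ∀ a b c d : ZMod 5, a * d - b * c = 1 →
    (!![a, b; c, d] * (axis 0 1).1 = (axis 0 1).1 * !![a, b; c, d] →
      !![a, b; c, d] * (axis 2 3).1 = (axis 2 3).1 * !![a, b; c, d] →
        !![a, b; c, d] = 1 ∨ !![a, b; c, d] = negOne.1) := by
  decide +kernel

theorem quad_five : ∀ a b c d : ZMod 5, a * d - b * c = 1 →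
    (!![a, b; c, d] * !![a, b; c, d] * !![a, b; c, d] * !![a, b; c, d] * !![a, b; c, d] = 1 →
      !![a, b; c, d] = 1 ∨ ∃ i j, i ≠ j ∧
        !![a, b; c, d] * (axis i j).1 * (!![a, b; c, d] * (axis i j).1) = negOne.1) := by
  decide +kernel

theorem involution_eq (x : I25) (h : x ^ 2 = 1) : x = 1 ∨ x = negOne := by
  have h' : x.1 * x.1 = 1 := by
    rw [pow_two] at h
    exact congrArg Subtype.val h
  exact ((forall_of_quad (P := fun M => M * M = 1 → M = 1 ∨ M = negOne.1) quad_two x) h').imp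
    Subtype.ext Subtype.ext

theorem axis_all (x : I25) (h : x ^ 3 = 1) : x = 1 ∨ ∃ i j, i ≠ j ∧ x = axis i j := by
  have h' : x.1 * x.1 * x.1 = 1 := by
    rw [pow_three'] at h
    exact congrArg Subtype.val h
  rcases (forall_of_quad (P := fun M => M * M * M = 1 → M = 1 ∨ ∃ i j, i ≠ j ∧ M = (axis i j).1)
    quad_three x) h' with e | ⟨i, j, hij, e⟩
  · exact Or.inl (Subtype.ext e)
  · exact Or.inr ⟨i, j, hij, Subtype.ext e⟩

theorem centre_eq (x : I25) (h1 : x * axis 0 1 = axis 0 1 * x) (h2 : x * axis 2 3 = axis 2 3 * x) :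
    x = 1 ∨ x = negOne :=
  ((forall_of_quad (P := fun M => M * (axis 0 1).1 = (axis 0 1).1 * M →
    M * (axis 2 3).1 = (axis 2 3).1 * M → M = 1 ∨ M = negOne.1) quad_centre x)
    (congrArg Subtype.val h1) (congrArg Subtype.val h2)).imp Subtype.ext Subtype.ext

theorem order_five (x : I25) (h : x ^ 5 = 1) :
    x = 1 ∨ ∃ i j, i ≠ j ∧ (x * axis i j) ^ 2 = negOne := by
  have h' : x.1 * x.1 * x.1 * x.1 * x.1 = 1 := by
    simp only [pow_succ, pow_zero, one_mul] at h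
    exact congrArg Subtype.val h
  rcases (forall_of_quad (P := fun M => M * M * M * M * M = 1 → M = 1 ∨ ∃ i j, i ≠ j ∧
    M * (axis i j).1 * (M * (axis i j).1) = negOne.1) quad_five x) h' with e | ⟨i, j, hij, e⟩
  · exact Or.inl (Subtype.ext e)
  · exact Or.inr ⟨i, j, hij, Subtype.ext (by rw [pow_two]; exact e)⟩

theorem negOne_central (x : I25) : x * negOne = negOne * x := by
  refine Subtype.ext ?_
  show x.1 * negOne.1 = negOne.1 * x.1
  rw [show negOne.1 = (4 : ZMod 5) • (1 : Matrix (Fin 2) (Fin 2) (ZMod 5)) by decide +kernel]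
  rw [Matrix.mul_smul, Matrix.smul_mul, mul_one, one_mul]

theorem card_eq : Nat.card I25 = 120 := by
  rw [Nat.card_congr (show I25 ≃ {v : ZMod 5 × ZMod 5 × ZMod 5 × ZMod 5 //
      v.1 * v.2.2.2 - v.2.1 * v.2.2.1 = 1} from
    { toFun := fun M => ⟨(M.1 0 0, M.1 0 1, M.1 1 0, M.1 1 1), (Matrix.det_fin_two _).symm.trans M.2⟩
      invFun := fun v => ⟨!![v.1.1, v.1.2.1; v.1.2.2.1, v.1.2.2.2], by
        rw [Matrix.det_fin_two_of]; exact v.2⟩
      left_inv := fun M => Subtype.ext (Matrix.eta_fin_two _).symm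
      right_inv := fun v => by simp }), Nat.card_eq_fintype_card]
  decide +kernel

end Cfsg.Lib.SolvStruct.Zassenhaus
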