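import Cfsg.Agent.SolvStruct.Zassenhaus.Data

/-!
Normal subgroups and a Sylow `2`-subgroup of `SL(2, 5)`.
-/

set_option autoImplicit false
set_option maxRecDepth 8000

namespace Cfsg.Lib.SolvStruct.Zassenhaus

open Subgroup

/-- the quaternion group attached to the first point -/
def quatList : List I25 :=
  [⟨!![1, 0; 0, 1], by decide⟩, ⟨!![4, 0; 0, 4], by decide⟩, ⟨!![2, 0; 2, 3], by decide⟩,
    ⟨!![3, 0; 3, 2], by decide⟩, ⟨!![2, 1; 0, 3], by decide⟩, ⟨!![3, 4; 0, 2], by decide⟩,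
    ⟨!![1, 3; 1, 4], by decide⟩, ⟨!![4, 2; 4, 1], by decide⟩]

theorem quatList_facts :
    quatList.Nodup ∧ (∀ a ∈ quatList, ∀ b ∈ quatList, a * b ∈ quatList) ∧
      (∀ a ∈ quatList, a⁻¹ ∈ quatList) ∧ (1 : I25) ∈ quatList ∧
      (∀ a ∈ quatList, axis 0 1 * a * (axis 0 1)⁻¹ ∈ quatList) ∧
      (∀ a ∈ quatList, axis 1 2 * a * (axis 1 2)⁻¹ ∈ quatList → a = 1 ∨ a = negOne) ∧
      (∃ a ∈ quatList, a ≠ 1 ∧ a ≠ negOne) := by
  refine ⟨?_, ?_, ?_, ?_, ?_, ?_, ?_⟩
  · decide +kernel
  · decide +kernel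
  · decide +kernel
  · decide +kernel
  · decide +kernel
  · decide +kernel
  · exact ⟨quatList.getD 2 1, (by decide +kernel : quatList.getD 2 (1 : I25) ∈ quatList),
      (by decide +kernel : quatList.getD 2 (1 : I25) ≠ 1),
      (by decide +kernel : quatList.getD 2 (1 : I25) ≠ negOne)⟩

/-- a Sylow `2`-subgroup of `SL(2, 5)` -/
def quat : Subgroup I25 where
  carrier := {a | a ∈ quatList}
  one_mem' := quatList_facts.2.2.2.1
  mul_mem' := fun ha hb => quatList_facts.2.1 _ ha _ hb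
  inv_mem' := fun ha => quatList_facts.2.2.1 _ ha

theorem quat_card : Nat.card quat = 8 := by
  rw [show Nat.card quat = Nat.card {a // a ∈ quatList} from rfl,
    Nat.card_congr (Equiv.subtypeEquivRight (fun _ => List.mem_toFinset.symm)),
    Nat.card_eq_fintype_card, Fintype.card_coe, List.toFinset_card_of_nodup quatList_facts.1]
  rfl

instance : Fact (Nat.Prime 2) := ⟨Nat.prime_two⟩

/-- the Sylow `2`-subgroup -/
noncomputable def quatSylow : Sylow 2 I25 :=
  Sylow.ofCard quat (by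
    rw [quat_card, card_eq, show (120 : ℕ) = 2 ^ 3 * 15 by norm_num,
      Nat.factorization_mul (by norm_num) (by norm_num)]
    rw [Finsupp.add_apply, Nat.prime_two.factorization_pow, Finsupp.single_eq_same,
      Nat.factorization_eq_zero_of_not_dvd (show ¬ 2 ∣ 15 by norm_num)]
    rfl)

theorem card_sylow_le : Nat.card (Sylow 2 I25) ≤ 5 := by
  rw [Sylow.card_eq_index_normalizer quatSylow]
  show (normalizer (quat : Set I25)).index ≤ 5
  have hm : axis 0 1 ∈ normalizer (quat : Set I25) := by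
    rw [mem_normalizer_iff]
    refine fun a => ⟨fun ha => quatList_facts.2.2.2.2.1 a ha, fun ha => ?_⟩
    have h1 := quatList_facts.2.2.2.2.1 _ (quatList_facts.2.2.2.2.1 _ ha)
    have h3 : axis 0 1 * axis 0 1 * axis 0 1 = 1 := by rw [← axis_cube 0 1, pow_three']
    have e : axis 0 1 * (axis 0 1 * (axis 0 1 * a * (axis 0 1)⁻¹) * (axis 0 1)⁻¹) * (axis 0 1)⁻¹ = a := by
      rw [show axis 0 1 * (axis 0 1 * (axis 0 1 * a * (axis 0 1)⁻¹) * (axis 0 1)⁻¹) * (axis 0 1)⁻¹
        = (axis 0 1 * axis 0 1 * axis 0 1) * a * (axis 0 1 * axis 0 1 * axis 0 1)⁻¹ by group, h3]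
      group
    rw [← e]
    exact h1
  have h8 : 8 ∣ Nat.card (normalizer (quat : Set I25)) :=
    quat_card ▸ Subgroup.card_dvd_of_le le_normalizer
  have h3 : 3 ∣ Nat.card (normalizer (quat : Set I25)) := by
    haveI : Fact (Nat.Prime 3) := ⟨Nat.prime_three⟩
    have := Subgroup.orderOf_dvd_natCard _ hm
    rwa [orderOf_eq_prime (axis_cube 0 1) (axis_ne_one 0 1 (by decide))] at this
  have h24 : 24 ∣ Nat.card (normalizer (quat : Set I25)) :=
    Nat.Coprime.mul_dvd_of_dvd_of_dvd (show Nat.Coprime 8 3 by norm_num) h8 h3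
  have hm' := (normalizer (quat : Set I25)).card_mul_index
  rw [card_eq] at hm'
  have := Nat.le_of_dvd Nat.card_pos h24
  nlinarith [Nat.mul_le_mul_right (normalizer (quat : Set I25)).index this]

theorem axis_star : ∀ i j l, i ≠ j → i ≠ l → j ≠ l →
    ∃ k, axis i k * axis i j * (axis i k)⁻¹ = axis i l := by decide +kernel

/-- a normal subgroup containing one axis is everything -/
theorem eq_top_of_axis (N : Subgroup I25) [N.Normal] {p q : Fin 5} (hpq : p ≠ q)
    (h : axis p q ∈ N) (gen : ∀ x : I25, x ∈ Subgroup.closure {a : I25 | a ^ 3 = 1}) : N = ⊤ := by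
  have step : ∀ i j l, i ≠ j → i ≠ l → axis i j ∈ N → axis i l ∈ N := by
    intro i j l hij hil hm
    by_cases hjl : j = l
    · rw [← hjl]; exact hm
    obtain ⟨k, hk⟩ := axis_star i j l hij hil hjl
    rw [← hk]
    exact Subgroup.Normal.conj_mem inferInstance _ hm _
  have hrev : ∀ i j, axis i j ∈ N → axis j i ∈ N := fun i j hm => by
    rw [axis_inv]; exact inv_mem hm
  have hall : ∀ i j, i ≠ j → axis i j ∈ N := fun i j hij => by
    by_cases hip : i = p
    · subst hip; exact step i q j hpq hij h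
    exact step i p j hip hij (hrev _ _ (step p q i hpq (Ne.symm hip) h))
  refine eq_top_iff.2 fun x _ => (Subgroup.closure_le N).2 ?_ (gen x)
  intro a ha
  rcases axis_all a ha with rfl | ⟨i, j, hij, rfl⟩
  · exact one_mem N
  · exact hall i j hij

end Cfsg.Lib.SolvStruct.Zassenhaus
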