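import Cfsg.Agent.SolvStruct.Zassenhaus.Pairs
import Cfsg.Agent.SolvStruct.Zassenhaus.Data
import Cfsg.Agent.Presentations.BinaryIcosahedral
import Cfsg.Agent.S3378

/-!
A binary icosahedral subgroup of a fixed-point-free group contains all elements of order three.
-/

set_option autoImplicit false
set_option linter.unusedSectionVars false

namespace Cfsg.Lib.SolvStruct.Zassenhaus

variable {G : Type*} [Group G] [Finite G] {R : Type*} [Ring R] [Algebra ℚ R] [Nontrivial R] {φ : G →* R}

namespace IsFpf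

/-- two elements of order three with product of order ten generate a binary icosahedral group -/
theorem exists_icosa (hφ : IsFpf φ) {x y : G} (hx : x ^ 3 = 1) (hx1 : x ≠ 1) (hy : y ^ 3 = 1)
    (hy1 : y ≠ 1) (hxy : orderOf (x * y) = 10) :
    ∃ f : I25 →* G, Function.Injective f ∧ x ∈ f.range ∧ y ∈ f.range := by
  set w := x * y with hw
  set z := w ^ 5 with hzdef
  clear_value z w
  have hz1 : z ≠ 1 := by rw [hzdef]; exact pow_ne_one_of_lt_orderOf (by norm_num) (by omega)
  have hz2 : z ^ 2 = 1 := by rw [hzdef, ← pow_mul, show 5 * 2 = orderOf w by omega, pow_orderOf_eq_one]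
  have hzc : ∀ g : G, g * z = z * g := fun g => by
    refine mul_inv_eq_iff_eq_mul.1 (hφ.involution_unique (g := g * z * g⁻¹) ?_ ?_ hz1 hz2)
    · exact fun h => hz1 (conj_eq_one_iff.1 h)
    · rw [conj_pow, hz2, mul_one, mul_inv_cancel]
  have hw5 : (w ^ 2) ^ 5 = 1 := by
    rw [← pow_mul, show 2 * 5 = orderOf w by omega, pow_orderOf_eq_one]
  -- `(x * w ^ 2) ^ 2` is the involution
  have hsq : (x * w ^ 2) ^ 2 = z := by
    refine hφ.injective ?_
    rw [hφ.neg_one hz1 hz2, map_pow]
    have hcomm : Commute (φ w + φ w⁻¹) (φ x) := by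
      have h1 := hφ.trace_eq hx hx1 hy hy1
      have hc : Commute (ac (root3 φ x) (root3 φ y)) (root3 φ x) :=
        commute_ac_self _ (hφ.root3_sq hx hx1)
      have h2 : Commute ((4 : ℚ) • (φ w + φ w⁻¹)) (root3 φ x) := by
        rw [hw, h1]
        exact (commute_qone _ _).symm.add_left hc
      have h3 : Commute (φ w + φ w⁻¹) (root3 φ x) := by
        have := h2.smul_left (1 / 4 : ℚ)
        rwa [smul_smul, show (1 / 4 : ℚ) * 4 = 1 by norm_num, one_smul] at this
      rw [root3_eq (φ := φ) x]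
      exact (h3.sub_right (Commute.one_right _)).smul_right _
    set a := φ w + φ w⁻¹ with ha
    clear_value a
    have hWW : φ w * φ w⁻¹ = 1 := by rw [← map_mul, mul_inv_cancel, map_one]
    have hWW' : φ w⁻¹ * φ w = 1 := by rw [← map_mul, inv_mul_cancel, map_one]
    have hW2 : φ w ^ 2 = a * φ w - 1 := by rw [ha, add_mul, hWW', pow_two]; abel
    have hW2' : φ w⁻¹ ^ 2 = φ w⁻¹ * a - 1 := by rw [ha, mul_add, hWW', pow_two]; abel
    have hT1 : φ x * φ w + φ w⁻¹ * φ x⁻¹ = 1 - a := by
      have h1 := hφ.trace_eq (x := x⁻¹) (by rw [inv_pow, hx, inv_one]) (by simpa using hx1) hy hy1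
      rw [hφ.root3_inv hx hx1, ac_neg_left] at h1
      have h2 := hφ.trace_eq hx hx1 hy hy1
      have e : x⁻¹ * y = x * w := by
        rw [inv_eq_of_mul_eq_one_right (show x * (x * x) = 1 by rw [← hx]; simp [pow_succ, mul_assoc]),
          hw, mul_assoc]
      rw [e, mul_inv_rev, map_mul, map_mul] at h1
      rw [← hw] at h2
      rw [ha]
      linear_combination (norm := module) (1 / 4 : ℚ) • h1 + (1 / 4 : ℚ) • h2
    have ha2 : a * a = a + 1 := by rw [ha]; exact hφ.trace_value.2.2.2 hxy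
    have hA : φ x⁻¹ = -φ x - 1 := hφ.map_inv_three hx hx1
    have hca : Commute a (φ x⁻¹) := by
      rw [hA]; exact hcomm.neg_right.sub_right (Commute.one_right _)
    have hsum : φ (x * w ^ 2) + φ (x * w ^ 2)⁻¹ = 0 := by
      rw [mul_inv_rev, map_mul, map_mul, ← inv_pow, map_pow, map_pow, hW2, hW2']
      have hT0 : φ x + φ x⁻¹ = -1 := by rw [hA]; abel
      calc φ x * (a * φ w - 1) + (φ w⁻¹ * a - 1) * φ x⁻¹
          = φ x * a * φ w + φ w⁻¹ * (a * φ x⁻¹) - (φ x + φ x⁻¹) := by noncomm_ring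
        _ = a * (φ x * φ w + φ w⁻¹ * φ x⁻¹) - (φ x + φ x⁻¹) := by
            have hcw : Commute a (φ w⁻¹) := by
              rw [ha]; exact (show Commute (φ w) (φ w⁻¹) from hWW.trans hWW'.symm).add_left (Commute.refl _)
            rw [← hcomm.eq, mul_add, ← mul_assoc a (φ w⁻¹), hcw.eq]
            simp only [mul_assoc]
        _ = 0 := by rw [hT1, hT0, mul_sub, mul_one, ha2]; abel
    have hP : φ (x * w ^ 2) * φ (x * w ^ 2)⁻¹ = 1 := by rw [← map_mul, mul_inv_cancel, map_one]
    rw [eq_neg_of_add_eq_zero_right hsum, mul_neg, neg_eq_iff_eq_neg, ← pow_two] at hP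
    exact hP
  -- the presentation
  let v : Fin 3 → G := ![x, w ^ 2, z]
  have hrels : ∀ r ∈ Cfsg.Lib.Presentations.binaryRels, FreeGroup.lift v r = 1 := by
    intro r hr
    simp only [Cfsg.Lib.Presentations.binaryRels, Set.mem_insert_iff, Set.mem_singleton_iff] at hr
    rcases hr with rfl | rfl | rfl | rfl | rfl | rfl <;> simp [v, hx, hw5, hz2, hsq, mul_assoc]
    · rw [← mul_assoc x z x⁻¹, hzc x, mul_assoc, mul_inv_cancel, mul_one, inv_mul_cancel]
    · rw [← mul_assoc (w ^ 2) z, hzc (w ^ 2), mul_assoc, mul_inv_cancel, mul_one, inv_mul_cancel]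
  let f₀ := PresentedGroup.toGroup hrels
  obtain ⟨e⟩ := Cfsg.Agent.S3378.result.{0}.2
  let f : I25 →* G := f₀.comp e.symm.toMonoidHom
  have hgen : ∀ i, v i ∈ f.range := fun i => ⟨e (PresentedGroup.of i), by
    show f₀ (e.symm (e (PresentedGroup.of i))) = v i
    rw [MulEquiv.symm_apply_apply]
    exact PresentedGroup.toGroup.of hrels⟩
  have hneg : f negOne = z := by
    -- the image of the third generator
    have hZ : f (e (PresentedGroup.of 2)) = z := by
      show f₀ (e.symm (e (PresentedGroup.of 2))) = z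
      rw [MulEquiv.symm_apply_apply]
      exact PresentedGroup.toGroup.of hrels
    have h2 : (e (PresentedGroup.of 2)) ^ 2 = 1 := by
      rw [← map_pow, MulEquiv.map_eq_one_iff]
      exact PresentedGroup.one_of_mem (show FreeGroup.of (2 : Fin 3) ^ 2 ∈ _ by simp)
    rcases involution_eq _ h2 with h | h
    · rw [h, map_one] at hZ; exact absurd hZ.symm hz1
    · rw [← h]; exact hZ
  refine ⟨f, ?_, hgen 0, ?_⟩
  · rw [← MonoidHom.ker_eq_bot_iff, ← Subgroup.card_eq_one]
    by_contra hne
    obtain ⟨q, hq, hqd⟩ := Nat.exists_prime_and_dvd hne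
    haveI := Fact.mk hq
    obtain ⟨⟨k, hk⟩, hko⟩ := exists_prime_orderOf_dvd_card' (G := f.ker) q hqd
    rw [Subgroup.orderOf_mk] at hko
    rw [MonoidHom.mem_ker] at hk
    have hk1 : k ≠ 1 := fun e => hq.one_lt.ne (by rw [← hko, e, orderOf_one])
    have hkq : k ^ q = 1 := hko ▸ pow_orderOf_eq_one k
    have hq120 : q ∣ 2 ^ 3 * 3 * 5 := by
      have := orderOf_dvd_natCard k
      rwa [hko, card_eq] at this
    have hq' : q = 2 ∨ q = 3 ∨ q = 5 := by
      rcases hq.dvd_mul.1 hq120 with h | h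
      · rcases hq.dvd_mul.1 h with h | h
        · exact Or.inl ((Nat.prime_dvd_prime_iff_eq hq Nat.prime_two).1 (hq.dvd_of_dvd_pow h))
        · exact Or.inr (Or.inl ((Nat.prime_dvd_prime_iff_eq hq Nat.prime_three).1 h))
      · exact Or.inr (Or.inr ((Nat.prime_dvd_prime_iff_eq hq (by norm_num)).1 h))
    rcases hq' with rfl | rfl | rfl
    · obtain h := (involution_eq k hkq).resolve_left hk1
      rw [h, hneg] at hk
      exact hz1 hk
    · obtain ⟨i, j, hij, rfl⟩ := (axis_all k hkq).resolve_left hk1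
      obtain ⟨l, hli, hlj⟩ : ∃ l : Fin 5, l ≠ i ∧ l ≠ j :=
        (by decide : ∀ i j : Fin 5, ∃ l : Fin 5, l ≠ i ∧ l ≠ j) i j
      have := congrArg f (axis_adj i j l hij (Ne.symm hli) (Ne.symm hlj)).1
      rw [map_pow, map_mul, hk, one_mul, ← map_pow, axis_cube, map_one, hneg] at this
      exact hz1 this.symm
    · obtain ⟨i, j, -, h⟩ := (order_five k hkq).resolve_left hk1
      have h' := congrArg f h
      rw [map_pow, map_mul, hk, one_mul, hneg] at h'
      have h6 := congrArg (· ^ 3) h'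
      simp only [← pow_mul] at h6
      rw [show 2 * 3 = 3 * 2 from rfl, pow_mul, ← map_pow, axis_cube, map_one, one_pow,
        show z ^ 3 = z by rw [pow_succ, hz2, one_mul]] at h6
      exact hz1 h6.symm
  · have h11 : w = (w ^ 2) ^ 3 * z := by
      rw [hzdef, ← pow_mul, ← pow_add]
      nth_rewrite 1 [← pow_one w]
      rw [show 2 * 3 + 5 = 1 + orderOf w by omega, pow_add, pow_orderOf_eq_one, mul_one]
    rw [show y = x⁻¹ * w by rw [hw, inv_mul_cancel_left], h11]
    exact mul_mem (inv_mem (hgen 0)) (mul_mem (pow_mem (hgen 1) 3) (hgen 2))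

/-- the root of an axis -/
def iroot (φ : G →* R) (f : I25 →* G) (i j : Fin 5) : R :=
  if i = j then 0 else root3 φ (f (axis i j))

variable {f : I25 →* G}

theorem axis_facts (hf : Function.Injective f) {i j : Fin 5} (h : i ≠ j) :
    f (axis i j) ^ 3 = 1 ∧ f (axis i j) ≠ 1 :=
  ⟨by rw [← map_pow, axis_cube, map_one],
    fun e => axis_ne_one i j h (hf (e.trans (map_one f).symm))⟩

theorem order_of_prod (hf : Function.Injective f) {p : I25} {m : ℕ} (hm : m.Prime) (hm2 : m ≠ 2)
    (h : p ^ m = negOne) (hne : p ≠ negOne) : orderOf (f p) = 2 * m := by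
  rw [orderOf_injective f hf]
  have h1 : p ^ (2 * m) = 1 := by rw [mul_comm, pow_mul, h, negOne_ne_one.2]
  obtain ⟨c, d, hc, hd, hcd⟩ := exists_dvd_and_dvd_of_dvd_mul (orderOf_dvd_of_pow_eq_one h1)
  rcases (Nat.dvd_prime Nat.prime_two).1 hc with rfl | rfl <;>
    rcases (Nat.dvd_prime hm).1 hd with rfl | rfl
  · simp only [mul_one] at hcd
    rw [orderOf_eq_one_iff.1 hcd, one_pow] at h
    exact absurd h.symm negOne_ne_one.1
  · rw [one_mul] at hcd
    rw [← hcd, pow_orderOf_eq_one] at h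
    exact absurd h.symm negOne_ne_one.1
  · rw [mul_one] at hcd
    obtain ⟨t, ht⟩ := hm.odd_of_ne_two hm2
    rw [ht, pow_succ, pow_mul, show p ^ 2 = 1 from orderOf_dvd_iff_pow_eq_one.1 hcd.dvd, one_pow, one_mul] at h
    exact absurd h hne
  · exact hcd

theorem iroot_frame (hφ : IsFpf φ) (hf : Function.Injective f) :
    Frame (iroot φ f) (ac (iroot φ f 0 1) (iroot φ f 2 3)) := by
  have hval : ∀ {i j : Fin 5}, i ≠ j → iroot φ f i j = root3 φ (f (axis i j)) := fun h => if_neg h
  have hskew : ∀ i j, iroot φ f j i = -iroot φ f i j := by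
    intro i j
    by_cases h : i = j
    · subst h; simp [iroot]
    · rw [hval h, hval (Ne.symm h), axis_inv i j, map_inv,
        hφ.root3_inv (axis_facts hf h).1 (axis_facts hf h).2]
  have hsq : ∀ i j, i ≠ j → iroot φ f i j * iroot φ f i j = (-3 : ℚ) • (1 : R) := fun i j h => by
    rw [hval h]; exact hφ.root3_sq (axis_facts hf h).1 (axis_facts hf h).2
  have hadj : ∀ i j k, i ≠ j → i ≠ k → j ≠ k →
      ac (iroot φ f i j) (iroot φ f i k) = (2 : ℚ) • (1 : R) := by
    intro i j k h1 h2 h3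
    rw [hval h1, hval h2]
    refine hφ.ac_eq_two (axis_facts hf h1).1 (axis_facts hf h1).2 (axis_facts hf h2).1
      (axis_facts hf h2).2 ?_
    rw [← map_mul]
    exact order_of_prod hf Nat.prime_three (by norm_num) (axis_adj i j k h1 h2 h3).1
      (axis_adj i j k h1 h2 h3).2
  have hself : ∀ i j, i ≠ j → ac (iroot φ f i j) (iroot φ f i j) = (-6 : ℚ) • (1 : R) := fun i j h => by
    rw [ac, hsq i j h, ← add_smul]; norm_num
  have htriple : ∀ i j k l, i ≠ j → i ≠ k → i ≠ l → j ≠ k → j ≠ l → k ≠ l →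
      ∃ q : ℚ, q ≠ 0 ∧ ac (iroot φ f i l)
        (iroot φ f i j * iroot φ f i k - iroot φ f i k * iroot φ f i j) = q • (1 : R) := by
    intro i j k l h1 h2 h3 h4 h5 h6
    obtain ⟨m, hmi, hmj, hmk, hm⟩ := axis_conj i j k h1 h2 h4
    have hc := hadj i j k h1 h2 h4
    rw [hval h1, hval h2] at hc
    have e := hφ.commutator_eq (x := f (axis i j)) (y := f (axis i k)) (axis_facts hf h1).1
      (axis_facts hf h1).2
    rw [hc, ← map_inv, ← map_mul, ← map_mul, hm, ← hval h1, ← hval h2, ← hval (Ne.symm hmi)] at e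
    rw [e, ac_sub_right, ac_sub_right, ac_smul_right, ac_smul_right, smul_mul_assoc, one_mul,
      ac_smul_right, hadj i l k h3 h2 (Ne.symm h6), hadj i l j h3 h1 (Ne.symm h5)]
    by_cases hlm : m = l
    · subst hlm
      rw [hself i m h3]
      exact ⟨16, by norm_num, by module⟩
    · rw [hadj i l m h3 (Ne.symm hmi) (Ne.symm hlm)]
      exact ⟨-16, by norm_num, by module⟩
  have hrow : ∀ i, ∑ j, iroot φ f i j = 0 := by
    intro i
    obtain ⟨j, k, l, m, h⟩ : ∃ j k l m : Fin 5, [i, j, k, l, m].Nodup :=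
      (by decide : ∀ i : Fin 5, ∃ j k l m : Fin 5, [i, j, k, l, m].Nodup) i
    simp only [List.nodup_cons, List.mem_cons, List.not_mem_nil, or_false, not_or, List.nodup_nil] at h
    obtain ⟨⟨hij, hik, hil, him⟩, ⟨hjk, hjl, hjm⟩, ⟨hkl, hkm⟩, hlm, -⟩ := h
    have huniv : ({i, j, k, l, m} : Finset (Fin 5)) = Finset.univ := by
      refine Finset.eq_univ_of_card _ ?_
      simp [hij, hik, hil, him, hjk, hjl, hjm, hkl, hkm, hlm]
    rw [← huniv, Finset.sum_insert (by simp [hij, hik, hil, him]),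
      Finset.sum_insert (by simp [hjk, hjl, hjm]), Finset.sum_insert (by simp [hkl, hkm]),
      Finset.sum_insert (by simp [hlm]), Finset.sum_singleton, show iroot φ f i i = 0 from if_pos rfl,
      zero_add]
    obtain ⟨q, hq, ht⟩ := htriple i j k l hij hik hil hjk hjl hkl
    refine eq_zero_of_ac hq ?_ ?_ ?_ ht <;>
    · simp only [ac_add_left, hself i j hij, hself i k hik, hself i l hil, hadj i k j hik hij (Ne.symm hjk),
        hadj i l j hil hij (Ne.symm hjl), hadj i m j him hij (Ne.symm hjm), hadj i j k hij hik hjk,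
        hadj i l k hil hik (Ne.symm hkl), hadj i m k him hik (Ne.symm hkm), hadj i j l hij hil hjl,
        hadj i k l hik hil hkl, hadj i m l him hil (Ne.symm hlm)]
      module
  -- the anticommutators of opposite axes
  set F : Equiv.Perm (Fin 5) → R := fun π => ac (iroot φ f (π 0) (π 1)) (iroot φ f (π 2) (π 3)) with hF
  have h01 : ∀ π, F (π * Equiv.swap 0 1) = -F π := by
    intro π
    simp only [hF, Equiv.Perm.mul_apply, Equiv.swap_apply_left, Equiv.swap_apply_right,
      show (Equiv.swap 0 1 : Equiv.Perm (Fin 5)) 2 = 2 by decide,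
      show (Equiv.swap 0 1 : Equiv.Perm (Fin 5)) 3 = 3 by decide]
    rw [hskew (π 0) (π 1), ac_neg_left]
  have h23 : ∀ π, F (π * Equiv.swap 2 3) = -F π := by
    intro π
    simp only [hF, Equiv.Perm.mul_apply, Equiv.swap_apply_left, Equiv.swap_apply_right,
      show (Equiv.swap 2 3 : Equiv.Perm (Fin 5)) 0 = 0 by decide,
      show (Equiv.swap 2 3 : Equiv.Perm (Fin 5)) 1 = 1 by decide]
    rw [hskew (π 2) (π 3), ac_neg_right]
  have h34 : ∀ π, F (π * Equiv.swap 3 4) = -F π := by
    intro π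
    have hne : ∀ a b : Fin 5, a ≠ b → π a ≠ π b := fun a b h => π.injective.ne h
    have hr : iroot φ f (π 2) (π 0) + iroot φ f (π 2) (π 1) + iroot φ f (π 2) (π 3) +
        iroot φ f (π 2) (π 4) = 0 := by
      have h := hrow (π 2)
      rw [← Equiv.sum_comp π (fun j => iroot φ f (π 2) j), Fin.sum_univ_five,
        show iroot φ f (π 2) (π 2) = 0 from if_pos rfl, add_zero] at h
      exact h
    have h := congrArg (ac (iroot φ f (π 0) (π 1))) hr
    rw [ac_add_right, ac_add_right, ac_add_right, ac_zero_right,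
      hskew (π 0) (π 2), ac_neg_right, hadj _ _ _ (hne 0 1 (by decide)) (hne 0 2 (by decide)) (hne 1 2 (by decide)),
      hskew (π 1) (π 2), ac_neg_right,
      show ac (iroot φ f (π 0) (π 1)) (iroot φ f (π 1) (π 2)) = (-2 : ℚ) • (1 : R) by
        rw [hskew (π 1) (π 0), ac_neg_left, hadj _ _ _ (hne 1 0 (by decide)) (hne 1 2 (by decide))
          (hne 0 2 (by decide)), neg_smul]] at h
    simp only [hF, Equiv.Perm.mul_apply, Equiv.swap_apply_left,
      show (Equiv.swap 3 4 : Equiv.Perm (Fin 5)) 0 = 0 by decide,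
      show (Equiv.swap 3 4 : Equiv.Perm (Fin 5)) 1 = 1 by decide,
      show (Equiv.swap 3 4 : Equiv.Perm (Fin 5)) 2 = 2 by decide]
    linear_combination (norm := module) h
  set d : Equiv.Perm (Fin 5) := Equiv.swap 0 2 * Equiv.swap 1 3 with hd
  have hdd : ∀ π, F (π * d) = F π := by
    intro π
    simp only [hF, Equiv.Perm.mul_apply, hd,
      show (Equiv.swap 1 3 : Equiv.Perm (Fin 5)) 0 = 0 by decide,
      show (Equiv.swap 1 3 : Equiv.Perm (Fin 5)) 2 = 2 by decide,
      show (Equiv.swap 1 3 : Equiv.Perm (Fin 5)) 1 = 3 by decide,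
      show (Equiv.swap 1 3 : Equiv.Perm (Fin 5)) 3 = 1 by decide,
      show (Equiv.swap 0 2 : Equiv.Perm (Fin 5)) 0 = 2 by decide,
      show (Equiv.swap 0 2 : Equiv.Perm (Fin 5)) 2 = 0 by decide,
      show (Equiv.swap 0 2 : Equiv.Perm (Fin 5)) 1 = 1 by decide,
      show (Equiv.swap 0 2 : Equiv.Perm (Fin 5)) 3 = 3 by decide]
    exact ac_comm _ _
  -- `F` transforms by the sign
  let P : Equiv.Perm (Fin 5) → Prop := fun τ =>
    ∀ π, F (π * τ) = ((Equiv.Perm.sign τ : ℤ) : ℚ) • F π
  have hmul : ∀ {a b}, P a → P b → P (a * b) := fun {a b} ha hb π => by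
    rw [← mul_assoc, hb, ha, smul_smul, map_mul, Units.val_mul, Int.cast_mul, mul_comm]
  have hswap : ∀ {a b : Fin 5}, a ≠ b → (∀ π, F (π * Equiv.swap a b) = -F π) → P (Equiv.swap a b) :=
    fun hab h π => by rw [h, Equiv.Perm.sign_swap hab]; simp
  have p01 : P (Equiv.swap 0 1) := hswap (by decide) h01
  have p23 : P (Equiv.swap 2 3) := hswap (by decide) h23
  have p34 : P (Equiv.swap 3 4) := hswap (by decide) h34
  have pd : P d := fun π => by
    rw [hdd, hd, map_mul, Equiv.Perm.sign_swap (by decide), Equiv.Perm.sign_swap (by decide)]; simp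
  have p12 : P (Equiv.swap 1 2) := by
    have e : (Equiv.swap 1 2 : Equiv.Perm (Fin 5)) =
        (Equiv.swap 3 4 * Equiv.swap 2 3 * Equiv.swap 3 4) * (d * Equiv.swap 3 4 * d) *
          (Equiv.swap 3 4 * Equiv.swap 2 3 * Equiv.swap 3 4) := by decide +kernel
    rw [e]
    exact hmul (hmul (hmul (hmul p34 p23) p34) (hmul (hmul pd p34) pd)) (hmul (hmul p34 p23) p34)
  have hall : ∀ τ, P τ := by
    intro τ
    have hmem : τ ∈ Submonoid.closure (Set.range fun i : Fin 4 => Equiv.swap i.castSucc i.succ) := by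
      rw [Equiv.Perm.mclosure_swap_castSucc_succ]; exact Submonoid.mem_top τ
    induction hmem using Submonoid.closure_induction with
    | mem a ha =>
      obtain ⟨i, rfl⟩ := ha
      fin_cases i
      · exact p01
      · exact p12
      · exact p23
      · exact p34
    | one => intro π; simp
    | mul a b _ _ iha ihb => exact hmul iha ihb
  have hL : ∀ π, F π = ((Equiv.Perm.sign π : ℤ) : ℚ) • ac (iroot φ f 0 1) (iroot φ f 2 3) := fun π => by
    have := hall π 1
    rwa [one_mul, show F 1 = ac (iroot φ f 0 1) (iroot φ f 2 3) from rfl] at this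
  refine ⟨hskew, fun i => if_pos rfl, hsq, hrow, hadj, hL, ?_, ?_, htriple⟩
  · rw [hval (by decide : (0 : Fin 5) ≠ 1), hval (by decide : (2 : Fin 5) ≠ 3)]
    refine hφ.big_of_ten (axis_facts hf (by decide)).1 (axis_facts hf (by decide)).2
      (axis_facts hf (by decide)).1 (axis_facts hf (by decide)).2 ?_
    rw [← map_mul]
    exact order_of_prod hf (m := 5) (by norm_num) (by norm_num) axis_opp.1 axis_opp.2
  · intro i j
    by_cases h : i = j
    · rw [show iroot φ f i j = 0 from if_pos h]; exact Commute.zero_right _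
    obtain ⟨k, l, m, hv⟩ : ∃ k l m : Fin 5, Function.Bijective ![i, j, k, l, m] :=
      (by decide +kernel : ∀ i j : Fin 5, i ≠ j → ∃ k l m : Fin 5,
        Function.Bijective ![i, j, k, l, m]) i j h
    have h1 : Commute (F (Equiv.ofBijective _ hv)) (iroot φ f i j) := by
      show Commute (ac (iroot φ f i j) (iroot φ f k l)) (iroot φ f i j)
      exact commute_ac_self _ (hsq i j h)
    rw [hL] at h1
    rcases Int.units_eq_one_or (Equiv.Perm.sign (Equiv.ofBijective _ hv)) with e | e
    · rw [e] at h1; simpa using h1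
    · rw [e] at h1; simpa using h1

/-- an element of order three at a tetrahedral angle with an axis lies in the icosahedral group -/
theorem mem_range_of_scalar (hφ : IsFpf φ) [FiniteDimensional ℚ R] (hf : Function.Injective f)
    {w : G} (hw : w ^ 3 = 1) (hw1 : w ≠ 1) {a b : Fin 5} (hab : a ≠ b) {c : ℚ} (hc : c = 2 ∨ c = -2)
    (h : ac (root3 φ w) (root3 φ (f (axis a b))) = c • (1 : R)) : w ∈ f.range := by
  by_contra hnot
  have hclass : Frame.Classified (iroot φ f) (root3 φ w) := by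
    intro i j hij
    show ac _ (if i = j then 0 else root3 φ (f (axis i j))) = _ ∨
      ac _ (if i = j then 0 else root3 φ (f (axis i j))) = _ ∨
      Big (ac _ (if i = j then 0 else root3 φ (f (axis i j))))
    rw [if_neg hij]
    rcases hφ.pair_cases hw hw1 (axis_facts hf hij).1 (axis_facts hf hij).2 with e | e | e | e | ⟨e, -⟩
    · exact absurd ⟨_, e⟩ hnot
    · exact absurd (inv_mem_iff.1 (e ▸ ⟨_, rfl⟩ : w⁻¹ ∈ f.range)) hnot
    · exact Or.inl e
    · exact Or.inr (Or.inl e)
    · exact Or.inr (Or.inr e)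
  exact (iroot_frame hφ hf).no_axis (ltrace_isTrace R) (hφ.root3_sq hw hw1) hclass hab hc
    (by show ac _ (if a = b then 0 else root3 φ (f (axis a b))) = _; rw [if_neg hab]; exact h)

/-- **all elements of order three lie in the icosahedral group** -/
theorem mem_range_of_cube (hφ : IsFpf φ) [FiniteDimensional ℚ R] (hf : Function.Injective f)
    {w : G} (hw : w ^ 3 = 1) : w ∈ f.range := by
  by_cases hw1 : w = 1
  · rw [hw1]; exact one_mem _
  have h01 : (0 : Fin 5) ≠ 1 := by decide
  obtain ⟨hx, hx1⟩ := axis_facts hf h01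
  set x := f (axis 0 1) with hxdef
  rcases hφ.pair_cases hw hw1 hx hx1 with e | e | e | e | ⟨-, e⟩
  · exact ⟨_, e⟩
  · exact inv_mem_iff.1 (e ▸ ⟨_, rfl⟩)
  · exact hφ.mem_range_of_scalar hf hw hw1 h01 (Or.inl rfl) e
  · exact hφ.mem_range_of_scalar hf hw hw1 h01 (Or.inr rfl) e
  -- a second icosahedral group through `w` and `x`
  obtain ⟨g, hg, ⟨a, ha⟩, ⟨b, hb⟩⟩ := hφ.exists_icosa hw hw1 hx hx1 e
  have hb3 : b ^ 3 = 1 := hg (by rw [map_pow, hb, hx, map_one])
  have hb1 : b ≠ 1 := fun e => hx1 (by rw [← hb, e, map_one])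
  obtain ⟨p, q, hpq, rfl⟩ := (axis_all b hb3).resolve_left hb1
  -- adjacent axes of the second group follow each other into the first
  have step : ∀ i j k : Fin 5, i ≠ j → i ≠ k → j ≠ k → g (axis i j) ∈ f.range →
      g (axis i k) ∈ f.range := by
    intro i j k h1 h2 h3 hm
    obtain ⟨t, ht⟩ := hm
    have ht3 : t ^ 3 = 1 := hf (by rw [map_pow, ht, (axis_facts hg h1).1, map_one])
    have ht1 : t ≠ 1 := fun e => (axis_facts hg h1).2 (by rw [← ht, e, map_one])
    obtain ⟨c, d, hcd, rfl⟩ := (axis_all t ht3).resolve_left ht1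
    refine hφ.mem_range_of_scalar hf (axis_facts hg h2).1 (axis_facts hg h2).2 hcd (Or.inl rfl) ?_
    rw [ht]
    refine hφ.ac_eq_two (axis_facts hg h2).1 (axis_facts hg h2).2 (axis_facts hg h1).1
      (axis_facts hg h1).2 ?_
    rw [← map_mul]
    exact order_of_prod hg Nat.prime_three (by norm_num) (axis_adj i k j h2 h1 (Ne.symm h3)).1
      (axis_adj i k j h2 h1 (Ne.symm h3)).2
  have hrev : ∀ i j : Fin 5, g (axis i j) ∈ f.range → g (axis j i) ∈ f.range := fun i j h => by
    rw [axis_inv i j, map_inv]; exact inv_mem h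
  have hstart : g (axis p q) ∈ f.range := ⟨axis 0 1, by rw [hb]⟩
  have hstar : ∀ k, k ≠ p → g (axis p k) ∈ f.range := fun k hk => by
    by_cases hkq : k = q
    · subst hkq; exact hstart
    · exact step p q k hpq (Ne.symm hk) (Ne.symm hkq) hstart
  have hall : ∀ i j, i ≠ j → g (axis i j) ∈ f.range := fun i j hij => by
    by_cases hip : i = p
    · subst hip; exact hstar j (Ne.symm hij)
    by_cases hjp : j = p
    · subst hjp; exact hrev _ _ (hstar i hip)
    exact step i p j hip hij (Ne.symm hjp) (hrev _ _ (hstar i hip))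
  have ha3 : a ^ 3 = 1 := hg (by rw [map_pow, ha, hw, map_one])
  have ha1 : a ≠ 1 := fun e => hw1 (by rw [← ha, e, map_one])
  obtain ⟨i, j, hij, rfl⟩ := (axis_all a ha3).resolve_left ha1
  exact ha ▸ hall i j hij

end IsFpf

end Cfsg.Lib.SolvStruct.Zassenhaus
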