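import Cfsg.Agent.SolvStruct.Zassenhaus.Algebra

/-!
No axis of order three outside an icosahedral frame makes a tetrahedral angle with one of its axes.
-/

set_option autoImplicit false
set_option linter.unusedSectionVars false

namespace Cfsg.Lib.SolvStruct.Zassenhaus

variable {R : Type*} [Ring R] [Algebra ℚ R] [Nontrivial R]

/-- a functional behaving like a trace on the square roots of `20` -/
def IsTrace (τ : R →ₗ[ℚ] ℚ) : Prop :=
  τ 1 ≠ 0 ∧ ∀ E : R, E * E = (20 : ℚ) • (1 : R) → τ E = 0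

/-- `E` is a square root of `20` -/
def Big (E : R) : Prop := E * E = (20 : ℚ) • (1 : R)

theorem not_big_of_scalar {E : R} {g : ℚ} (hg : g = 2 ∨ g = -2) (hE : E = g • (1 : R)) : ¬ Big E := by
  intro h
  rw [Big, hE, smul_mul_assoc, one_mul, smul_smul] at h
  have := qone_inj h
  rcases hg with rfl | rfl <;> norm_num at this

namespace Frame

variable {u : Fin 5 → Fin 5 → R} {L : R} {r : R} {τ : R →ₗ[ℚ] ℚ}

/-- the possible anticommutators of `r` with the axes -/
def Classified (u : Fin 5 → Fin 5 → R) (r : R) : Prop :=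
  ∀ i j, i ≠ j → ac r (u i j) = (2 : ℚ) • (1 : R) ∨ ac r (u i j) = (-2 : ℚ) • (1 : R) ∨
    Big (ac r (u i j))

theorem vertex (hu : Frame u L) (hτ : IsTrace τ) (hr : r * r = (-3 : ℚ) • (1 : R))
    (hc : Classified u r) {f : ℚ} (hf : f = 2 ∨ f = -2) {i j k l m : Fin 5}
    (h : [i, j, k, l, m].Nodup) (hj : ac r (u i j) = f • (1 : R)) :
    (ac r (u i k) = -f • (1 : R) ∧ Big (ac r (u i l)) ∧ ac r (u i m) = -ac r (u i l)) ∨
    (ac r (u i l) = -f • (1 : R) ∧ Big (ac r (u i k)) ∧ ac r (u i m) = -ac r (u i k)) ∨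
    (ac r (u i m) = -f • (1 : R) ∧ Big (ac r (u i k)) ∧ ac r (u i l) = -ac r (u i k)) := by
  have hh := h
  simp only [List.nodup_cons, List.mem_cons, List.not_mem_nil, or_false, not_or, List.nodup_nil] at hh
  -- each anticommutator has a rational shadow
  have hsh : ∀ x, i ≠ x → ∃ g : ℚ, τ (ac r (u i x)) = g * τ 1 ∧
      ((g = 0 ∧ Big (ac r (u i x))) ∨ ((g = 2 ∨ g = -2) ∧ ac r (u i x) = g • (1 : R))) := by
    intro x hx
    rcases hc i x hx with e | e | e
    · exact ⟨2, by rw [e, map_smul, smul_eq_mul], Or.inr ⟨Or.inl rfl, e⟩⟩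
    · exact ⟨-2, by rw [e, map_smul, smul_eq_mul], Or.inr ⟨Or.inr rfl, e⟩⟩
    · exact ⟨0, by rw [hτ.2 _ e, zero_mul], Or.inl ⟨rfl, e⟩⟩
  obtain ⟨gk, tk, ck⟩ := hsh k (by simp [hh])
  obtain ⟨gl, tl, cl⟩ := hsh l (by simp [hh])
  obtain ⟨gm, tm, cm⟩ := hsh m (by simp [hh])
  have hs : ac r (u i j) + ac r (u i k) + ac r (u i l) + ac r (u i m) = 0 := by
    rw [← ac_add_right, ← ac_add_right, ← ac_add_right, hu.row_four h, ac_zero_right]
  have hτs := congrArg τ hs
  rw [map_add, map_add, map_add, map_zero, hj, map_smul, smul_eq_mul, tk, tl, tm, ← add_mul,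
    ← add_mul, ← add_mul, mul_eq_zero, or_iff_left hτ.1] at hτs
  rw [hj] at hs
  rcases ck with ⟨rfl, bk⟩ | ⟨vk, ek⟩ <;> rcases cl with ⟨rfl, bl⟩ | ⟨vl, el⟩ <;>
    rcases cm with ⟨rfl, bm⟩ | ⟨vm, em⟩
  · exfalso; rcases hf with rfl | rfl <;> norm_num at hτs
  · obtain rfl : gm = -f := by linarith
    refine Or.inr (Or.inr ⟨em, bk, ?_⟩)
    rw [em] at hs
    linear_combination (norm := module) hs
  · obtain rfl : gl = -f := by linarith
    refine Or.inr (Or.inl ⟨el, bk, ?_⟩)
    rw [el] at hs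
    linear_combination (norm := module) hs
  · exfalso; rcases hf with rfl | rfl <;> rcases vl with rfl | rfl <;> rcases vm with rfl | rfl <;>
      norm_num at hτs
  · obtain rfl : gk = -f := by linarith
    refine Or.inl ⟨ek, bl, ?_⟩
    rw [ek] at hs
    linear_combination (norm := module) hs
  · exfalso; rcases hf with rfl | rfl <;> rcases vk with rfl | rfl <;> rcases vm with rfl | rfl <;>
      norm_num at hτs
  · exfalso; rcases hf with rfl | rfl <;> rcases vk with rfl | rfl <;> rcases vl with rfl | rfl <;>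
      norm_num at hτs
  · exfalso
    refine (hu.tetra h).not_all_scalar hr ![f, gk, gl, gm] ?_ ?_
    · intro a; fin_cases a <;> assumption
    · intro a; fin_cases a <;> assumption

/-- a rational edge continues at its end with the same value, and no further -/
theorem next (hu : Frame u L) (hτ : IsTrace τ) (hr : r * r = (-3 : ℚ) • (1 : R))
    (hc : Classified u r) {f : ℚ} (hf : f = 2 ∨ f = -2) {a b : Fin 5} (hab : a ≠ b)
    (he : ac r (u a b) = f • (1 : R)) :
    ∃ c, c ≠ a ∧ c ≠ b ∧ ac r (u b c) = f • (1 : R) ∧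
      ∀ x, x ≠ a → x ≠ b → x ≠ c → Big (ac r (u b x)) := by
  obtain ⟨k, l, m, h⟩ : ∃ k l m : Fin 5, [b, a, k, l, m].Nodup :=
    (by decide : ∀ a b : Fin 5, a ≠ b → ∃ k l m : Fin 5, [b, a, k, l, m].Nodup) a b hab
  have hba : ac r (u b a) = (-f) • (1 : R) := by rw [hu.skew, ac_neg_right, he, neg_smul]
  have hall : ∀ x, x = b ∨ x = a ∨ x = k ∨ x = l ∨ x = m := fun x =>
    (by decide : ∀ b a k l m : Fin 5, [b, a, k, l, m].Nodup → ∀ x,
      x = b ∨ x = a ∨ x = k ∨ x = l ∨ x = m) b a k l m h x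
  have hh := h
  simp only [List.nodup_cons, List.mem_cons, List.not_mem_nil, or_false, not_or, List.nodup_nil] at hh
  obtain ⟨⟨hba', hbk, hbl, hbm⟩, ⟨hak, hal, ham⟩, -⟩ := hh
  have hf' : -f = 2 ∨ -f = -2 := by rcases hf with rfl | rfl <;> norm_num
  have hneg : ∀ E : R, Big E → Big (-E) := fun E hE => by rwa [Big, neg_mul_neg]
  rcases hu.vertex hτ hr hc hf' h hba with ⟨e, b1, b2⟩ | ⟨e, b1, b2⟩ | ⟨e, b1, b2⟩
  · refine ⟨k, Ne.symm hak, Ne.symm hbk, by rw [e, neg_neg], fun x h1 h2 h3 => ?_⟩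
    rcases hall x with rfl | rfl | rfl | rfl | rfl
    · exact absurd rfl h2
    · exact absurd rfl h1
    · exact absurd rfl h3
    · exact b1
    · rw [b2]; exact hneg _ b1
  · refine ⟨l, Ne.symm hal, Ne.symm hbl, by rw [e, neg_neg], fun x h1 h2 h3 => ?_⟩
    rcases hall x with rfl | rfl | rfl | rfl | rfl
    · exact absurd rfl h2
    · exact absurd rfl h1
    · exact b1
    · exact absurd rfl h3
    · rw [b2]; exact hneg _ b1
  · refine ⟨m, Ne.symm ham, Ne.symm hbm, by rw [e, neg_neg], fun x h1 h2 h3 => ?_⟩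
    rcases hall x with rfl | rfl | rfl | rfl | rfl
    · exact absurd rfl h2
    · exact absurd rfl h1
    · exact b1
    · rw [b2]; exact hneg _ b1
    · exact absurd rfl h3

/-- the two remaining anticommutators at a vertex cancel and commute with the whole vertex -/
theorem cancel (hu : Frame u L) (hτ : IsTrace τ) (hr : r * r = (-3 : ℚ) • (1 : R))
    (hc : Classified u r) {f : ℚ} (hf : f = 2 ∨ f = -2) {i j k l m : Fin 5}
    (h : [i, j, k, l, m].Nodup) (hj : ac r (u i j) = f • (1 : R))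
    (hk : ac r (u i k) = -f • (1 : R)) :
    Big (ac r (u i l)) ∧ ac r (u i m) = -ac r (u i l) ∧
      ∀ x, x ≠ i → Commute (ac r (u i l)) (u i x) := by
  have hf' : -f = 2 ∨ -f = -2 := by rcases hf with rfl | rfl <;> norm_num
  have hh := h
  simp only [List.nodup_cons, List.mem_cons, List.not_mem_nil, or_false, not_or, List.nodup_nil] at hh
  rcases hu.vertex hτ hr hc hf h hj with ⟨-, b1, b2⟩ | ⟨-, b1, -⟩ | ⟨-, b1, -⟩
  · refine ⟨b1, b2, ?_⟩
    have hil : Commute (ac r (u i l)) (u i l) := by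
      rw [ac_comm]; exact commute_ac_self _ (hu.sq _ _ (by simp [hh]))
    have him : Commute (ac r (u i l)) (u i m) := by
      have : Commute (ac r (u i m)) (u i m) := by
        rw [ac_comm]; exact commute_ac_self _ (hu.sq _ _ (by simp [hh]))
      rw [b2] at this
      exact Commute.neg_left_iff.1 this
    have h' : [i, l, m, j, k].Nodup :=
      (by decide : ∀ i j k l m : Fin 5, [i, j, k, l, m].Nodup → [i, l, m, j, k].Nodup) i j k l m h
    have hall := (hu.tetra h').commute_all (X := ac r (u i l)) hil him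
    intro x hx
    rcases (by decide : ∀ i j k l m : Fin 5, [i, j, k, l, m].Nodup → ∀ x, x ≠ i →
      x = l ∨ x = m ∨ x = j ∨ x = k) i j k l m h x hx with rfl | rfl | rfl | rfl
    · exact hall 0
    · exact hall 1
    · exact hall 2
    · exact hall 3
  · exact absurd b1 (not_big_of_scalar hf' hk)
  · exact absurd b1 (not_big_of_scalar hf' hk)

theorem no_five_cycle (hu : Frame u L) (hτ : IsTrace τ) (hr : r * r = (-3 : ℚ) • (1 : R))
    (hc : Classified u r) {f : ℚ} (hf : f = 2 ∨ f = -2) (h01 : ac r (u 0 1) = f • (1 : R))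
    (h12 : ac r (u 1 2) = f • (1 : R)) (h23 : ac r (u 2 3) = f • (1 : R))
    (h40 : ac r (u 4 0) = f • (1 : R)) : False := by
  have h04 : ac r (u 0 4) = -f • (1 : R) := by rw [hu.skew 4 0, ac_neg_right, h40, neg_smul]
  have h21 : ac r (u 2 1) = -f • (1 : R) := by rw [hu.skew 1 2, ac_neg_right, h12, neg_smul]
  obtain ⟨hbig, h03, hcomm⟩ := hu.cancel hτ hr hc hf (i := 0) (j := 1) (k := 4) (l := 2) (m := 3)
    (by decide) h01 h04
  set E := ac r (u 0 2) with hE
  obtain ⟨-, -, hcomm2⟩ := hu.cancel hτ hr hc hf (i := 2) (j := 3) (k := 1) (l := 0) (m := 4)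
    (by decide) h23 h21
  have h20 : ac r (u 2 0) = -E := by rw [hu.skew 0 2, ac_neg_right]
  have hE23 : Commute E (u 2 3) := by
    have := hcomm2 3 (by decide)
    rw [h20] at this
    exact Commute.neg_left_iff.1 this
  -- expand `r` at the vertex `0` and take the anticommutator with `u 2 3`
  have hx := (hu.tetra (i := 0) (j := 1) (k := 2) (l := 3) (m := 4) (by decide)).expansion r (by
    intro i j
    have hj : (![1, 2, 3, 4] j : Fin 5) ≠ 0 := by fin_cases j <;> decide
    fin_cases i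
    · show Commute (ac r (u 0 1)) _
      rw [h01]; exact (commute_qone _ _).symm
    · show Commute (ac r (u 0 2)) _
      exact hcomm _ hj
    · show Commute (ac r (u 0 3)) _
      rw [h03]; exact (hcomm _ hj).neg_left
    · show Commute (ac r (u 0 4)) _
      rw [h04]; exact (commute_qone _ _).symm)
  have hx' : (8 : ℚ) • r = -(ac r (u 0 1) * u 0 1 + ac r (u 0 2) * u 0 2 + ac r (u 0 3) * u 0 3 +
      ac r (u 0 4) * u 0 4) := hx
  have e1 : ac (u 0 1) (u 2 3) = (1 : ℚ) • L := hu.opp' 1 rfl rfl rfl rfl (by simp)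
  have e4 : ac (u 0 4) (u 2 3) = (-1 : ℚ) • L :=
    hu.opp' (Equiv.swap 1 4) (by decide) (by decide) (by decide) (by decide) (by
      rw [Equiv.Perm.sign_swap (by decide)]; norm_num)
  have e2 : ac (u 0 2) (u 2 3) = (-2 : ℚ) • (1 : R) := by
    rw [hu.skew 2 0, ac_neg_left, hu.adj 2 0 3 (by decide) (by decide) (by decide), neg_smul]
  have e3 : ac (u 0 3) (u 2 3) = (2 : ℚ) • (1 : R) := by
    rw [hu.skew 3 0, hu.skew 3 2, ac_neg_left, ac_neg_right, neg_neg,
      hu.adj 3 0 2 (by decide) (by decide) (by decide)]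
  rw [h01, h03, h04, ← hE] at hx'
  have h := congrArg (fun z => ac z (u 2 3)) hx'
  simp only [ac_smul_left, h23, ac_neg_left, ac_add_left, neg_mul, ac_mul_left _ hE23, smul_mul_assoc,
    one_mul, e1, e2, e3, e4, smul_smul, mul_smul_comm, mul_one] at h
  have hEval : E = (2 * f) • (1 : R) + (f / 2) • L := by
    linear_combination (norm := module) (-(1 / 4) : ℚ) • h
  have hb : E * E = (20 : ℚ) • (1 : R) := hbig
  rw [hEval] at hb
  simp only [add_mul, mul_add, smul_mul_assoc, mul_smul_comm, one_mul, mul_one, hu.sqL, smul_smul] at hb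
  have hf2 : f * f = 4 := by rcases hf with rfl | rfl <;> norm_num
  have hL : L = (-2 : ℚ) • (1 : R) := by
    rcases hf with rfl | rfl <;> linear_combination (norm := module) (1 / 8 : ℚ) • hb
  have := hu.sqL
  rw [hL, smul_mul_assoc, one_mul, smul_smul] at this
  have := qone_inj this
  norm_num at this

theorem no_four_cycle (hu : Frame u L) (hτ : IsTrace τ) (hr : r * r = (-3 : ℚ) • (1 : R))
    (hc : Classified u r) {f : ℚ} (hf : f = 2 ∨ f = -2) (h01 : ac r (u 0 1) = f • (1 : R))
    (h12 : ac r (u 1 2) = f • (1 : R)) (h23 : ac r (u 2 3) = f • (1 : R))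
    (h30 : ac r (u 3 0) = f • (1 : R)) : False := by
  have h03 : ac r (u 0 3) = -f • (1 : R) := by rw [hu.skew 3 0, ac_neg_right, h30, neg_smul]
  have h21 : ac r (u 2 1) = -f • (1 : R) := by rw [hu.skew 1 2, ac_neg_right, h12, neg_smul]
  obtain ⟨hbig, h04, hcomm⟩ := hu.cancel hτ hr hc hf (i := 0) (j := 1) (k := 3) (l := 2) (m := 4)
    (by decide) h01 h03
  set E := ac r (u 0 2) with hE
  obtain ⟨-, -, hcomm2⟩ := hu.cancel hτ hr hc hf (i := 2) (j := 3) (k := 1) (l := 0) (m := 4)
    (by decide) h23 h21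
  have h20 : ac r (u 2 0) = -E := by rw [hu.skew 0 2, ac_neg_right]
  have hE23 : Commute E (u 2 3) := by
    have := hcomm2 3 (by decide)
    rw [h20] at this
    exact Commute.neg_left_iff.1 this
  have hx := (hu.tetra (i := 0) (j := 1) (k := 2) (l := 3) (m := 4) (by decide)).expansion r (by
    intro i j
    have hj : (![1, 2, 3, 4] j : Fin 5) ≠ 0 := by fin_cases j <;> decide
    fin_cases i
    · show Commute (ac r (u 0 1)) _
      rw [h01]; exact (commute_qone _ _).symm
    · show Commute (ac r (u 0 2)) _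
      exact hcomm _ hj
    · show Commute (ac r (u 0 3)) _
      rw [h03]; exact (commute_qone _ _).symm
    · show Commute (ac r (u 0 4)) _
      rw [h04]; exact (hcomm _ hj).neg_left)
  have hx' : (8 : ℚ) • r = -(ac r (u 0 1) * u 0 1 + ac r (u 0 2) * u 0 2 + ac r (u 0 3) * u 0 3 +
      ac r (u 0 4) * u 0 4) := hx
  have e1 : ac (u 0 1) (u 2 3) = (1 : ℚ) • L := hu.opp' 1 rfl rfl rfl rfl (by simp)
  have e4 : ac (u 0 4) (u 2 3) = (-1 : ℚ) • L :=
    hu.opp' (Equiv.swap 1 4) (by decide) (by decide) (by decide) (by decide) (by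
      rw [Equiv.Perm.sign_swap (by decide)]; norm_num)
  have hEL : Commute E L := by
    have h4 : Commute E (ac (u 0 4) (u 2 3)) := commute_ac (hcomm 4 (by decide)) hE23
    rw [e4, neg_smul, one_smul] at h4
    exact Commute.neg_right_iff.1 h4
  have e2 : ac (u 0 2) (u 2 3) = (-2 : ℚ) • (1 : R) := by
    rw [hu.skew 2 0, ac_neg_left, hu.adj 2 0 3 (by decide) (by decide) (by decide), neg_smul]
  have e3 : ac (u 0 3) (u 2 3) = (2 : ℚ) • (1 : R) := by
    rw [hu.skew 3 0, hu.skew 3 2, ac_neg_left, ac_neg_right, neg_neg,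
      hu.adj 3 0 2 (by decide) (by decide) (by decide)]
  rw [h01, h03, h04, ← hE] at hx'
  have h := congrArg (fun z => ac z (u 2 3)) hx'
  simp only [ac_smul_left, h23, ac_neg_left, ac_add_left, neg_mul, ac_mul_left _ hE23, smul_mul_assoc,
    one_mul, e1, e2, e3, e4, smul_smul, mul_smul_comm, mul_one] at h
  have hEL' : E * L = (2 : ℚ) • E - f • L - (6 * f) • (1 : R) := by
    linear_combination (norm := module) h
  have hb : E * E = (20 : ℚ) • (1 : R) := hbig
  have h400 : E * L * (E * L) = (400 : ℚ) • (1 : R) := by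
    calc E * L * (E * L) = E * (L * E) * L := by simp only [mul_assoc]
      _ = E * E * (L * L) := by rw [← hEL.eq]; simp only [mul_assoc]
      _ = _ := by rw [hb, hu.sqL, smul_mul_assoc, one_mul, smul_smul]; norm_num
  rw [hEL'] at h400
  simp only [sub_mul, mul_sub, smul_mul_assoc, mul_smul_comm, one_mul, mul_one, hb, hu.sqL, smul_smul,
    smul_sub, hEL', ← hEL.eq] at h400
  have hEv : E = (f / 2) • L := by
    rcases hf with rfl | rfl
    · linear_combination (norm := module) (-1 / 64 : ℚ) • h400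
    · linear_combination (norm := module) (1 / 64 : ℚ) • h400
  rw [hEv, smul_mul_assoc, hu.sqL, smul_smul] at hEL'
  have h16 : (16 * f) • (1 : R) = (0 : ℚ) • (1 : R) := by
    linear_combination (norm := module) hEL'
  have := qone_inj h16
  rcases hf with rfl | rfl <;> norm_num at this

theorem no_triangle (hu : Frame u L) (hτ : IsTrace τ) (hr : r * r = (-3 : ℚ) • (1 : R))
    (hc : Classified u r) {f : ℚ} (hf : f = 2 ∨ f = -2) (h23 : ac r (u 2 3) = f • (1 : R))
    (h34 : ac r (u 3 4) = f • (1 : R)) (h42 : ac r (u 4 2) = f • (1 : R)) : False := by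
  have hLu : ∀ i j, L * u i j = u i j * L := fun i j => (hu.commL i j).eq
  have hLLx : ∀ x : R, L * (L * x) = (20 : ℚ) • x := fun x => by
    rw [← mul_assoc, hu.sqL, smul_mul_assoc, one_mul]
  -- `u 0 1` is an icosahedral direction for `r`
  have hbig : Big (ac r (u 0 1)) := by
    have hno : ∀ g : ℚ, (g = 2 ∨ g = -2) → ac r (u 0 1) ≠ g • (1 : R) := by
      intro g hg h01
      obtain ⟨c, hc0, hc1, hce, -⟩ := hu.next hτ hr hc hg (by decide : (0 : Fin 5) ≠ 1) h01
      have hc5 : c = 2 ∨ c = 3 ∨ c = 4 :=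
        (by decide : ∀ c : Fin 5, c ≠ 0 → c ≠ 1 → c = 2 ∨ c = 3 ∨ c = 4) c hc0 hc1
      have hf' : -f = 2 ∨ -f = -2 := by rcases hf with rfl | rfl <;> norm_num
      have hg' : -g = 2 ∨ -g = -2 := by rcases hg with rfl | rfl <;> norm_num
      have hback : ac r (u c 1) = -g • (1 : R) := by rw [hu.skew 1 c, ac_neg_right, hce, neg_smul]
      have hfull : ∀ i j k : Fin 5, i ≠ j → ac r (u i j) = f • (1 : R) → ac r (u j k) = f • (1 : R) →
          k ≠ i → k ≠ j → j ≠ 1 → i ≠ 1 → k ≠ 1 → Big (ac r (u j 1)) := by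
        intro i j k hij hi hk hki hkj hj1 hi1 hk1
        obtain ⟨d, hd1, hd2, hde, hbd⟩ := hu.next hτ hr hc hf hij hi
        by_cases hdk : d = k
        · exact hbd 1 (Ne.symm hi1) (Ne.symm hj1) (by rw [hdk]; exact Ne.symm hk1)
        · exact absurd (hbd k hki hkj (Ne.symm hdk)) (fun h => not_big_of_scalar hf hk h)
      rcases hc5 with rfl | rfl | rfl
      · exact not_big_of_scalar hg' hback (hfull 4 2 3 (by decide) h42 h23 (by decide) (by decide)
          (by decide) (by decide) (by decide))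
      · exact not_big_of_scalar hg' hback (hfull 2 3 4 (by decide) h23 h34 (by decide) (by decide)
          (by decide) (by decide) (by decide))
      · exact not_big_of_scalar hg' hback (hfull 3 4 2 (by decide) h34 h42 (by decide) (by decide)
          (by decide) (by decide) (by decide))
    rcases hc 0 1 (by decide) with h | h | h
    · exact absurd h (hno 2 (Or.inl rfl))
    · exact absurd h (hno (-2) (Or.inr rfl))
    · exact h
  -- the sum of the three axes is a multiple of the axis `u 0 1`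
  have o23 : ac (u 0 1) (u 2 3) = (1 : ℚ) • L := hu.opp' 1 rfl rfl rfl rfl (by simp)
  have o34 : ac (u 0 1) (u 3 4) = (1 : ℚ) • L :=
    hu.opp' (Equiv.swap 2 3 * Equiv.swap 3 4) (by decide) (by decide) (by decide) (by decide) (by
      rw [map_mul, Equiv.Perm.sign_swap (by decide), Equiv.Perm.sign_swap (by decide)]; norm_num)
  have adj2 : ∀ i j k : Fin 5, i ≠ j → i ≠ k → j ≠ k → ac (u i j) (u k i) = (-2 : ℚ) • (1 : R) :=
    fun i j k h1 h2 h3 => by rw [hu.skew i k, ac_neg_right, hu.adj i j k h1 h2 h3, neg_smul]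
  have selfc : ∀ i j : Fin 5, i ≠ j → ac (u i j) (u i j) = (-6 : ℚ) • (1 : R) := fun i j h => by
    rw [ac, hu.sq i j h, ← add_smul]; norm_num
  have hR : u 2 3 + u 3 4 + u 4 2 + (1 / 2 : ℚ) • (L * u 0 1) = 0 := by
    refine (hu.tetra (i := 3) (j := 2) (k := 4) (l := 0) (m := 1) (by decide)).eq_zero ?_ ?_ ?_
    · show ac _ (u 3 2) = 0
      have h1 : ac (u 2 3) (u 3 2) = (6 : ℚ) • (1 : R) := by
        rw [hu.skew 2 3, ac_neg_right, selfc 2 3 (by decide)]; module
      have h2 : ac (u 3 4) (u 3 2) = (2 : ℚ) • (1 : R) := hu.adj 3 4 2 (by decide) (by decide) (by decide)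
      have h3 : ac (u 4 2) (u 3 2) = (2 : ℚ) • (1 : R) := by
        rw [hu.skew 2 4, hu.skew 2 3, ac_neg_left, ac_neg_right, neg_neg,
          hu.adj 2 4 3 (by decide) (by decide) (by decide)]
      have h4 : ac (u 0 1) (u 3 2) = (-1 : ℚ) • L := by
        rw [hu.skew 2 3, ac_neg_right, o23, neg_smul]
      rw [ac_add_left, ac_add_left, ac_add_left, ac_smul_left, ac_mul_left _ (hu.commL 3 2), h1, h2,
        h3, h4, mul_smul_comm, hu.sqL]
      module
    · show ac _ (u 3 4) = 0
      have h1 : ac (u 2 3) (u 3 4) = (-2 : ℚ) • (1 : R) := by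
        rw [ac_comm]; exact adj2 3 4 2 (by decide) (by decide) (by decide)
      have h3 : ac (u 4 2) (u 3 4) = (-2 : ℚ) • (1 : R) := adj2 4 2 3 (by decide) (by decide) (by decide)
      rw [ac_add_left, ac_add_left, ac_add_left, ac_smul_left, ac_mul_left _ (hu.commL 3 4), h1, h3,
        selfc 3 4 (by decide), o34, mul_smul_comm, hu.sqL]
      module
    · show ac _ (u 3 0) = 0
      have h1 : ac (u 2 3) (u 3 0) = (-2 : ℚ) • (1 : R) := by
        rw [ac_comm]; exact adj2 3 0 2 (by decide) (by decide) (by decide)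
      have h2 : ac (u 3 4) (u 3 0) = (2 : ℚ) • (1 : R) := hu.adj 3 4 0 (by decide) (by decide) (by decide)
      have h3 : ac (u 4 2) (u 3 0) = (1 : ℚ) • L :=
        hu.opp' (Equiv.swap 0 4 * Equiv.swap 1 2 * Equiv.swap 2 3 * Equiv.swap 3 4 *
            (Equiv.swap 0 4 * Equiv.swap 1 2 * Equiv.swap 2 3 * Equiv.swap 3 4)⁻¹ *
            (Equiv.swap 0 4 * Equiv.swap 4 1 * Equiv.swap 1 2 * Equiv.swap 2 3))
          (by decide) (by decide) (by decide) (by decide) (by
            simp only [map_mul, map_inv, Equiv.Perm.sign_swap (by decide : (0 : Fin 5) ≠ 4),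
              Equiv.Perm.sign_swap (by decide : (4 : Fin 5) ≠ 1),
              Equiv.Perm.sign_swap (by decide : (1 : Fin 5) ≠ 2),
              Equiv.Perm.sign_swap (by decide : (2 : Fin 5) ≠ 3),
              Equiv.Perm.sign_swap (by decide : (3 : Fin 5) ≠ 4)]
            norm_num)
      have h4 : ac (u 0 1) (u 3 0) = (-2 : ℚ) • (1 : R) := adj2 0 1 3 (by decide) (by decide) (by decide)
      rw [ac_add_left, ac_add_left, ac_add_left, ac_smul_left, ac_mul_left _ (hu.commL 3 0), h1, h2,
        h3, h4, mul_smul_comm, mul_one]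
      module
  -- split `r` into the parts commuting and anticommuting with `L`
  set D := (1 / 40 : ℚ) • ((20 : ℚ) • r + L * r * L) with hD
  set O := (1 / 40 : ℚ) • ((20 : ℚ) • r - L * r * L) with hO
  have hDO : r = D + O := by rw [hD, hO]; module
  have hDL : L * D = D * L := by
    simp only [hD, mul_add, add_mul, mul_smul_comm, smul_mul_assoc, mul_assoc, hu.sqL, hLLx, mul_one]
    module
  have hOL : L * O = -(O * L) := by
    simp only [hO, mul_sub, sub_mul, mul_smul_comm, smul_mul_assoc, mul_assoc, hu.sqL, hLLx, mul_one]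
    module
  have hsplit : ∀ i j, ac D (u i j) = (1 / 40 : ℚ) • ((20 : ℚ) • ac r (u i j) + L * ac r (u i j) * L) ∧
      ac O (u i j) = (1 / 40 : ℚ) • ((20 : ℚ) • ac r (u i j) - L * ac r (u i j) * L) := by
    intro i j
    have h : ac (L * r * L) (u i j) = L * ac r (u i j) * L := by
      simp only [ac, mul_add, add_mul, mul_assoc, hLu i j]
      simp only [← mul_assoc, hLu i j]
    constructor
    · rw [hD, ac_smul_left, ac_add_left, ac_smul_left, h]
    · rw [hO, ac_smul_left, ac_sub_left, ac_smul_left, h]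
  have hscal : ∀ i j, ac r (u i j) = f • (1 : R) →
      ac D (u i j) = f • (1 : R) ∧ ac O (u i j) = 0 := by
    intro i j h
    obtain ⟨hd, ho⟩ := hsplit i j
    rw [hd, ho, h]
    simp only [mul_smul_comm, smul_mul_assoc, mul_one, hu.sqL]
    constructor <;> module
  clear_value D O
  obtain ⟨d23, o23'⟩ := hscal 2 3 h23
  obtain ⟨d34, o34'⟩ := hscal 3 4 h34
  obtain ⟨d42, o42'⟩ := hscal 4 2 h42
  have hR' : u 2 3 + u 3 4 + u 4 2 = -((1 / 2 : ℚ) • (L * u 0 1)) := eq_neg_of_add_eq_zero_left hR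
  have hacD : ac D (u 0 1) = (-(6 * f) / 20) • L := by
    have h := congrArg (ac D) hR'
    rw [ac_add_right, ac_add_right, d23, d34, d42, ac_neg_right, ac_smul_right,
      ac_mul_right _ (show Commute L D from hDL)] at h
    have h2 : L * ac D (u 0 1) = (-6 * f) • (1 : R) := by
      linear_combination (norm := module) (2 : ℚ) • h
    have h3 := congrArg (L * ·) h2
    simp only [hLLx, mul_smul_comm, mul_one] at h3
    linear_combination (norm := module) (1 / 20 : ℚ) • h3
  have hOu : O * u 0 1 = u 0 1 * O := by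
    have h := congrArg (ac O) hR'
    rw [ac_add_right, ac_add_right, o23', o34', o42', ac_neg_right, ac_smul_right] at h
    have h2 : ac O (L * u 0 1) = 0 := by linear_combination (norm := module) (2 : ℚ) • h
    simp only [ac, ← mul_assoc] at h2
    rw [eq_neg_of_add_eq_zero_right (show L * O + O * L = 0 by rw [hOL]; abel)] at h2
    simp only [neg_mul, mul_assoc] at h2
    have h3 := congrArg (L * ·) h2
    simp only [mul_add, mul_neg, hLLx, mul_zero] at h3
    linear_combination (norm := module) (-1 / 20 : ℚ) • h3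
  -- the part commuting with `L` is a multiple of `L * u 0 1`
  have hD' : D - (f / 20) • (L * u 0 1) = 0 := by
    set X := D - (f / 20) • (L * u 0 1) with hX
    have hXL : Commute L X := by
      refine (show Commute L D from hDL).sub_right (Commute.smul_right ?_ _)
      exact (Commute.refl L).mul_right (hu.commL 0 1)
    have x01 : ac X (u 0 1) = 0 := by
      rw [hX, ac_sub_left, ac_smul_left, ac_mul_left _ (hu.commL 0 1), hacD, selfc 0 1 (by decide),
        mul_smul_comm, mul_one]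
      module
    have x23 : ac X (u 2 3) = 0 := by
      rw [hX, ac_sub_left, ac_smul_left, ac_mul_left _ (hu.commL 2 3), d23, o23, mul_smul_comm, hu.sqL]
      module
    have x34 : ac X (u 3 4) = 0 := by
      rw [hX, ac_sub_left, ac_smul_left, ac_mul_left _ (hu.commL 3 4), d34, o34, mul_smul_comm, hu.sqL]
      module
    have x32 : ac X (u 3 2) = 0 := by rw [hu.skew 2 3, ac_neg_right, x23, neg_zero]
    -- `u 0 1` expanded at the vertex `3`
    have c30 : ac (u 0 1) (u 3 0) = (-2 : ℚ) • (1 : R) := adj2 0 1 3 (by decide) (by decide) (by decide)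
    have c31 : ac (u 0 1) (u 3 1) = (2 : ℚ) • (1 : R) := by
      rw [hu.skew 1 0, hu.skew 1 3, ac_neg_left, ac_neg_right, neg_neg,
        hu.adj 1 0 3 (by decide) (by decide) (by decide)]
    have c32 : ac (u 0 1) (u 3 2) = (-1 : ℚ) • L := by rw [hu.skew 2 3, ac_neg_right, o23, neg_smul]
    have hx := (hu.tetra (i := 3) (j := 2) (k := 4) (l := 0) (m := 1) (by decide)).expansion (u 0 1)
      (by
        intro i j
        fin_cases i
        · show Commute (ac (u 0 1) (u 3 2)) _
          rw [c32]; exact (hu.commL _ _).smul_left _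
        · show Commute (ac (u 0 1) (u 3 4)) _
          rw [o34]; exact (hu.commL _ _).smul_left _
        · show Commute (ac (u 0 1) (u 3 0)) _
          rw [c30]; exact (commute_qone _ _).symm
        · show Commute (ac (u 0 1) (u 3 1)) _
          rw [c31]; exact (commute_qone _ _).symm)
    have hx' : (8 : ℚ) • u 0 1 = -(ac (u 0 1) (u 3 2) * u 3 2 + ac (u 0 1) (u 3 4) * u 3 4 +
        ac (u 0 1) (u 3 0) * u 3 0 + ac (u 0 1) (u 3 1) * u 3 1) := hx
    rw [c32, o34, c30, c31] at hx'
    have h1 := congrArg (ac X) hx'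
    simp only [ac_smul_right, x01, smul_zero, ac_neg_right, ac_add_right, smul_mul_assoc, one_mul,
      ac_mul_right _ hXL, x32, x34, mul_zero] at h1
    have h2 := congrArg (ac X) (hu.row_four (i := 3) (j := 2) (k := 4) (l := 0) (m := 1) (by decide))
    rw [ac_add_right, ac_add_right, ac_add_right, x32, x34, ac_zero_right] at h2
    refine (hu.tetra (i := 3) (j := 2) (k := 4) (l := 0) (m := 1) (by decide)).eq_zero
      (show ac X (u 3 2) = 0 from x32) (show ac X (u 3 4) = 0 from x34) ?_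
    show ac X (u 3 0) = 0
    linear_combination (norm := module) (-1 / 4 : ℚ) • h1 + (1 / 2 : ℚ) • h2
  rw [sub_eq_zero] at hD'
  have hDD : D * D = (-3 / 5 : ℚ) • (1 : R) := by
    rw [hD']
    simp only [smul_mul_assoc, mul_smul_comm, smul_smul]
    rw [show L * u 0 1 * (L * u 0 1) = (L * L) * (u 0 1 * u 0 1) by
      rw [mul_assoc L (u 0 1), ← mul_assoc (u 0 1) L, ← hLu 0 1]; simp only [mul_assoc],
      hu.sqL, hu.sq 0 1 (by decide), smul_mul_assoc, one_mul, smul_smul, smul_smul]
    rcases hf with rfl | rfl <;> norm_num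
  have hcross : D * O + O * D = 0 := by
    rw [hD', smul_mul_assoc, mul_smul_comm, ← smul_add, ← mul_assoc O L,
      eq_neg_of_add_eq_zero_right (show L * O + O * L = 0 by rw [hOL]; abel), neg_mul,
      mul_assoc L (u 0 1), mul_assoc L O, ← hOu, add_neg_cancel, smul_zero]
  have hOO : O * O = (-12 / 5 : ℚ) • (1 : R) := by
    have h := hr
    rw [hDO, add_mul, mul_add, mul_add, hDD] at h
    linear_combination (norm := module) h - hcross
  have h20 : Big (ac r (u 0 1)) := hbig
  rw [Big, hDO, ac_add_left, hacD, show ac O (u 0 1) = (2 : ℚ) • (O * u 0 1) by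
    rw [ac, ← hOu]; module] at h20
  simp only [add_mul, mul_add, smul_mul_assoc, mul_smul_comm] at h20
  have hOuOu : O * u 0 1 * (O * u 0 1) = (36 / 5 : ℚ) • (1 : R) := by
    rw [mul_assoc O (u 0 1), ← mul_assoc (u 0 1) O, ← hOu, mul_assoc O (u 0 1) (u 0 1),
      hu.sq 0 1 (by decide), mul_smul_comm, mul_one, mul_smul_comm, hOO, smul_smul]
    norm_num
  have hLOu : O * u 0 1 * L = -(L * (O * u 0 1)) := by
    rw [mul_assoc, ← hLu 0 1, ← mul_assoc,
      eq_neg_of_add_eq_zero_right (show L * O + O * L = 0 by rw [hOL]; abel), neg_mul, mul_assoc]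
  rw [hOuOu, hLOu, hu.sqL] at h20
  have h36 : (36 : ℚ) • (1 : R) = (20 : ℚ) • (1 : R) := by
    rcases hf with rfl | rfl <;> linear_combination (norm := module) h20
  exact absurd (qone_inj h36) (by norm_num)

/-- **The key lemma.** -/
theorem no_axis (hu : Frame u L) (hτ : IsTrace τ) (hr : r * r = (-3 : ℚ) • (1 : R))
    (hc : Classified u r) {a b : Fin 5} (hab : a ≠ b) {f : ℚ} (hf : f = 2 ∨ f = -2)
    (he : ac r (u a b) = f • (1 : R)) : False := by
  have hf' : -f = 2 ∨ -f = -2 := by rcases hf with rfl | rfl <;> norm_num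
  -- relabelling
  have hrel : ∀ v : Fin 5 → Fin 5, Function.Bijective v → ∃ σ : Equiv.Perm (Fin 5),
      (∀ i, σ i = v i) ∧ Frame (fun i j => u (σ i) (σ j)) (((Equiv.Perm.sign σ : ℤ) : ℚ) • L) ∧
      Classified (fun i j => u (σ i) (σ j)) r := fun v hv =>
    ⟨Equiv.ofBijective v hv, fun _ => rfl, hu.relabel _,
      fun i j h => hc _ _ ((Equiv.injective _).ne h)⟩
  have hback : ∀ {i j : Fin 5}, ac r (u i j) = f • (1 : R) → ac r (u j i) = -f • (1 : R) := by
    intro i j h; rw [hu.skew i j, ac_neg_right, h, neg_smul]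
  obtain ⟨c, hca, hcb, hbc, hBb⟩ := hu.next hτ hr hc hf hab he
  obtain ⟨d, hdb, hdc, hcd, hBc⟩ := hu.next hτ hr hc hf (Ne.symm hcb) hbc
  by_cases hda : d = a
  · subst hda
    obtain ⟨x, y, hxy⟩ : ∃ x y : Fin 5, Function.Bijective ![x, y, d, b, c] :=
      (by decide +kernel : ∀ a b c : Fin 5, a ≠ b → c ≠ a → c ≠ b → ∃ x y : Fin 5,
        Function.Bijective ![x, y, a, b, c]) d b c hab hca hcb
    obtain ⟨σ, hσ, hF, hC⟩ := hrel _ hxy
    exact hF.no_triangle hτ hr hC hf
      (by show ac r (u (σ 2) (σ 3)) = _; rw [hσ, hσ]; exact he)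
      (by show ac r (u (σ 3) (σ 4)) = _; rw [hσ, hσ]; exact hbc)
      (by show ac r (u (σ 4) (σ 2)) = _; rw [hσ, hσ]; exact hcd)
  obtain ⟨e, hec, hed, hde, hBd⟩ := hu.next hτ hr hc hf (Ne.symm hdc) hcd
  have heb : e ≠ b := fun h => by
    subst h
    exact not_big_of_scalar hf' (hback hde) (hBb d hda hdb (fun h => hdc h))
  by_cases hea : e = a
  · subst hea
    obtain ⟨x, hx⟩ : ∃ x : Fin 5, Function.Bijective ![e, b, c, d, x] :=
      (by decide +kernel : ∀ a b c d : Fin 5, [a, b, c, d].Nodup → ∃ x : Fin 5,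
        Function.Bijective ![a, b, c, d, x]) e b c d (by
          simp [hab, Ne.symm hca, hed, Ne.symm hcb, Ne.symm hdb, Ne.symm hdc])
    obtain ⟨σ, hσ, hF, hC⟩ := hrel _ hx
    exact hF.no_four_cycle hτ hr hC hf
      (by show ac r (u (σ 0) (σ 1)) = _; rw [hσ, hσ]; exact he)
      (by show ac r (u (σ 1) (σ 2)) = _; rw [hσ, hσ]; exact hbc)
      (by show ac r (u (σ 2) (σ 3)) = _; rw [hσ, hσ]; exact hcd)
      (by show ac r (u (σ 3) (σ 0)) = _; rw [hσ, hσ]; exact hde)
  obtain ⟨g, hgd, hge, heg, -⟩ := hu.next hτ hr hc hf (Ne.symm hed) hde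
  have hnd : [a, b, c, d, e].Nodup := by
    simp [hab, Ne.symm hca, Ne.symm hda, Ne.symm hea, Ne.symm hcb, Ne.symm hdb, Ne.symm heb,
      Ne.symm hdc, Ne.symm hec, Ne.symm hed]
  obtain rfl : g = a := by
    rcases (by decide +kernel : ∀ a b c d e : Fin 5, [a, b, c, d, e].Nodup → ∀ g,
      g = a ∨ g = b ∨ g = c ∨ g = d ∨ g = e) a b c d e hnd g with h | h | h | h | h
    · exact h
    · subst h; exact absurd (hBb e hea heb hec) (not_big_of_scalar hf' (hback heg))
    · subst h; exact absurd (hBc e heb hec hed) (not_big_of_scalar hf' (hback heg))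
    · exact absurd h hgd
    · exact absurd h hge
  have hv : Function.Bijective ![g, b, c, d, e] := Finite.injective_iff_bijective.1 (by
    intro i j h
    fin_cases i <;> fin_cases j <;> first | rfl | (exfalso; simp_all))
  obtain ⟨σ, hσ, hF, hC⟩ := hrel _ hv
  exact hF.no_five_cycle hτ hr hC hf
    (by show ac r (u (σ 0) (σ 1)) = _; rw [hσ, hσ]; exact he)
    (by show ac r (u (σ 1) (σ 2)) = _; rw [hσ, hσ]; exact hbc)
    (by show ac r (u (σ 2) (σ 3)) = _; rw [hσ, hσ]; exact hcd)
    (by show ac r (u (σ 4) (σ 0)) = _; rw [hσ, hσ]; exact heg)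

end Frame

end Cfsg.Lib.SolvStruct.Zassenhaus
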