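import Cfsg.Agent.SolvStruct.Zassenhaus.NoAxis

/-!
Pairs of elements of order three in a fixed-point-free group.
-/

set_option autoImplicit false
set_option linter.unusedSectionVars false

namespace Cfsg.Lib.SolvStruct.Zassenhaus

open Polynomial

/-- A fixed-point-free homomorphism into the units of an algebra. -/
def IsFpf {G : Type*} [Group G] {R : Type*} [Ring R] (φ : G →* R) : Prop :=
  ∀ g : G, g ≠ 1 → IsUnit (φ g - 1)

/-- the left trace -/
noncomputable def ltrace (R : Type*) [Ring R] [Algebra ℚ R] : R →ₗ[ℚ] ℚ :=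
  (LinearMap.trace ℚ R).comp (Algebra.lmul ℚ R).toLinearMap

theorem ltrace_isTrace (R : Type*) [Ring R] [Algebra ℚ R] [FiniteDimensional ℚ R] [Nontrivial R] :
    IsTrace (ltrace R) := by
  constructor
  · show LinearMap.trace ℚ R (Algebra.lmul ℚ R 1) ≠ 0
    rw [map_one, LinearMap.trace_one]
    exact_mod_cast (Module.finrank_pos (R := ℚ) (M := R)).ne'
  · intro E hE
    show LinearMap.trace ℚ R (Algebra.lmul ℚ R E) = 0
    classical
    let b := Module.finBasis ℚ R
    rw [LinearMap.trace_eq_matrix_trace ℚ b]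
    set M := LinearMap.toMatrix b b (Algebra.lmul ℚ R E) with hM
    have hMM : M * M = (20 : ℚ) • 1 := by
      rw [hM, ← LinearMap.toMatrix_mul, ← map_mul, hE, map_smul, map_one, map_smul,
        LinearMap.toMatrix_one]
    set N := M.map (algebraMap ℚ ℂ) with hN
    have hNN : N * N = (20 : ℂ) • 1 := by
      rw [hN, ← Matrix.map_mul, hMM]
      ext i j
      by_cases h : i = j <;> simp [Matrix.one_apply, h]
    set s : ℂ := (Real.sqrt 20 : ℂ) with hs
    have hs2 : s * s = 20 := by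
      rw [hs, ← Complex.ofReal_mul, Real.mul_self_sqrt (by norm_num)]; norm_num
    have hroot : ∀ z ∈ N.charpoly.roots, z = s ∨ z = -s := by
      intro z hz
      rw [mem_roots', ← Matrix.mem_spectrum_iff_isRoot_charpoly] at hz
      by_contra hne
      push_neg at hne
      have hz2 : z * z - 20 ≠ 0 := by
        intro h
        rw [sub_eq_zero, ← hs2, mul_self_eq_mul_self_iff] at h
        exact h.elim hne.1 hne.2
      refine hz.2 ?_
      have hprod : (algebraMap ℂ _ z - N) * ((z * z - 20)⁻¹ • (algebraMap ℂ _ z + N)) = 1 := by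
        simp only [Algebra.algebraMap_eq_smul_one, mul_smul_comm, sub_mul, mul_add, smul_mul_assoc,
          one_mul, mul_one, hNN, smul_smul]
        have : (z * z - 20)⁻¹ * (z * z) - (z * z - 20)⁻¹ * 20 = 1 := by
          rw [← mul_sub, inv_mul_cancel₀ hz2]
        linear_combination (norm := module)
          congrArg (fun t : ℂ => t • (1 : Matrix (Fin (Module.finrank ℚ R)) (Fin (Module.finrank ℚ R)) ℂ)) this
      exact IsUnit.of_mul_eq_one _ hprod
    have htr : N.trace = algebraMap ℚ ℂ M.trace := by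
      simp [hN, Matrix.trace, map_sum]
    have hsum : ∃ k : ℤ, N.charpoly.roots.sum = (k : ℂ) * s := by
      generalize N.charpoly.roots = S at hroot
      induction S using Multiset.induction_on with
      | empty => exact ⟨0, by simp⟩
      | cons a S ih =>
        obtain ⟨k, hk⟩ := ih fun z hz => hroot z (Multiset.mem_cons_of_mem hz)
        rw [Multiset.sum_cons, hk]
        rcases hroot a (Multiset.mem_cons_self a S) with e | e
        · exact ⟨k + 1, by rw [e]; push_cast; ring⟩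
        · exact ⟨k - 1, by rw [e]; push_cast; ring⟩
    obtain ⟨k, hk⟩ := hsum
    rw [← Matrix.trace_eq_sum_roots_charpoly, htr, hs] at hk
    have hk' : ((M.trace : ℚ) : ℝ) = (k : ℝ) * Real.sqrt 20 := by
      have := congrArg Complex.re hk
      simpa using this
    rcases eq_or_ne k 0 with rfl | hk0
    · simpa using hk'
    exfalso
    have h5 : Real.sqrt 20 = 2 * Real.sqrt 5 := by
      rw [show (20 : ℝ) = 2 ^ 2 * 5 by norm_num, Real.sqrt_mul (by norm_num),
        Real.sqrt_sq (by norm_num)]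
    have hirr : Irrational (((2 * k : ℤ) : ℝ) * Real.sqrt 5) := by
      have : Irrational (Real.sqrt 5) := Nat.Prime.irrational_sqrt (p := 5) (by norm_num)
      exact this.intCast_mul (by omega)
    refine hirr ⟨M.trace, ?_⟩
    rw [hk', h5]; push_cast; ring

/-- the Dickson polynomials `t + 1/t ↦ t ^ m + 1 / t ^ m` -/
noncomputable def dickson' : ℕ → ℚ[X]
  | 0 => 2
  | 1 => X
  | m + 2 => X * dickson' (m + 1) - dickson' m

theorem dickson'_aeval {A : Type*} [Ring A] [Algebra ℚ A] {v w : A} (hvw : v * w = 1) (hwv : w * v = 1) :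
    ∀ m, aeval (v + w) (dickson' m) = v ^ m + w ^ m
  | 0 => by simp [dickson', map_ofNat, one_add_one_eq_two]
  | 1 => by simp [dickson']
  | m + 2 => by
    rw [dickson', map_sub, map_mul, aeval_X, dickson'_aeval hvw hwv (m + 1), dickson'_aeval hvw hwv m]
    simp only [add_mul, mul_add, pow_succ' v, pow_succ' w, ← mul_assoc, hvw, hwv, one_mul]
    abel

theorem two_lt_dickson' {y : ℝ} (hy : 2 < y) :
    ∀ m, 2 ≤ aeval y (dickson' m) ∧ aeval y (dickson' m) < aeval y (dickson' (m + 1))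
  | 0 => by simp [dickson', map_ofNat, hy]
  | m + 1 => by
    obtain ⟨h1, h2⟩ := two_lt_dickson' hy m
    refine ⟨by linarith, ?_⟩
    rw [dickson', map_sub, map_mul, aeval_X]
    nlinarith

variable {G : Type*} [Group G] [Finite G] {R : Type*} [Ring R] [Algebra ℚ R] [Nontrivial R] {φ : G →* R}

namespace IsFpf

theorem injective (hφ : IsFpf φ) : Function.Injective φ := by
  intro a b h
  by_contra hne
  have h0 : φ (a⁻¹ * b) = 1 := by rw [map_mul, ← h, ← map_mul, inv_mul_cancel, map_one]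
  have := hφ (a⁻¹ * b) fun e => hne (inv_mul_eq_one.1 e)
  rw [h0, sub_self] at this
  exact not_isUnit_zero this

theorem geom (hφ : IsFpf φ) {g : G} (hg : g ≠ 1) {n : ℕ} (hn : g ^ n = 1) :
    ∑ i ∈ Finset.range n, φ g ^ i = 0 := by
  refine (hφ g hg).mul_right_eq_zero.1 ?_
  rw [mul_geom_sum, ← map_pow, hn, map_one, sub_self]

theorem neg_one (hφ : IsFpf φ) {g : G} (hg : g ≠ 1) (h2 : g ^ 2 = 1) : φ g = -1 := by
  have := hφ.geom hg h2
  rw [Finset.sum_range_succ, Finset.sum_range_succ, Finset.sum_range_zero, zero_add, pow_zero,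
    pow_one] at this
  exact eq_neg_of_add_eq_zero_right this

theorem involution_unique (hφ : IsFpf φ) {g h : G} (hg : g ≠ 1) (hg2 : g ^ 2 = 1) (hh : h ≠ 1)
    (hh2 : h ^ 2 = 1) : g = h :=
  hφ.injective (by rw [hφ.neg_one hg hg2, hφ.neg_one hh hh2])

theorem cyclotomic_eq_zero (hφ : IsFpf φ) (g : G) : aeval (φ g) (cyclotomic (orderOf g) ℚ) = 0 := by
  set n := orderOf g with hn
  have hpos : 0 < n := orderOf_pos g
  have h := congrArg (aeval (φ g)) (prod_cyclotomic_eq_X_pow_sub_one hpos ℚ)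
  rw [map_sub, map_pow, aeval_X, map_one, ← map_pow, hn, pow_orderOf_eq_one, map_one, sub_self] at h
  have hmem : n ∈ n.divisors := Nat.mem_divisors_self n hpos.ne'
  rw [← Finset.mul_prod_erase _ _ hmem, map_mul] at h
  refine IsUnit.mul_left_eq_zero ?_ |>.1 h
  have key : ∀ s : Finset ℕ, (∀ d ∈ s, 0 < d ∧ d < n) →
      IsUnit (aeval (φ g) (∏ d ∈ s, cyclotomic d ℚ)) := by
    intro s
    induction s using Finset.induction_on with
    | empty => intro _; simp
    | insert d s hd ih =>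
      intro hs
      rw [Finset.prod_insert hd, map_mul]
      refine IsUnit.mul ?_ (ih fun e he => hs e (Finset.mem_insert_of_mem he))
      obtain ⟨hd0, hdn⟩ := hs d (Finset.mem_insert_self d s)
      obtain ⟨q, hq⟩ := cyclotomic.dvd_X_pow_sub_one d ℚ
      have hne : g ^ d ≠ 1 := pow_ne_one_of_lt_orderOf hd0.ne' hdn
      have hu := hφ _ hne
      rw [show φ (g ^ d) - 1 = aeval (φ g) (X ^ d - 1 : ℚ[X]) by simp, hq, map_mul] at hu
      refine ((Commute.isUnit_mul_iff ?_).1 hu).1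
      show _ * _ = _ * _
      rw [← map_mul, ← map_mul, mul_comm]
  refine key _ fun d hd => ?_
  obtain ⟨hdn, hd⟩ := Finset.mem_erase.1 hd
  obtain ⟨hdvd, -⟩ := Nat.mem_divisors.1 hd
  exact ⟨Nat.pos_of_dvd_of_pos hdvd hpos, lt_of_le_of_ne (Nat.le_of_dvd hpos hdvd) hdn⟩

/-- a rational relation between `g` and its inverse holds at every primitive root of unity -/
theorem aeval_cos (hφ : IsFpf φ) {g : G} (p : ℚ[X]) (hp : aeval (φ g + φ g⁻¹) p = 0) {k : ℕ}
    (hk : k.Coprime (orderOf g)) :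
    aeval (2 * Real.cos (2 * Real.pi * k / orderOf g)) p = 0 := by
  set n := orderOf g with hn
  have hpos : 0 < n := orderOf_pos g
  have hinv : φ g⁻¹ = φ g ^ (n - 1) := by
    rw [← map_pow]
    congr 1
    rw [eq_comm, eq_inv_iff_mul_eq_one, ← pow_succ, Nat.sub_add_cancel hpos, hn, pow_orderOf_eq_one]
  set q := p.comp (X + X ^ (n - 1)) with hq
  have hq0 : aeval (φ g) q = 0 := by
    rw [hq, aeval_comp, map_add, map_pow, aeval_X, ← hinv, hp]
  have hdvd : cyclotomic n ℚ ∣ q := by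
    by_contra hnd
    obtain ⟨a, b, hab⟩ := (cyclotomic.irreducible_rat hpos).coprime_iff_not_dvd.2 hnd
    have := congrArg (aeval (φ g)) hab
    rw [map_add, map_mul, map_mul, hφ.cyclotomic_eq_zero, hq0, mul_zero, mul_zero, add_zero, map_one] at this
    exact zero_ne_one this
  set θ : ℝ := 2 * Real.pi * k / n with hθ
  set ζ : ℂ := Complex.exp ((θ : ℂ) * Complex.I) with hζ
  have hprim : IsPrimitiveRoot ζ n := by
    have := Complex.isPrimitiveRoot_exp_of_coprime k n hpos.ne' hk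
    convert this using 1
    rw [hζ, hθ]
    push_cast
    congr 1
    ring
  have hz : aeval ζ q = 0 := by
    obtain ⟨c, hc⟩ := hdvd
    rw [hc, map_mul]
    have h0 : aeval ζ (cyclotomic n ℚ) = 0 := by
      rw [aeval_def, eval₂_eq_eval_map, map_cyclotomic]
      exact hprim.isRoot_cyclotomic hpos
    rw [h0, zero_mul]
  have hzi : ζ ^ (n - 1) = Complex.exp (-(θ : ℂ) * Complex.I) := by
    have h1 : ζ ^ (n - 1) * ζ = 1 := by rw [← pow_succ, Nat.sub_add_cancel hpos, hprim.pow_eq_one]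
    rw [neg_mul, Complex.exp_neg, ← hζ]
    exact eq_inv_of_mul_eq_one_left h1
  rw [hq, aeval_comp, map_add, map_pow, aeval_X, hzi, hζ, ← Complex.two_cos, ← Complex.ofReal_cos,
    show (2 : ℂ) * (Real.cos θ : ℂ) = ((2 * Real.cos θ : ℝ) : ℂ) by push_cast; ring,
    show ((2 * Real.cos θ : ℝ) : ℂ) = algebraMap ℝ ℂ (2 * Real.cos θ) from rfl,
    aeval_algebraMap_apply] at hz
  exact (map_eq_zero (algebraMap ℝ ℂ)).1 hz

/-- if `a + b = 1` for two such traces, the order is `1`, `3`, `4`, `6` or `10` -/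
theorem order_cases (hφ : IsFpf φ) {g h : G} (hgh : φ g + φ g⁻¹ + (φ h + φ h⁻¹) = 1) :
    orderOf g = 1 ∨ orderOf g = 3 ∨ orderOf g = 4 ∨ orderOf g = 6 ∨ orderOf g = 10 := by
  by_contra hne
  set n := orderOf g with hn
  have hpos : 0 < n := orderOf_pos g
  -- a primitive root with `cos < -1/2`
  obtain ⟨k, hk, hk1, hk2⟩ : ∃ k : ℕ, k.Coprime n ∧ n < 3 * k ∧ 3 * k < 2 * n := by
    by_cases h2 : n = 2
    · exact ⟨1, by rw [h2]; norm_num, by omega, by omega⟩
    rcases Nat.even_or_odd n with hev | ⟨m, hm⟩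
    · obtain ⟨m, hm⟩ := hev
      rcases Nat.even_or_odd m with ⟨j, hj⟩ | ⟨j, hj⟩
      · refine ⟨m - 1, ?_, by omega, by omega⟩
        have h1 : Nat.gcd (m - 1) n ∣ 2 := by
          have := Nat.dvd_sub (Nat.gcd_dvd_right (m - 1) n) ((Nat.gcd_dvd_left (m - 1) n).mul_left 2)
          rwa [show n - 2 * (m - 1) = 2 by omega] at this
        rcases (Nat.dvd_prime Nat.prime_two).1 h1 with e | e
        · exact e
        · have := Nat.gcd_dvd_left (m - 1) n
          rw [e] at this
          omega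
      · refine ⟨m - 2, ?_, by omega, by omega⟩
        have h1 : Nat.gcd (m - 2) n ∣ 2 ^ 2 := by
          have := Nat.dvd_sub (Nat.gcd_dvd_right (m - 2) n) ((Nat.gcd_dvd_left (m - 2) n).mul_left 2)
          rwa [show n - 2 * (m - 2) = 2 ^ 2 by omega] at this
        obtain ⟨e, he, heq⟩ := (Nat.dvd_prime_pow Nat.prime_two).1 h1
        rcases Nat.eq_zero_or_pos e with rfl | he0
        · exact heq
        · have : 2 ∣ m - 2 := (dvd_pow_self 2 he0.ne').trans (heq ▸ Nat.gcd_dvd_left (m - 2) n)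
          omega
    · refine ⟨m, ?_, by omega, by omega⟩
      have h1 : Nat.gcd m n ∣ 1 := by
        have := Nat.dvd_sub (Nat.gcd_dvd_right m n) ((Nat.gcd_dvd_left m n).mul_left 2)
        rwa [show n - 2 * m = 1 by omega] at this
      exact Nat.dvd_one.1 h1
  set m := orderOf h with hm
  have hp : aeval (φ g + φ g⁻¹) ((dickson' m).comp (1 - X) - 2 : ℚ[X]) = 0 := by
    rw [map_sub, aeval_comp, map_sub, map_one, aeval_X, map_ofNat]
    have e : (1 : R) - (φ g + φ g⁻¹) = φ h + φ h⁻¹ := by rw [← hgh]; abel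
    rw [e, dickson'_aeval (by rw [← map_mul, mul_inv_cancel, map_one])
      (by rw [← map_mul, inv_mul_cancel, map_one]), ← map_pow, ← map_pow, inv_pow, hm,
      pow_orderOf_eq_one, inv_one, map_one, one_add_one_eq_two, sub_self]
  have h0 := hφ.aeval_cos _ hp hk
  rw [map_sub, aeval_comp, map_sub, map_one, aeval_X, map_ofNat, sub_eq_zero] at h0
  set θ : ℝ := 2 * Real.pi * k / n with hθ
  have hcos : Real.cos θ < -(1 / 2) := by
    have hn0 : (0 : ℝ) < n := by exact_mod_cast hpos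
    have b1 : (n : ℝ) < 3 * k := by exact_mod_cast hk1
    have b2 : (3 * k : ℝ) < 2 * n := by exact_mod_cast hk2
    have hpi := Real.pi_pos
    have l1 : 2 * Real.pi / 3 < θ := by
      rw [hθ, lt_div_iff₀ hn0]; nlinarith
    have l2 : θ < 4 * Real.pi / 3 := by
      rw [hθ, div_lt_iff₀ hn0]; nlinarith
    have h1 : Real.cos (Real.pi / 3) < Real.cos |θ - Real.pi| := by
      refine Real.cos_lt_cos_of_nonneg_of_le_pi (abs_nonneg _) (by linarith) ?_
      rw [abs_lt]; constructor <;> linarith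
    rw [Real.cos_abs, Real.cos_sub_pi, Real.cos_pi_div_three] at h1
    linarith
  have hlt := two_lt_dickson' (y := 1 - 2 * Real.cos θ) (by linarith) (m - 1)
  rw [Nat.sub_add_cancel (orderOf_pos h), h0] at hlt
  linarith

end IsFpf

/-- the square root of `-3` of an element of order three -/
def root3 (φ : G →* R) (x : G) : R := (2 : ℚ) • φ x + 1

theorem root3_eq (x : G) : φ x = (1 / 2 : ℚ) • (root3 φ x - 1) := by
  rw [root3]; module

namespace IsFpf

theorem sq_three (hφ : IsFpf φ) {x : G} (hx : x ^ 3 = 1) (hx1 : x ≠ 1) :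
    φ x * φ x = -φ x - 1 := by
  have := hφ.geom hx1 hx
  rw [Finset.sum_range_succ, Finset.sum_range_succ, Finset.sum_range_succ, Finset.sum_range_zero,
    zero_add, pow_zero, pow_one, pow_two] at this
  linear_combination (norm := module) this

theorem root3_sq (hφ : IsFpf φ) {x : G} (hx : x ^ 3 = 1) (hx1 : x ≠ 1) :
    root3 φ x * root3 φ x = (-3 : ℚ) • (1 : R) := by
  simp only [root3, add_mul, mul_add, smul_mul_assoc, mul_smul_comm, one_mul, mul_one,
    hφ.sq_three hx hx1]
  module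

theorem map_inv_three (hφ : IsFpf φ) {x : G} (hx : x ^ 3 = 1) (hx1 : x ≠ 1) :
    φ x⁻¹ = -φ x - 1 := by
  rw [← hφ.sq_three hx hx1, ← map_mul]
  congr 1
  rw [inv_eq_iff_mul_eq_one, ← hx]
  simp [pow_succ, mul_assoc]

theorem root3_inv (hφ : IsFpf φ) {x : G} (hx : x ^ 3 = 1) (hx1 : x ≠ 1) :
    root3 φ x⁻¹ = -root3 φ x := by
  rw [root3, root3, hφ.map_inv_three hx hx1]; module

theorem root3_inj {x y : G} (hφ : IsFpf φ) (h : root3 φ x = root3 φ y) : x = y :=
  hφ.injective (by rw [root3_eq, h, ← root3_eq])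

variable {x y : G}

theorem trace_eq (hφ : IsFpf φ) (hx : x ^ 3 = 1) (hx1 : x ≠ 1) (hy : y ^ 3 = 1) (hy1 : y ≠ 1) :
    (4 : ℚ) • (φ (x * y) + φ (x * y)⁻¹) = (2 : ℚ) • (1 : R) + ac (root3 φ x) (root3 φ y) := by
  rw [mul_inv_rev, map_mul, map_mul, hφ.map_inv_three hx hx1, hφ.map_inv_three hy hy1]
  simp only [ac, root3, add_mul, mul_add, sub_mul, mul_sub, neg_mul, mul_neg, smul_mul_assoc,
    mul_smul_comm, one_mul, mul_one]
  module

theorem trace_add (hφ : IsFpf φ) (hx : x ^ 3 = 1) (hx1 : x ≠ 1) (hy : y ^ 3 = 1) (hy1 : y ≠ 1) :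
    φ (x * y) + φ (x * y)⁻¹ + (φ (x * y⁻¹) + φ (x * y⁻¹)⁻¹) = 1 := by
  have h1 := hφ.trace_eq hx hx1 hy hy1
  have h2 := hφ.trace_eq hx hx1 (y := y⁻¹) (by rw [inv_pow, hy, inv_one]) (by simpa using hy1)
  rw [hφ.root3_inv hy hy1, ac_neg_right] at h2
  linear_combination (norm := module) (1 / 4 : ℚ) • h1 + (1 / 4 : ℚ) • h2

theorem half_pow (hφ : IsFpf φ) {g : G} {m : ℕ} (hm : 0 < m) (h : orderOf g = 2 * m) :
    φ g ^ m = -1 := by
  rw [← map_pow]
  refine hφ.neg_one (pow_ne_one_of_lt_orderOf hm.ne' (by omega)) ?_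
  rw [← pow_mul, mul_comm, ← h, pow_orderOf_eq_one]

/-- the value of the trace for the possible orders -/
theorem trace_value (hφ : IsFpf φ) {g : G} :
    (orderOf g = 4 → φ g + φ g⁻¹ = 0) ∧ (orderOf g = 6 → φ g + φ g⁻¹ = 1) ∧
    (orderOf g = 3 → φ g + φ g⁻¹ = -1) ∧
    (orderOf g = 10 → (φ g + φ g⁻¹) * (φ g + φ g⁻¹) = φ g + φ g⁻¹ + 1) := by
  have hinv : ∀ {n : ℕ}, 0 < n → orderOf g = n → φ g⁻¹ = φ g ^ (n - 1) := by
    intro n hn h
    rw [← map_pow]
    congr 1
    rw [eq_comm, eq_inv_iff_mul_eq_one, ← pow_succ, Nat.sub_add_cancel hn, ← h, pow_orderOf_eq_one]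
  have hunit : ∀ {m : ℕ}, 1 < m → orderOf g = 2 * m → IsUnit (φ g + 1) := by
    intro m hm h
    have h1 := (hφ _ (pow_ne_one_of_lt_orderOf (x := g) (n := m + 1) (by omega) (by omega))).neg
    rw [map_pow, pow_succ', hφ.half_pow (by omega) h] at h1
    convert h1 using 1
    simp only [mul_neg, mul_one, neg_sub, sub_neg_eq_add, add_comm]
  refine ⟨fun h => ?_, fun h => ?_, fun h => ?_, fun h => ?_⟩
  · have e := hφ.half_pow (m := 2) two_pos h
    rw [hinv (by norm_num) h, show (4 : ℕ) - 1 = 2 + 1 from rfl, pow_succ, e, neg_one_mul, add_neg_cancel]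
  · have e := hφ.half_pow (m := 3) three_pos h
    rw [hinv (by norm_num) h, show (6 : ℕ) - 1 = 3 + 2 from rfl, pow_add, e]
    have : φ g ^ 2 - φ g + 1 = 0 := by
      refine (hunit (by norm_num) (show orderOf g = 2 * 3 from h)).mul_right_eq_zero.1 ?_
      simp only [add_mul, mul_add, mul_sub, mul_one, one_mul, ← pow_succ']
      rw [e, pow_two]
      abel
    linear_combination (norm := noncomm_ring) -this
  · have hg1 : g ≠ 1 := fun e => by simp [e] at h
    rw [hφ.map_inv_three (h ▸ pow_orderOf_eq_one g) hg1]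
    abel
  · have e := hφ.half_pow (m := 5) (by norm_num) h
    rw [hinv (by norm_num) h, show (10 : ℕ) - 1 = 5 + 4 from rfl, pow_add, e]
    have h0 : φ g ^ 4 - φ g ^ 3 + φ g ^ 2 - φ g + 1 = 0 := by
      refine (hunit (by norm_num) (show orderOf g = 2 * 5 from h)).mul_right_eq_zero.1 ?_
      have : φ g ^ 5 + 1 = 0 := by rw [e, neg_add_cancel]
      linear_combination (norm := noncomm_ring) this
    have e8 : φ g ^ 8 = -φ g ^ 3 := by rw [show (8 : ℕ) = 5 + 3 from rfl, pow_add, e, neg_one_mul]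
    linear_combination (norm := noncomm_ring) h0 - 2 • e + e8

theorem pair_cases (hφ : IsFpf φ) (hx : x ^ 3 = 1) (hx1 : x ≠ 1) (hy : y ^ 3 = 1) (hy1 : y ≠ 1) :
    y = x ∨ y = x⁻¹ ∨ ac (root3 φ x) (root3 φ y) = (2 : ℚ) • (1 : R) ∨
      ac (root3 φ x) (root3 φ y) = (-2 : ℚ) • (1 : R) ∨
      (Big (ac (root3 φ x) (root3 φ y)) ∧ orderOf (x * y) = 10) := by
  have ht := hφ.trace_eq hx hx1 hy hy1
  have hs := hφ.trace_add hx hx1 hy hy1
  obtain ⟨v4, v6, v3, v10⟩ := hφ.trace_value (g := x * y)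
  rcases hφ.order_cases hs with h | h | h | h | h
  · exact Or.inr (Or.inl (eq_inv_of_mul_eq_one_right (orderOf_eq_one_iff.1 h)))
  · left
    rw [v3 h] at hs
    have h2 : (φ (x * y⁻¹) - 1) * (φ (x * y⁻¹) - 1) = 0 := by
      have hb : φ (x * y⁻¹)⁻¹ = 1 + 1 - φ (x * y⁻¹) := by linear_combination (norm := noncomm_ring) hs
      have h1 : φ (x * y⁻¹) * φ (x * y⁻¹)⁻¹ = 1 := by rw [← map_mul, mul_inv_cancel, map_one]
      rw [hb] at h1
      linear_combination (norm := noncomm_ring) -h1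
    by_contra hne
    have hu := hφ (x * y⁻¹) fun e => hne (mul_inv_eq_one.1 e).symm
    exact not_isUnit_zero (h2 ▸ hu.mul hu)
  · refine Or.inr (Or.inr (Or.inr (Or.inl ?_)))
    rw [v4 h] at ht
    linear_combination (norm := module) -ht
  · refine Or.inr (Or.inr (Or.inl ?_))
    rw [v6 h] at ht
    linear_combination (norm := module) -ht
  · refine Or.inr (Or.inr (Or.inr (Or.inr ⟨?_, h⟩)))
    have ha := v10 h
    set a := φ (x * y) + φ (x * y)⁻¹
    have hc : ac (root3 φ x) (root3 φ y) = (4 : ℚ) • a - (2 : ℚ) • (1 : R) := by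
      linear_combination (norm := module) -ht
    rw [Big, hc]
    simp only [sub_mul, mul_sub, smul_mul_assoc, mul_smul_comm, one_mul, mul_one, ha]
    module

theorem ac_eq_two (hφ : IsFpf φ) (hx : x ^ 3 = 1) (hx1 : x ≠ 1) (hy : y ^ 3 = 1) (hy1 : y ≠ 1)
    (h : orderOf (x * y) = 6) : ac (root3 φ x) (root3 φ y) = (2 : ℚ) • (1 : R) := by
  have ht := hφ.trace_eq hx hx1 hy hy1
  rw [hφ.trace_value.2.1 h] at ht
  linear_combination (norm := module) -ht

theorem big_of_ten (hφ : IsFpf φ) (hx : x ^ 3 = 1) (hx1 : x ≠ 1) (hy : y ^ 3 = 1) (hy1 : y ≠ 1)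
    (h : orderOf (x * y) = 10) : Big (ac (root3 φ x) (root3 φ y)) := by
  have ht := hφ.trace_eq hx hx1 hy hy1
  have ha := hφ.trace_value.2.2.2 h
  set a := φ (x * y) + φ (x * y)⁻¹
  have hc : ac (root3 φ x) (root3 φ y) = (4 : ℚ) • a - (2 : ℚ) • (1 : R) := by
    linear_combination (norm := module) -ht
  rw [Big, hc]
  simp only [sub_mul, mul_sub, smul_mul_assoc, mul_smul_comm, one_mul, mul_one, ha]
  module

theorem root3_conj (x y : G) : root3 φ (x * y * x⁻¹) = φ x * root3 φ y * φ x⁻¹ := by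
  simp only [root3, map_mul, mul_add, add_mul, mul_smul_comm, smul_mul_assoc, mul_one, ← map_mul,
    mul_inv_cancel, map_one]

/-- the commutator of two roots in terms of a conjugate -/
theorem commutator_eq (hφ : IsFpf φ) (hx : x ^ 3 = 1) (hx1 : x ≠ 1) :
    root3 φ x * root3 φ y - root3 φ y * root3 φ x =
      (-4 : ℚ) • root3 φ (x * y * x⁻¹) - (2 : ℚ) • root3 φ y -
        ac (root3 φ x) (root3 φ y) * root3 φ x := by
  have e := hφ.root3_sq hx hx1
  rw [root3_conj, root3_eq (φ := φ) x, hφ.map_inv_three hx hx1, root3_eq (φ := φ) x]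
  set u := root3 φ x
  set v := root3 φ y
  simp only [ac, add_mul, mul_add, sub_mul, mul_sub, neg_mul, mul_neg, smul_mul_assoc, mul_smul_comm,
    one_mul, mul_one, mul_assoc, e, smul_sub, smul_add]
  module

/-- commuting elements of the same prime order generate the same group -/
theorem mem_zpowers_of_commute (hφ : IsFpf φ) {a b : G} {p : ℕ} (hp : p.Prime) (ha : orderOf a = p)
    (hb : b ^ p = 1) (hab : Commute a b) : b ∈ Subgroup.zpowers a := by
  by_contra hne
  have ha1 : a ≠ 1 := fun e => hp.one_lt.ne (by rw [← ha, e, orderOf_one])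
  have hk : ∀ k : ℕ, ∑ i ∈ Finset.range p, φ a ^ (k * i) * φ b ^ i = 0 := by
    intro k
    have h1 : a ^ k * b ≠ 1 := fun e =>
      hne (by rw [eq_inv_of_mul_eq_one_right e]; exact inv_mem (pow_mem (Subgroup.mem_zpowers a) k))
    have h2 : (a ^ k * b) ^ p = 1 := by
      rw [(hab.pow_left k).mul_pow, hb, ← pow_mul, mul_comm, pow_mul, ← ha, pow_orderOf_eq_one,
        one_pow, one_mul]
    rw [← hφ.geom h1 h2]
    refine Finset.sum_congr rfl fun i _ => ?_
    simp only [← map_pow, ← map_mul]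
    rw [(hab.pow_left k).mul_pow, ← pow_mul]
  have hsum : ∑ i ∈ Finset.range p, (∑ k ∈ Finset.range p, φ a ^ (k * i)) * φ b ^ i = 0 := by
    simp only [Finset.sum_mul]
    rw [Finset.sum_comm]
    exact Finset.sum_eq_zero fun k _ => hk k
  rw [Finset.sum_eq_single 0] at hsum
  · simp only [mul_zero, pow_zero, mul_one, Finset.sum_const, Finset.card_range, nsmul_eq_mul] at hsum
    rw [← map_natCast (algebraMap ℚ R), map_eq_zero_iff _ (algebraMap ℚ R).injective] at hsum
    exact hp.ne_zero (by exact_mod_cast hsum)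
  · intro i hi hi0
    have h1 : a ^ i ≠ 1 := pow_ne_one_of_lt_orderOf hi0 (ha ▸ Finset.mem_range.1 hi)
    have h2 : (a ^ i) ^ p = 1 := by rw [← pow_mul, mul_comm, pow_mul, ← ha, pow_orderOf_eq_one, one_pow]
    rw [show ∑ k ∈ Finset.range p, φ a ^ (k * i) = 0 by
      rw [← hφ.geom h1 h2]
      refine Finset.sum_congr rfl fun k _ => ?_
      rw [map_pow, ← pow_mul, mul_comm], zero_mul]
  · intro h
    exact absurd (Finset.mem_range.2 hp.pos) h

end IsFpf

end Cfsg.Lib.SolvStruct.Zassenhaus
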