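import Cfsg.Agent.SolvStruct.Zassenhaus.Icosa
import Cfsg.Agent.SolvStruct.Zassenhaus.DataSub
import Cfsg.Agent.Frobenius.UniqueSubgroup
import Cfsg.Agent.RankOne.QuaternionAuto
import Cfsg.Agent.Transfer.Frobenius
import Cfsg.Agent.Transfer.Basic

/-!
A non-solvable fixed-point-free group contains two elements of order three with product of order ten.
-/

set_option autoImplicit false
set_option linter.unusedSectionVars false
set_option linter.style.haveILetI false

namespace Cfsg.Lib.SolvStruct.Zassenhaus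

open Subgroup

variable {G : Type*} [Group G] [Finite G] {R : Type*} [Ring R] [Algebra ℚ R] [Nontrivial R] {φ : G →* R}

/-- a group in which squares lie in a solvable normal subgroup is solvable -/
theorem solvable_of_sq_mem {K : Type*} [Group K] (N : Subgroup K) [N.Normal]
    (hN : Group.IsSolvable N) (h : ∀ g : K, g ^ 2 ∈ N) : Group.IsSolvable K := by
  haveI := hN
  haveI : Group.IsSolvable (K ⧸ N) := by
    refine isSolvable_of_comm fun a b => ?_
    induction a using QuotientGroup.induction_on with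
    | _ a =>
    induction b using QuotientGroup.induction_on with
    | _ b =>
    have e : ∀ c : K, (c : K ⧸ N)⁻¹ = c := fun c => by
      rw [inv_eq_iff_mul_eq_one, ← QuotientGroup.mk_mul, ← pow_two, QuotientGroup.eq_one_iff]
      exact h c
    calc (a : K ⧸ N) * b = ((a : K ⧸ N) * b)⁻¹ := by rw [← QuotientGroup.mk_mul, e]
      _ = b * a := by rw [mul_inv_rev, e, e]
  exact Group.isSolvable_of_ker_le_range N.subtype (QuotientGroup.mk' N) (by simp)

namespace IsFpf

theorem restrict (hφ : IsFpf φ) (H : Subgroup G) : IsFpf (φ.comp H.subtype) :=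
  fun g hg => hφ g fun e => hg (Subtype.ext e)

theorem unique_in_pgroup (hφ : IsFpf φ) {p : ℕ} [hp : Fact p.Prime] {Q : Subgroup G} (hQ : IsPGroup p Q) :
    ∀ x y : Q, orderOf x = p → orderOf y = p → y ∈ zpowers x := by
  intro x y hx hy
  haveI : Nontrivial Q := ⟨⟨x, 1, fun e => hp.out.one_lt.ne (by rw [← hx, e, orderOf_one])⟩⟩
  haveI := hQ.center_nontrivial
  obtain ⟨k, hk0, hk⟩ := (hQ.to_subgroup (Subgroup.center Q)).nontrivial_iff_card.mp inferInstance
  obtain ⟨⟨z, hzc⟩, hz⟩ := exists_prime_orderOf_dvd_card' (G := Subgroup.center Q) p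
    (by rw [hk]; exact dvd_pow_self p (by omega))
  rw [Subgroup.orderOf_mk] at hz
  have hmem : ∀ w : Q, orderOf w = p → zpowers w = zpowers z := fun w hw => by
    have h := (hφ.restrict Q).mem_zpowers_of_commute hp.out hz (hw ▸ pow_orderOf_eq_one w)
      (mem_center_iff.1 hzc w).symm
    exact eq_of_le_of_card_ge (zpowers_le.2 h) (by rw [Nat.card_zpowers, Nat.card_zpowers, hz, hw])
  rw [hmem x hx, ← hmem y hy]
  exact mem_zpowers y

theorem cyclic_or_quaternion (hφ : IsFpf φ) {p : ℕ} [Fact p.Prime] {Q : Subgroup G}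
    (hQ : IsPGroup p Q) :
    IsCyclic Q ∨ (p = 2 ∧ ∃ n : ℕ, Nonempty (Q ≃* QuaternionGroup (2 ^ n))) :=
  Cfsg.Lib.UniqueSub.isCyclic_or_quaternion hQ (hφ.unique_in_pgroup hQ)

theorem cyclic_of_odd (hφ : IsFpf φ) {p : ℕ} [Fact p.Prime] (hp : p ≠ 2) {Q : Subgroup G}
    (hQ : IsPGroup p Q) : IsCyclic Q :=
  (hφ.cyclic_or_quaternion hQ).resolve_right fun h => hp h.1

theorem isZGroup_of_odd (hφ : IsFpf φ) (h : Odd (Nat.card G)) : IsZGroup G := by
  refine ⟨fun p hp P => ?_⟩
  haveI := Fact.mk hp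
  by_cases hp2 : p = 2
  · subst hp2
    have hP : (P : Subgroup G) = ⊥ := by
      rw [← card_eq_one, P.card_eq_multiplicity,
        Nat.factorization_eq_zero_of_not_dvd h.not_two_dvd_nat, pow_zero]
    rw [hP]; infer_instance
  · exact hφ.cyclic_of_odd hp2 P.isPGroup'

/-- if all elements of order three are central the group is solvable -/
theorem solvable_of_central_three (hφ : IsFpf φ) (hc : ∀ x : G, x ^ 3 = 1 → ∀ g : G, g * x = x * g) :
    Group.IsSolvable G := by
  haveI : Fact (Nat.Prime 3) := ⟨Nat.prime_three⟩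
  haveI : Fact (Nat.Prime 2) := ⟨Nat.prime_two⟩
  -- a normal `3`-complement
  have h3 : Cfsg.HasNormalPComplement 3 G := by
    refine Cfsg.Lib.Transfer.hasNormalPComplement_of_frobenius fun Q hQ g hg hcop => ?_
    haveI := hφ.cyclic_of_odd (by norm_num) hQ
    obtain ⟨⟨t, ht⟩, hgen⟩ := IsCyclic.exists_generator (α := Q)
    obtain ⟨e, he⟩ := (IsPGroup.iff_orderOf.1 hQ) ⟨t, ht⟩
    rw [Subgroup.orderOf_mk] at he
    have hcen : Commute g t := by
      rcases Nat.eq_zero_or_pos e with rfl | he0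
      · rw [pow_zero, orderOf_eq_one_iff] at he
        rw [he]; exact Commute.one_right g
      obtain ⟨r, hr⟩ : ∃ r : ℤ, g * t * g⁻¹ = t ^ r := by
        obtain ⟨r, hr⟩ := mem_zpowers_iff.1 (hgen ⟨g * t * g⁻¹, (mem_normalizer_iff.1 hg t).1 ht⟩)
        exact ⟨r, (congrArg Subtype.val hr).symm⟩
      -- `r ≡ 1` modulo `3`
      have h1 : (3 : ℤ) ∣ r - 1 := by
        set s := t ^ (3 ^ (e - 1)) with hs
        have hs3 : s ^ 3 = 1 := by
          rw [hs, ← pow_mul, ← pow_succ, Nat.sub_add_cancel he0, ← he, pow_orderOf_eq_one]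
        have hso : orderOf s = 3 :=
          orderOf_eq_prime hs3 (pow_ne_one_of_lt_orderOf (by positivity)
            (by rw [he]; exact Nat.pow_lt_pow_right (by norm_num) (by omega)))
        have h2 : g * s * g⁻¹ = s := by rw [hc s hs3 g, mul_inv_cancel_right]
        rw [hs, ← conj_pow, hr, ← zpow_natCast, ← zpow_mul, ← zpow_natCast t, mul_comm r,
          zpow_mul, zpow_natCast, ← hs] at h2
        have h4 : s ^ (r - 1) = 1 := by rw [zpow_sub, h2, zpow_one, mul_inv_cancel]
        have := orderOf_dvd_iff_zpow_eq_one.2 h4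
        rwa [hso] at this
      have hiter : ∀ k : ℕ, g ^ k * t * (g ^ k)⁻¹ = t ^ (r ^ k) := by
        intro k
        induction k with
        | zero => simp
        | succ k ih =>
          rw [pow_succ', show g * g ^ k * t * (g * g ^ k)⁻¹ = g * (g ^ k * t * (g ^ k)⁻¹) * g⁻¹ by group,
            ih, ← conj_zpow, hr, ← zpow_mul, pow_succ']
      have h5 : ((3 : ℤ)) ^ (e + 1) ∣ r ^ (3 ^ e) - 1 ^ (3 ^ e) := dvd_sub_pow_of_dvd_sub h1 e
      rw [one_pow] at h5
      have h6 : Commute (g ^ (3 ^ e)) t := by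
        have h7 : t ^ (r ^ (3 ^ e) - 1) = 1 := by
          refine orderOf_dvd_iff_zpow_eq_one.1 ?_
          rw [he]
          push_cast
          exact (pow_dvd_pow (3 : ℤ) (Nat.le_succ e)).trans h5
        have h8 := hiter (3 ^ e)
        rw [show r ^ (3 ^ e) = (r ^ (3 ^ e) - 1) + 1 by ring, zpow_add, h7, one_mul, zpow_one] at h8
        exact mul_inv_eq_iff_eq_mul.1 h8
      obtain ⟨m, hm⟩ := exists_pow_eq_self_of_coprime (x := g) (n := 3 ^ e) (hcop.symm.pow_left e)
      exact hm ▸ h6.pow_left m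
    intro a ha
    obtain ⟨i, hi⟩ := mem_zpowers_iff.1 (hgen ⟨a, ha⟩)
    rw [show a = t ^ i from (congrArg Subtype.val hi).symm]
    exact (hcen.zpow_right i).symm.eq
  obtain ⟨M, hM, hMc, k, hk⟩ := Cfsg.Lib.Transfer.hasNormalPComplement_iff.1 h3
  haveI := hM
  -- a normal `2`-complement in it
  have hφM := hφ.restrict M
  have h2 : Cfsg.HasNormalPComplement 2 M := by
    refine Cfsg.Lib.Transfer.hasNormalPComplement_of_frobenius fun Q hQ g hg hcop => ?_
    have hodd : Odd (orderOf g) := (Nat.coprime_two_right).1 hcop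
    set σ : MulAut Q := Subgroup.normalizerMonoidHom Q ⟨g, hg⟩ with hσ
    have hσo : Odd (orderOf σ) := by
      refine hodd.of_dvd_nat ((orderOf_map_dvd _ _).trans ?_)
      rw [Subgroup.orderOf_mk]
    have hcyc : IsCyclic Q ∨ ∃ n : ℕ, Nonempty (Q ≃* QuaternionGroup (2 ^ n)) :=
      (hφM.cyclic_or_quaternion hQ).imp id fun h => h.2
    have h1 : σ = 1 := by
      by_contra hne
      obtain ⟨-, h3'⟩ := Cfsg.Lib.RankOne.odd_auto_quaternion hQ hcyc σ hσo hne
      have h3d : orderOf σ = 3 := orderOf_eq_prime h3' hne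
      have hd : orderOf σ ∣ Nat.card M := by
        refine ((orderOf_map_dvd _ _).trans ?_).trans (orderOf_dvd_natCard g)
        rw [Subgroup.orderOf_mk]
      rw [h3d] at hd
      exact (by norm_num : (3 : ℕ) ≠ 1) (Nat.eq_one_of_dvd_coprimes hMc hd dvd_rfl)
    intro a ha
    have h := congrArg Subtype.val (DFunLike.congr_fun h1 ⟨a, ha⟩)
    have h' : g * a * g⁻¹ = a := h
    exact (mul_inv_eq_iff_eq_mul.1 h').symm
  obtain ⟨N, hN, hNc, l, hl⟩ := Cfsg.Lib.Transfer.hasNormalPComplement_iff.1 h2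
  haveI := hN
  haveI := (hφM.restrict N).isZGroup_of_odd (Nat.coprime_two_right.1 hNc)
  haveI : Group.IsSolvable (M ⧸ N) := by
    haveI := (IsPGroup.of_card (p := 2) (G := M ⧸ N) (by rw [← index_eq_card]; exact hl)).isNilpotent
    infer_instance
  haveI : Group.IsSolvable M :=
    Group.isSolvable_of_ker_le_range N.subtype (QuotientGroup.mk' N) (by simp)
  haveI : Group.IsSolvable (G ⧸ M) := by
    haveI := (IsPGroup.of_card (p := 3) (G := G ⧸ M) (by rw [← index_eq_card]; exact hk)).isNilpotent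
    infer_instance
  exact Group.isSolvable_of_ker_le_range M.subtype (QuotientGroup.mk' M) (by simp)

/-- if four subgroups contain all elements of order three the group is solvable -/
theorem solvable_of_four (hφ : IsFpf φ) (v : Fin 4 → G)
    (hv : ∀ w : G, w ^ 3 = 1 → w ≠ 1 → ∃ i, w = v i ∨ w = (v i)⁻¹) : Group.IsSolvable G := by
  classical
  let Ω := {H : Subgroup G // Nat.card H = 3}
  letI : MulAction G Ω :=
    { smul := fun g H => ⟨(H.1).map (MulAut.conj g).toMonoidHom, by
        rw [Subgroup.card_map_of_injective (MulAut.conj g).injective]; exact H.2⟩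
      one_smul := fun H => Subtype.ext (by
        show (H.1).map (MulAut.conj (1 : G)).toMonoidHom = H.1
        rw [map_one]; exact Subgroup.map_id (H.1))
      mul_smul := fun g h H => Subtype.ext (by
        show (H.1).map (MulAut.conj (g * h)).toMonoidHom =
          ((H.1).map (MulAut.conj h).toMonoidHom).map (MulAut.conj g).toMonoidHom
        rw [Subgroup.map_map]
        congr 1
        ext a
        simp [mul_assoc]) }
  have hΩ : Nat.card Ω ≤ 4 := by
    have hgen : ∀ H : Ω, ∃ i, H.1 = zpowers (v i) := by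
      rintro ⟨H, hH⟩
      haveI : Fact (Nat.Prime 3) := ⟨Nat.prime_three⟩
      haveI : Nontrivial H := Finite.one_lt_card_iff_nontrivial.1 (by omega)
      obtain ⟨⟨w, hw⟩, hw1⟩ := exists_ne (1 : H)
      have hw1' : w ≠ 1 := fun e => hw1 (Subtype.ext e)
      have hw3 : w ^ 3 = 1 := by
        have := pow_card_eq_one' (x := (⟨w, hw⟩ : H))
        rw [hH] at this
        exact congrArg Subtype.val this
      have hHw : zpowers w = H :=
        eq_of_le_of_card_ge (zpowers_le.2 hw) (by rw [hH, Nat.card_zpowers, orderOf_eq_prime hw3 hw1'])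
      obtain ⟨i, e | e⟩ := hv w hw3 hw1'
      · exact ⟨i, show H = _ by rw [← e, hHw]⟩
      · exact ⟨i, show H = _ by rw [← hHw, e, zpowers_inv]⟩
    choose pick hpick using hgen
    have hinj : Function.Injective pick := fun a b h => Subtype.ext (by rw [hpick a, hpick b, h])
    simpa using Nat.card_le_card_of_injective pick hinj
  set ψ := MulAction.toPermHom G Ω
  haveI : Group.IsSolvable ψ.range := by
    refine Cfsg.Lib.Presentations.isSolvable_of_card_lt_sixty _ _ rfl ?_
    calc Nat.card ψ.range ≤ Nat.card (Equiv.Perm Ω) :=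
          Nat.card_le_card_of_injective _ Subtype.val_injective
      _ = (Nat.card Ω).factorial := Nat.card_perm
      _ ≤ Nat.factorial 4 := Nat.factorial_le hΩ
      _ < 60 := by decide
  haveI : Group.IsSolvable ψ.ker := by
    -- squares centralise all elements of order three
    let C : Subgroup ψ.ker :=
      { carrier := {g | ∀ x : G, x ^ 3 = 1 → (g : G) * x = x * g}
        one_mem' := fun x _ => by simp
        mul_mem' := fun {a b} ha hb x hx => by
          push_cast
          rw [mul_assoc, hb x hx, ← mul_assoc, ha x hx, mul_assoc]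
        inv_mem' := fun {a} ha x hx => by
          push_cast
          rw [inv_mul_eq_iff_eq_mul, ← mul_assoc, ha x hx, mul_inv_cancel_right] }
    haveI : C.Normal := ⟨fun a ha g x hx => by
      push_cast
      have h := ha ((g : G)⁻¹ * x * g) (by
        rw [show (g : G)⁻¹ * x * g = (g : G)⁻¹ * x * ((g : G)⁻¹)⁻¹ by group, conj_pow, hx]; group)
      calc (g : G) * a * (g : G)⁻¹ * x = g * (a * ((g : G)⁻¹ * x * g)) * (g : G)⁻¹ := by group
        _ = g * (((g : G)⁻¹ * x * g) * a) * (g : G)⁻¹ := by rw [h]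
        _ = x * (g * a * (g : G)⁻¹) := by group⟩
    refine solvable_of_sq_mem C ?_ fun g => ?_
    · exact ((hφ.restrict ψ.ker).restrict C).solvable_of_central_three fun x hx g => by
        apply Subtype.ext
        apply Subtype.ext
        exact g.2 _ (congrArg (fun z : C => ((z : ψ.ker) : G)) hx)
    · intro x hx
      by_cases hx1 : x = 1
      · simp [hx1]
      have ho : orderOf x = 3 := orderOf_eq_prime hx hx1
      let H : Ω := ⟨zpowers x, by rw [Nat.card_zpowers, ho]⟩
      have hfix : (zpowers x).map (MulAut.conj (g : G)).toMonoidHom = zpowers x :=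
        congrArg Subtype.val (Equiv.congr_fun (MonoidHom.mem_ker.1 g.2) H)
      have hmem : (g : G) * x * (g : G)⁻¹ ∈ zpowers x := by
        rw [← hfix]; exact mem_map_of_mem _ (mem_zpowers x)
      obtain ⟨i, hi, hgi⟩ : ∃ i, i < 3 ∧ x ^ i = (g : G) * x * (g : G)⁻¹ := by
        obtain ⟨i, hi⟩ := (Submonoid.mem_powers_iff _ _).1 ((mem_powers_iff_mem_zpowers).2 hmem)
        exact ⟨i % 3, Nat.mod_lt _ (by norm_num), by rw [← ho, pow_mod_orderOf, hi]⟩
      have h2 : (g : G) * ((g : G) * x * (g : G)⁻¹) * (g : G)⁻¹ = x := by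
        rw [← hgi, ← conj_pow, ← hgi, ← pow_mul]
        interval_cases i
        · rw [pow_zero] at hgi
          exact absurd (conj_eq_one_iff.1 hgi.symm) hx1
        · simp
        · rw [show 2 * 2 = 3 + 1 from rfl, pow_add, hx, one_mul, pow_one]
      push_cast
      calc (g : G) ^ 2 * x = (g : G) * ((g : G) * x * (g : G)⁻¹) * (g : G)⁻¹ * (g : G) ^ 2 := by rw [pow_two]; group
        _ = x * (g : G) ^ 2 := by rw [h2]
  exact Group.isSolvable_of_ker_le_range ψ.ker.subtype ψ.rangeRestrict (by simp)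

/-- **a non-solvable group has a pair generating a binary icosahedral group** -/
theorem exists_ten (hφ : IsFpf φ) (hns : ¬ Group.IsSolvable G) :
    ∃ x y : G, x ^ 3 = 1 ∧ x ≠ 1 ∧ y ^ 3 = 1 ∧ y ≠ 1 ∧ orderOf (x * y) = 10 := by
  by_contra hno
  push_neg at hno
  apply hns
  have hpair : ∀ x y : G, x ^ 3 = 1 → x ≠ 1 → y ^ 3 = 1 → y ≠ 1 → y = x ∨ y = x⁻¹ ∨
      ac (root3 φ x) (root3 φ y) = (2 : ℚ) • (1 : R) ∨
      ac (root3 φ x) (root3 φ y) = (-2 : ℚ) • (1 : R) := by
    intro x y hx hx1 hy hy1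
    rcases hφ.pair_cases hx hx1 hy hy1 with h | h | h | h | ⟨-, h⟩
    · exact Or.inl h
    · exact Or.inr (Or.inl h)
    · exact Or.inr (Or.inr (Or.inl h))
    · exact Or.inr (Or.inr (Or.inr h))
    · exact absurd h (hno x y hx hx1 hy hy1)
  by_cases h1 : ∃ x y : G, x ^ 3 = 1 ∧ x ≠ 1 ∧ y ^ 3 = 1 ∧ y ≠ 1 ∧
      ac (root3 φ x) (root3 φ y) = (2 : ℚ) • (1 : R)
  · obtain ⟨x, y, hx, hx1, hy, hy1, hc⟩ := h1
    set z := x * y * x⁻¹ with hz
    set z' := x * z * x⁻¹ with hz'
    have hconj : ∀ a b : G, a ^ 3 = 1 → a ≠ 1 → (b * a * b⁻¹) ^ 3 = 1 ∧ b * a * b⁻¹ ≠ 1 :=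
      fun a b ha ha1 => ⟨by rw [conj_pow, ha, mul_one, mul_inv_cancel],
        fun e => ha1 (conj_eq_one_iff.1 e)⟩
    obtain ⟨hz3, hz1⟩ := hconj y x hy hy1
    obtain ⟨hz'3, hz'1⟩ := hconj z x hz3 hz1
    have hz'' : x * z' * x⁻¹ = y := by
      rw [hz', hz, show x * (x * (x * y * x⁻¹) * x⁻¹) * x⁻¹ = (x * x * x) * y * (x * x * x)⁻¹ by group,
        ← pow_three', hx]
      group
    have hci : φ x⁻¹ * φ x = 1 := by rw [← map_mul, inv_mul_cancel, map_one]
    have hic : φ x * φ x⁻¹ = 1 := by rw [← map_mul, mul_inv_cancel, map_one]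
    have hac : ∀ (a b : G) (q : ℚ), ac (root3 φ a) (root3 φ b) = q • (1 : R) →
        ac (root3 φ (x * a * x⁻¹)) (root3 φ (x * b * x⁻¹)) = q • (1 : R) := by
      intro a b q h
      rw [root3_conj, root3_conj]
      have e : ∀ c d : R, φ x * c * φ x⁻¹ * (φ x * d * φ x⁻¹) = φ x * (c * d) * φ x⁻¹ := fun c d => by
        simp only [mul_assoc]
        rw [← mul_assoc (φ x⁻¹) (φ x), hci, one_mul]
      rw [ac, e, e, ← add_mul, ← mul_add, show root3 φ a * root3 φ b + root3 φ b * root3 φ a = q • (1 : R) from h,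
        mul_smul_comm, mul_one, smul_mul_assoc, hic]
    have hxx : x * x * x⁻¹ = x := mul_inv_cancel_right x x
    have cxz : ac (root3 φ x) (root3 φ z) = (2 : ℚ) • (1 : R) := by
      have := hac x y 2 hc; rwa [hxx, ← hz] at this
    have cxz' : ac (root3 φ x) (root3 φ z') = (2 : ℚ) • (1 : R) := by
      have := hac x z 2 cxz; rwa [hxx, ← hz'] at this
    have hP := hφ.commutator_eq (x := x) (y := y) hx hx1
    rw [hc, ← hz, smul_mul_assoc, one_mul] at hP
    set u := root3 φ x
    set v := root3 φ y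
    have hu2 : u * u = (-3 : ℚ) • (1 : R) := hφ.root3_sq hx hx1
    have hv2 : v * v = (-3 : ℚ) • (1 : R) := hφ.root3_sq hy hy1
    have cyz : ac v (root3 φ z) = (2 : ℚ) • (1 : R) := by
      have h0 : ac v (u * v - v * u) = 0 := by
        simp only [ac, mul_sub, sub_mul, ← mul_assoc, hv2]
        simp only [mul_assoc, hv2, smul_mul_assoc, mul_smul_comm, one_mul, mul_one]
        abel
      rw [hP, ac_sub_right, ac_sub_right, ac_smul_right, ac_smul_right, ac_smul_right, ac_comm v u, hc] at h0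
      have hvv : ac v v = (-6 : ℚ) • (1 : R) := by rw [ac, hv2, ← add_smul]; norm_num
      rw [hvv] at h0
      linear_combination (norm := module) (-1 / 4 : ℚ) • h0
    have czz' : ac (root3 φ z) (root3 φ z') = (2 : ℚ) • (1 : R) := by
      have := hac y z 2 cyz; rwa [← hz, ← hz'] at this
    have cz'y : ac (root3 φ z') v = (2 : ℚ) • (1 : R) := by
      have := hac z z' 2 czz'; rwa [← hz', hz''] at this
    let w : Fin 4 → R := ![u, v, root3 φ z, root3 φ z']
    have hself : ∀ a : R, a * a = (-3 : ℚ) • (1 : R) → ac a a = (-6 : ℚ) • (1 : R) := fun a h => by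
      rw [ac, h, ← add_smul]; norm_num
    have hz2 : root3 φ z * root3 φ z = (-3 : ℚ) • (1 : R) := hφ.root3_sq hz3 hz1
    have hz'2 : root3 φ z' * root3 φ z' = (-3 : ℚ) • (1 : R) := hφ.root3_sq hz'3 hz'1
    have htriple : ac (root3 φ z) (u * v - v * u) = (16 : ℚ) • (1 : R) := by
      rw [hP, ac_sub_right, ac_sub_right, ac_smul_right, ac_smul_right, ac_smul_right, hself _ hz2,
        ac_comm _ v, cyz, ac_comm _ u, cxz]
      module
    have hT : Tetra w := by
      refine ⟨fun i => ?_, fun i j hij => ?_, ?_, ⟨16, by norm_num, htriple⟩⟩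
      · fin_cases i <;> assumption
      · fin_cases i <;> fin_cases j <;> first
          | exact absurd rfl hij
          | assumption
          | (rw [ac_comm]; assumption)
      · show u + v + root3 φ z + root3 φ z' = 0
        refine eq_zero_of_ac (show (16 : ℚ) ≠ 0 by norm_num) ?_ ?_ ?_ htriple
        · simp only [ac_add_left, hself _ hu2, ac_comm v u, hc, ac_comm (root3 φ z) u, cxz,
            ac_comm (root3 φ z') u, cxz']
          module
        · simp only [ac_add_left, hself _ hv2, hc, ac_comm (root3 φ z) v, cyz, cz'y]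
          module
        · simp only [ac_add_left, hself _ hz2, cxz, cyz, ac_comm (root3 φ z') (root3 φ z), czz']
          module
    refine hφ.solvable_of_four ![x, y, z, z'] fun r hr hr1 => ?_
    by_contra hnot
    push_neg at hnot
    have hall : ∀ i, ∃ q : ℚ, (q = 2 ∨ q = -2) ∧ ac (root3 φ r) (w i) = q • (1 : R) := by
      intro i
      have : ∀ a : G, a ^ 3 = 1 → a ≠ 1 → r ≠ a → r ≠ a⁻¹ →
          ∃ q : ℚ, (q = 2 ∨ q = -2) ∧ ac (root3 φ r) (root3 φ a) = q • (1 : R) := by
        intro a ha ha1 h h'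
        rcases hpair r a hr hr1 ha ha1 with e | e | e | e
        · exact absurd e.symm h
        · exact absurd (by rw [e, inv_inv]) h'
        · exact ⟨2, Or.inl rfl, e⟩
        · exact ⟨-2, Or.inr rfl, e⟩
      fin_cases i
      · exact this x hx hx1 (hnot 0).1 (hnot 0).2
      · exact this y hy hy1 (hnot 1).1 (hnot 1).2
      · exact this z hz3 hz1 (hnot 2).1 (hnot 2).2
      · exact this z' hz'3 hz'1 (hnot 3).1 (hnot 3).2
    choose q hq hq' using hall
    exact hT.not_all_scalar (hφ.root3_sq hr hr1) q hq hq'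
  · push_neg at h1
    by_cases h2 : ∃ x : G, x ^ 3 = 1 ∧ x ≠ 1
    · obtain ⟨x, hx, hx1⟩ := h2
      refine hφ.solvable_of_four (fun _ => x) fun w hw hw1 => ⟨0, ?_⟩
      rcases hpair x w hx hx1 hw hw1 with e | e | e | e
      · exact Or.inl e
      · exact Or.inr e
      · exact absurd e (h1 x w hx hx1 hw hw1)
      · refine absurd ?_ (h1 x w⁻¹ hx hx1 (by rw [inv_pow, hw, inv_one]) (by simpa using hw1))
        rw [hφ.root3_inv hw hw1, ac_neg_right, e, ← neg_smul, neg_neg]
    · push_neg at h2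
      refine hφ.solvable_of_central_three fun x hx g => ?_
      rw [h2 x hx, mul_one, one_mul]

end IsFpf

end Cfsg.Lib.SolvStruct.Zassenhaus
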